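import Groth.Agent.RatCurv.K888.ExtCrit

set_option autoImplicit false

/-!
# The domain of definition of a rational map contains the points where it extends to the local ring
-/

universe u

open CategoryTheory AlgebraicGeometry Limits

namespace K888.Domain

open K888.ExtCrit

variable {k : Type u} [Field k] {S : Scheme.{u}} (pS : S ⟶ Spec (CommRingCat.of k)) [IsIntegral S]
  {Y : Scheme.{u}} (pY : Y ⟶ Spec (CommRingCat.of k)) [IsSeparated pY] [LocallyOfFiniteType pY]
  (U : S.Opens) (hU : (U : Set S).Nonempty) (f : (U : Scheme.{u}) ⟶ Y)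

theorem exists_domain (hf : f ≫ pY = U.ι ≫ pS) :
    ∃ (D : S.Opens) (hUD : U ≤ D) (f₁ : (D : Scheme.{u}) ⟶ Y), f₁ ≫ pY = D.ι ≫ pS ∧ S.homOfLE hUD ≫ f₁ = f ∧
      ∀ x : S, (∃ l : Spec (S.presheaf.stalk x) ⟶ Y,
        Spec.map (CommRingCat.ofHom (algebraMap (S.presheaf.stalk x) S.functionField)) ≫ l = gen U hU f) → x ∈ D := by
  let _ : S.Over (Spec (CommRingCat.of k)) := ⟨pS⟩
  let _ : Y.Over (Spec (CommRingCat.of k)) := ⟨pY⟩
  have hY1 : IsSeparated (Y ↘ Spec (CommRingCat.of k)) := ‹IsSeparated pY›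
  have hY2 : LocallyOfFiniteType (Y ↘ Spec (CommRingCat.of k)) := ‹LocallyOfFiniteType pY›
  have hYs : Y.IsSeparated := by
    constructor
    rw [← terminal.comp_from pY]
    infer_instance
  let f₀ : S.PartialMap Y := pm U hU f
  have hf₀ : f₀.IsOver (Spec (CommRingCat.of k)) := by
    rw [Scheme.PartialMap.isOver_iff]
    exact hf
  let r : S ⤏ Y := f₀.toRationalMap
  have hr : r.IsOver (Spec (CommRingCat.of k)) := inferInstance
  let f₁ := r.toPartialMap
  have hf₁ : f₁.IsOver (Spec (CommRingCat.of k)) := inferInstance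
  have hf₁' : f₁.hom ≫ pY = f₁.domain.ι ≫ pS := by
    rw [Scheme.PartialMap.isOver_iff] at hf₁
    exact hf₁
  have hmem : ∀ x : S, (∃ l : Spec (S.presheaf.stalk x) ⟶ Y,
        Spec.map (CommRingCat.ofHom (algebraMap (S.presheaf.stalk x) S.functionField)) ≫ l = gen U hU f) →
        x ∈ f₁.domain := by
    rintro x ⟨l, hl⟩
    have hover : l ≫ pY = S.fromSpecStalk x ≫ pS := by
      have h1 : Spec.map (CommRingCat.ofHom (algebraMap (S.presheaf.stalk x) S.functionField)) ≫ (l ≫ pY) =
          Spec.map (CommRingCat.ofHom (algebraMap (S.presheaf.stalk x) S.functionField)) ≫ (S.fromSpecStalk x ≫ pS) := by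
        rw [← Category.assoc, hl, gen_comp pS pY U hU f hf, ← Category.assoc]
        congr 1
        exact (Scheme.SpecMap_stalkSpecializes_fromSpecStalk (genericPoint_specializes x)).symm
      obtain ⟨a, ha⟩ : ∃ a : CommRingCat.of k ⟶ S.presheaf.stalk x, l ≫ pY = Spec.map a := ⟨_, (Spec.map_preimage _).symm⟩
      obtain ⟨b, hb⟩ : ∃ b : CommRingCat.of k ⟶ S.presheaf.stalk x, S.fromSpecStalk x ≫ pS = Spec.map b :=
        ⟨_, (Spec.map_preimage _).symm⟩
      rw [ha, hb] at h1 ⊢
      rw [← Spec.map_comp, ← Spec.map_comp] at h1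
      have h2 := Spec.map_injective h1
      congr 1
      apply CommRingCat.hom_ext
      apply RingHom.ext
      intro z
      apply IsFractionRing.injective (S.presheaf.stalk x) S.functionField
      exact congrArg (fun g => g.hom z) h2
    obtain ⟨g, hg, hgf, hx'⟩ := (Groth.Agent.S2283.result (Spec (CommRingCat.of k)) S Y r x).mpr ⟨l, hover, by
      rw [Scheme.RationalMap.fromFunctionField_toRationalMap]
      exact hl⟩
    change x ∈ r.domain
    rw [← hgf]
    exact g.le_domain_toRationalMap hx'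
  have hle : U ≤ f₁.domain := f₀.le_domain_toRationalMap
  have h1 := Scheme.PartialMap.toPartialMap_toRationalMap_restrict f₀
  have h2 : S.homOfLE hle ≫ f₁.hom = f := h1
  exact ⟨f₁.domain, hle, f₁.hom, hf₁', h2, hmem⟩

end K888.Domain
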