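import Groth.Agent.Sga7.H132.ProjPts
import Mathlib.AlgebraicGeometry.Morphisms.ClosedImmersion

set_option autoImplicit false

/-!
# Points of projective space with homogeneous coordinates, and closed subschemes
-/

universe u

open CategoryTheory AlgebraicGeometry MvPolynomial HomogeneousLocalization Limits
open Groth.Agent.Sga5.ProjChart Groth.Agent.Sga7.H132.ProjPts

namespace K888.PPt

variable {n : ℕ} {k : Type u} [CommRing k] {A : Type u} [CommRing A] [Algebra k A]

/-- the ring homomorphism of the point with homogeneous coordinates `a`, `a i` a unit -/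
noncomputable def cpt (a : Fin (n + 1) → A) (i : Fin (n + 1)) (hi : IsUnit (a i)) : Chart n k i →+* A :=
  (IsLocalization.Away.lift (S := Localization.Away (X i : MvPolynomial (Fin (n + 1)) k)) (X i)
    (g := ((MvPolynomial.aeval a : MvPolynomial (Fin (n + 1)) k →ₐ[k] A) : MvPolynomial (Fin (n + 1)) k →+* A))
    (by simpa using hi)).comp (algebraMap (Chart n k i) (Localization.Away (X i)))

variable (a : Fin (n + 1) → A) (i : Fin (n + 1)) (hi : IsUnit (a i))

theorem cpt_chartC (r : k) : cpt a i hi (chartC n k i r) = algebraMap k A r := by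
  rw [cpt, RingHom.comp_apply, HomogeneousLocalization.algebraMap_apply, val_chartC, IsLocalization.Away.lift_eq]
  simp

theorem cpt_mk (d : ℕ) (G : MvPolynomial (Fin (n + 1)) k) (hG : G ∈ CohB1.polyGrading n k (d • 1)) :
    cpt a i hi (HomogeneousLocalization.Away.mk _ (X_mem n k i) d G hG) * a i ^ d = MvPolynomial.aeval a G := by
  rw [cpt, RingHom.comp_apply, HomogeneousLocalization.algebraMap_apply, HomogeneousLocalization.Away.val_mk,
    Localization.mk_eq_mk']
  have h1 := IsLocalization.mk'_spec (M := Submonoid.powers (X i : MvPolynomial (Fin (n + 1)) k))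
    (Localization.Away (X i : MvPolynomial (Fin (n + 1)) k)) G ⟨X i ^ d, d, rfl⟩
  have h2 := congrArg (IsLocalization.Away.lift (S := Localization.Away (X i : MvPolynomial (Fin (n + 1)) k)) (X i)
    (g := ((MvPolynomial.aeval a : MvPolynomial (Fin (n + 1)) k →ₐ[k] A) : MvPolynomial (Fin (n + 1)) k →+* A))
    (by simpa using hi)) h1
  rw [map_mul, IsLocalization.Away.lift_eq, IsLocalization.Away.lift_eq] at h2
  simpa using h2

theorem cpt_coord (j : Fin (n + 1)) : cpt a i hi (coord n k i j) * a i = a j := by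
  have h := cpt_mk a i hi 1 (X j) (by simpa using X_mem n k j)
  rw [pow_one, aeval_X] at h
  exact h

theorem hom_ext {i : Fin (n + 1)} {B : Type*} [CommRing B] {χ χ' : Chart n k i →+* B}
    (hC : ∀ r, χ (chartC n k i r) = χ' (chartC n k i r)) (hX : ∀ j, χ (coord n k i j) = χ' (coord n k i j)) : χ = χ' := by
  have h : χ.comp (ofPoly n k i) = χ'.comp (ofPoly n k i) := by
    apply MvPolynomial.ringHom_ext
    · intro r
      simpa [ofPoly] using hC r
    · intro j
      simpa [ofPoly] using hX _
  ext z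
  obtain ⟨p, rfl⟩ := ofPoly_surjective n k i z
  exact DFunLike.congr_fun h p

theorem eq_cpt (χ : Chart n k i →+* A) (hC : ∀ r, χ (chartC n k i r) = algebraMap k A r)
    (hX : ∀ j, χ (coord n k i j) * a i = a j) : χ = cpt a i hi := by
  refine hom_ext (fun r => by rw [hC, cpt_chartC]) fun j => ?_
  apply hi.mul_right_cancel
  rw [hX, cpt_coord]

theorem cpt_smul (c : A) (hc : IsUnit c) (a' : Fin (n + 1) → A) (h : ∀ j, a' j = c * a j) (hi' : IsUnit (a' i)) :
    cpt (k := k) a' i hi' = cpt a i hi := by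
  refine eq_cpt a i hi _ (fun r => cpt_chartC _ _ _ _) fun j => ?_
  have h1 := cpt_coord (k := k) a' i hi' j
  rw [h i, h j] at h1
  apply hc.mul_left_cancel
  rw [← h1]
  ring

theorem comp_cpt {B : Type u} [CommRing B] [Algebra k B] (f : A →ₐ[k] B) (b : Fin (n + 1) → B) (hb : ∀ j, b j = f (a j))
    (hi' : IsUnit (b i)) : (f : A →+* B).comp (cpt (k := k) a i hi) = cpt (k := k) b i hi' := by
  refine eq_cpt b i hi' _ (fun r => ?_) fun j => ?_
  · rw [RingHom.comp_apply, cpt_chartC]
    exact f.commutes r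
  · rw [RingHom.comp_apply, hb i, hb j]
    have h := congrArg f (cpt_coord (k := k) a i hi j)
    rwa [map_mul] at h

/-- the point with homogeneous coordinates `a` -/
noncomputable def pt : Spec (CommRingCat.of A) ⟶ CohB1.ProjSpace n k :=
  Spec.map (CommRingCat.ofHom (cpt a i hi)) ≫ chart n k i

theorem pt_toSpec : pt a i hi ≫ CohB1.ProjSpace.toSpec n k = Spec.map (CommRingCat.ofHom (algebraMap k A)) := by
  rw [pt, Category.assoc, chart_toSpec, ← Spec.map_comp]
  congr 1
  apply CommRingCat.hom_ext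
  apply RingHom.ext
  intro r
  exact cpt_chartC a i hi r

theorem map_pt {B : Type u} [CommRing B] [Algebra k B] (f : A →ₐ[k] B) (b : Fin (n + 1) → B) (hb : ∀ j, b j = f (a j))
    (hi' : IsUnit (b i)) : Spec.map (CommRingCat.ofHom (f : A →+* B)) ≫ pt (k := k) a i hi = pt b i hi' := by
  rw [pt, pt, ← Category.assoc, ← Spec.map_comp, ← CommRingCat.ofHom_comp, comp_cpt a i hi f b hb hi']

theorem pt_smul (c : A) (hc : IsUnit c) (a' : Fin (n + 1) → A) (h : ∀ j, a' j = c * a j) (hi' : IsUnit (a' i)) :
    pt (k := k) a' i hi' = pt a i hi := by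
  rw [pt, pt, cpt_smul a i hi c hc a' h hi']

section Field

variable {L : Type u} [Field L] [Algebra k L]

theorem algebra_of_toSpec {i : Fin (n + 1)} (χ : Chart n k i →+* L)
    (h : Spec.map (CommRingCat.ofHom χ) ≫ chart n k i ≫ CohB1.ProjSpace.toSpec n k =
      Spec.map (CommRingCat.ofHom (algebraMap k L))) (r : k) : χ (chartC n k i r) = algebraMap k L r := by
  rw [chart_toSpec, ← Spec.map_comp] at h
  have h1 := Spec.map_injective h
  exact congrArg (fun f => f.hom r) h1

theorem pt_eq_pt (a : Fin (n + 1) → L) (i j : Fin (n + 1)) (hi : IsUnit (a i)) (hj : IsUnit (a j)) :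
    pt (k := k) a i hi = pt a j hj := by
  have h1 := cpt_coord (k := k) a i hi j
  have hne : cpt (k := k) a i hi (coord n k i j) ≠ 0 := by
    intro h0
    rw [h0, zero_mul] at h1
    exact hj.ne_zero h1.symm
  obtain ⟨χ', h2, h3⟩ := exists_transition n k i j (cpt (k := k) a i hi) hne
  have h4 : χ' = cpt a j hj := by
    refine eq_cpt a j hj _ (algebra_of_toSpec χ' ?_) fun l => ?_
    · rw [← Category.assoc, h2, Category.assoc]
      have := pt_toSpec (k := k) a i hi
      rwa [pt, Category.assoc] at this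
    · have h5 := h3 l
      have h6 := congrArg (fun z => z * a i) h5
      simp only [mul_assoc] at h6
      rw [h1, cpt_coord] at h6
      exact h6
  rw [pt, pt, ← h4]
  exact h2.symm

theorem exists_eq_pt (p : Spec (CommRingCat.of L) ⟶ CohB1.ProjSpace n k)
    (hp : p ≫ CohB1.ProjSpace.toSpec n k = Spec.map (CommRingCat.ofHom (algebraMap k L))) :
    ∃ (i : Fin (n + 1)) (a : Fin (n + 1) → L) (hi : IsUnit (a i)), p = pt a i hi := by
  obtain ⟨i, χ, h⟩ := exists_chart_pt p
  have h1 : χ (coord n k i i) = 1 := by rw [coord_self, map_one]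
  have hi : IsUnit (χ (coord n k i i)) := by rw [h1]; exact isUnit_one
  refine ⟨i, fun j => χ (coord n k i j), hi, ?_⟩
  rw [pt, ← eq_cpt (fun j => χ (coord n k i j)) i hi χ (algebra_of_toSpec χ (by rw [← Category.assoc, h, hp]))
    (fun j => by simp only [h1, mul_one]), h]

end Field

section Closed

variable {X : Scheme.{u}} (ι : X ⟶ CohB1.ProjSpace n k) [IsClosedImmersion ι]

theorem exists_ideal (i : Fin (n + 1)) : ∃ J : Ideal (Chart n k i), ∀ (B : Type u) [CommRing B] (χ : Chart n k i →+* B),
    (∃ l : Spec (CommRingCat.of B) ⟶ X, l ≫ ι = Spec.map (CommRingCat.ofHom χ) ≫ chart n k i) ↔ ∀ z ∈ J, χ z = 0 := by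
  have hci : IsClosedImmersion (pullback.snd ι (chart n k i)) := inferInstance
  rw [IsClosedImmersion.Spec_iff] at hci
  obtain ⟨J, e, he⟩ := hci
  refine ⟨J, fun B _ χ => ⟨?_, ?_⟩⟩
  · rintro ⟨l, hl⟩ z hz
    let m := pullback.lift l (Spec.map (CommRingCat.ofHom χ)) hl ≫ e.hom
    have hm : m ≫ Spec.map (CommRingCat.ofHom (Ideal.Quotient.mk J)) = Spec.map (CommRingCat.ofHom χ) := by
      rw [Category.assoc, ← he, pullback.lift_snd]
    have h1 : CommRingCat.ofHom χ = CommRingCat.ofHom (Ideal.Quotient.mk J) ≫ Spec.preimage m := by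
      apply Spec.map_injective
      rw [Spec.map_comp, Spec.map_preimage, hm]
    have h2 : χ z = (Spec.preimage m).hom (Ideal.Quotient.mk J z) := congrArg (fun f => f.hom z) h1
    rw [h2, Ideal.Quotient.eq_zero_iff_mem.mpr hz, map_zero]
  · intro h
    refine ⟨Spec.map (CommRingCat.ofHom (Ideal.Quotient.lift J χ h)) ≫ e.inv ≫ pullback.fst ι (chart n k i), ?_⟩
    rw [Category.assoc, Category.assoc, pullback.condition, ← Category.assoc e.inv, he, e.inv_hom_id_assoc,
      ← Category.assoc, ← Spec.map_comp]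
    rfl

end Closed

end K888.PPt
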