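import Groth.Agent.RatCurv.K888.CurvePt

set_option autoImplicit false
set_option backward.isDefEq.respectTransparency.types false

/-!
# Formal germs of products of two smooth curves, II
-/

universe u

open CategoryTheory AlgebraicGeometry IsLocalRing MonoidalCategory CartesianMonoidalCategory

namespace K888.Germ2

open K888.RangePt K888.Diag K888.CurvePt

variable {k : Type u} [Field k] [IsAlgClosed k]

/-- the formal germ of a product of smooth curves at a rational point -/
theorem exists_germ_prod2 (C B : Over (Spec (CommRingCat.of k))) [IsIntegral C.left] [Smooth C.hom] [IsIntegral B.left]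
    [Smooth B.hom] (hC : topologicalKrullDim C.left = 1) (hB : topologicalKrullDim B.left = 1)
    (c : Spec (CommRingCat.of k) ⟶ C.left) (hc : c ≫ C.hom = 𝟙 _) (b : Spec (CommRingCat.of k) ⟶ B.left)
    (hb : b ≫ B.hom = 𝟙 _) :
    ∃ (Γ : Spec (CommRingCat.of (R2 k)) ⟶ (C ⊗ B).left) (β : Spec (CommRingCat.of (PowerSeries k)) ⟶ B.left),
      Γ ≫ (C ⊗ B).hom = Spec.map (CommRingCat.ofHom (algebraMap k (R2 k))) ∧
      β ≫ B.hom = Spec.map (CommRingCat.ofHom (algebraMap k (PowerSeries k))) ∧
      Spec.map (CommRingCat.ofHom (PowerSeries.constantCoeff (R := k))) ≫ β = b ∧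
      Spec.map (CommRingCat.ofHom (ev0 (k := k))) ≫ Γ ≫ (fst C B).left = c ∧
      Spec.map (CommRingCat.ofHom (ev0 (k := k))) ≫ Γ ≫ (snd C B).left = b ∧
      Spec.map (CommRingCat.ofHom (PowerSeries.constantCoeff (R := PowerSeries k))) ≫ Γ ≫ (fst C B).left =
        Spec.map (CommRingCat.ofHom (algebraMap k (PowerSeries k))) ≫ c ∧
      Spec.map (CommRingCat.ofHom (PowerSeries.constantCoeff (R := PowerSeries k))) ≫ Γ ≫ (snd C B).left = β ∧
      InRange Γ (PowerSeries.X : R2 k) ∧ InRange Γ (PowerSeries.C PowerSeries.X : R2 k) ∧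
      InRange β (PowerSeries.X : PowerSeries k) := by
  obtain ⟨γ, hγ1, hγ2, hγ3⟩ := exists_germ C.hom hC c hc
  obtain ⟨β, hβ1, hβ2, hβ3⟩ := exists_germ B.hom hB b hb
  have hS := isLocalHom_psS (k := k)
  have hT := isLocalHom_psT (k := k)
  have hSa : Spec.map (CommRingCat.ofHom (psS (k := k))) ≫ Spec.map (CommRingCat.ofHom (algebraMap k (PowerSeries k))) =
      Spec.map (CommRingCat.ofHom (algebraMap k (R2 k))) := by
    rw [← Spec.map_comp, ← CommRingCat.ofHom_comp]
    congr 2
  have hTa : Spec.map (CommRingCat.ofHom (psT (k := k))) ≫ Spec.map (CommRingCat.ofHom (algebraMap k (PowerSeries k))) =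
      Spec.map (CommRingCat.ofHom (algebraMap k (R2 k))) := by
    rw [← Spec.map_comp, ← CommRingCat.ofHom_comp]
    congr 2
    exact RingHom.ext psT_algebraMap
  let T : Over (Spec (CommRingCat.of k)) := Over.mk (Spec.map (CommRingCat.ofHom (algebraMap k (R2 k))))
  let u : T ⟶ C := Over.homMk (Spec.map (CommRingCat.ofHom (psS (k := k))) ≫ γ) (by
    change (Spec.map (CommRingCat.ofHom (psS (k := k))) ≫ γ) ≫ C.hom = _
    rw [Category.assoc, hγ1, hSa]
    rfl)
  let v : T ⟶ B := Over.homMk (Spec.map (CommRingCat.ofHom (psT (k := k))) ≫ β) (by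
    change (Spec.map (CommRingCat.ofHom (psT (k := k))) ≫ β) ≫ B.hom = _
    rw [Category.assoc, hβ1, hTa]
    rfl)
  let Γ : T ⟶ C ⊗ B := lift u v
  have hΓ1 : Γ.left ≫ (fst C B).left = Spec.map (CommRingCat.ofHom (psS (k := k))) ≫ γ := by
    rw [← Over.comp_left, lift_fst]
    rfl
  have hΓ2 : Γ.left ≫ (snd C B).left = Spec.map (CommRingCat.ofHom (psT (k := k))) ≫ β := by
    rw [← Over.comp_left, lift_snd]
    rfl
  refine ⟨Γ.left, β, Over.w Γ, hβ1, hβ2, ?_, ?_, ?_, ?_, ?_, ?_, hβ3⟩
  · rw [hΓ1, ← Category.assoc, ← Spec.map_comp, ← CommRingCat.ofHom_comp, show (ev0 (k := k)).comp psS =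
      PowerSeries.constantCoeff from RingHom.ext ev0_psS, hγ2]
  · rw [hΓ2, ← Category.assoc, ← Spec.map_comp, ← CommRingCat.ofHom_comp, show (ev0 (k := k)).comp psT =
      PowerSeries.constantCoeff from RingHom.ext ev0_psT, hβ2]
  · rw [hΓ1, ← Category.assoc, ← Spec.map_comp, ← CommRingCat.ofHom_comp, ← hγ2, ← Category.assoc, ← Spec.map_comp,
      ← CommRingCat.ofHom_comp]
    congr 3
  · rw [hΓ2, ← Category.assoc, ← Spec.map_comp, ← CommRingCat.ofHom_comp]
    have h1 : (PowerSeries.constantCoeff (R := PowerSeries k)).comp (psT (k := k)) = RingHom.id _ :=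
      RingHom.ext fun a => PowerSeries.constantCoeff_C a
    rw [h1, CommRingCat.ofHom_id, Spec.map_id, Category.id_comp]
  · have h1 : IsLocalHom (CommRingCat.ofHom (psS (k := k))).hom := hS
    have h2 := InRange.map hγ3 (CommRingCat.ofHom (psS (k := k)))
    have h3 : (CommRingCat.ofHom (psS (k := k))).hom (PowerSeries.X : PowerSeries k) = (PowerSeries.X : R2 k) := psS_X
    have h4 : InRange (Γ.left ≫ (fst C B).left) ((CommRingCat.ofHom (psS (k := k))).hom (PowerSeries.X : PowerSeries k)) := by
      rw [hΓ1]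
      exact h2
    obtain ⟨t, ht⟩ := h4.of_comp
    exact ⟨t, ht.trans h3⟩
  · have h1 : IsLocalHom (CommRingCat.ofHom (psT (k := k))).hom := hT
    have h2 := InRange.map hβ3 (CommRingCat.ofHom (psT (k := k)))
    have h4 : InRange (Γ.left ≫ (snd C B).left) ((CommRingCat.ofHom (psT (k := k))).hom (PowerSeries.X : PowerSeries k)) := by
      rw [hΓ2]
      exact h2
    obtain ⟨t, ht⟩ := h4.of_comp
    exact ⟨t, ht⟩

omit [IsAlgClosed k] in
/-- a germ of a curve with the uniformizer in the range of the local ring is generic at the generic point -/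
theorem apply_eq_genericPoint {P : Scheme.{u}} [IsIntegral P] (hP : topologicalKrullDim P = 1)
    (β : Spec (CommRingCat.of (PowerSeries k)) ⟶ P) (hβ : InRange β (PowerSeries.X : PowerSeries k))
    {L : Type u} [Field L] [Algebra (PowerSeries k) L] [IsFractionRing (PowerSeries k) L] :
    (Spec.map (CommRingCat.ofHom (algebraMap (PowerSeries k) L)) ≫ β) (closedPoint L) = genericPoint P := by
  by_contra hne
  have h1 := (Groth.Agent.CurvesA.CurveDvr.isClosed_singleton_iff hP _).mpr hne
  obtain ⟨t, ht⟩ := hβ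
  have hsp : (Spec.map (CommRingCat.ofHom (algebraMap (PowerSeries k) L)) ≫ β) (closedPoint L) ⤳
      β (closedPoint (PowerSeries k)) :=
    (specializes_closedPoint (Spec.map (CommRingCat.ofHom (algebraMap (PowerSeries k) L)) (closedPoint L))).map β.continuous
  have h2 := hsp.mem_closed h1 rfl
  have h3 : β (closedPoint (PowerSeries k)) =
      (Spec.map (CommRingCat.ofHom (algebraMap (PowerSeries k) L)) ≫ β) (closedPoint L) := h2
  have h4 : Spec.map (CommRingCat.ofHom (algebraMap (PowerSeries k) L)) ≫ β =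
      Spec.map (Scheme.stalkClosedPointTo β ≫ CommRingCat.ofHom (algebraMap (PowerSeries k) L)) ≫
        P.fromSpecStalk (β (closedPoint (PowerSeries k))) := by
    rw [Spec.map_comp, Category.assoc]
    exact congrArg (fun g => Spec.map (CommRingCat.ofHom (algebraMap (PowerSeries k) L)) ≫ g)
      (Scheme.Spec_stalkClosedPointTo_fromSpecStalk β).symm
  have h5 : Spec.map (Scheme.stalkClosedPointTo β ≫ CommRingCat.ofHom (algebraMap (PowerSeries k) L)) (closedPoint L) =
      closedPoint (P.presheaf.stalk (β (closedPoint (PowerSeries k)))) := by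
    apply (P.fromSpecStalk (β (closedPoint (PowerSeries k)))).isEmbedding.injective
    rw [Scheme.fromSpecStalk_closedPoint, ← Scheme.Hom.comp_apply, ← h4]
    exact h3.symm
  have htm : t ∈ (closedPoint (P.presheaf.stalk (β (closedPoint (PowerSeries k))))).asIdeal := by
    change t ∈ maximalIdeal _
    rw [mem_maximalIdeal, mem_nonunits_iff]
    intro hu
    have h6 := hu.map (Scheme.stalkClosedPointTo β).hom
    rw [ht] at h6
    exact PowerSeries.X_prime.not_isUnit h6
  rw [← h5] at htm
  have h7 : algebraMap (PowerSeries k) L ((Scheme.stalkClosedPointTo β).hom t) ∈ (closedPoint L).asIdeal := htm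
  rw [ht] at h7
  have h8 : algebraMap (PowerSeries k) L PowerSeries.X = 0 := by
    change _ ∈ maximalIdeal L at h7
    rwa [IsLocalRing.maximalIdeal_eq_bot] at h7
  rw [map_eq_zero_iff _ (IsFractionRing.injective (PowerSeries k) L)] at h8
  exact PowerSeries.X_ne_zero h8

end K888.Germ2
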