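import Groth.Agent.RatCurv.K888.BadPt

set_option autoImplicit false
set_option backward.isDefEq.respectTransparency.types false

/-!
# A rational map from a product of smooth curves which does not extend gives a rational curve
-/

universe u

open CategoryTheory AlgebraicGeometry Limits MonoidalCategory CartesianMonoidalCategory IsLocalRing

namespace K888.NotExt

open K888.ExtCrit K888.PPt K888.PSMain K888.PSLocal K888.Diag K888.RangePt K888.CurvePt K888.LocGeo2 K888.BadPt

variable {k : Type u} [Field k]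

instance isLocalHom_ev0 : IsLocalHom (ev0 (k := k)) := by
  constructor
  intro a ha
  exact isUnit_of_ev0 a ha.ne_zero

variable [IsAlgClosed k]

theorem isProper_of_closedImmersion (X : Over (Spec (CommRingCat.of k))) {n : ℕ} (ι : X.left ⟶ CohB1.ProjSpace n k)
    [IsClosedImmersion ι] (hι : ι ≫ CohB1.ProjSpace.toSpec n k = X.hom) : IsProper X.hom := by
  have := Groth.Agent.Ega3B.ProjProper.isProper_toSpec n k
  rw [← hι]
  infer_instance

theorem exists_rational_curve {n : ℕ} (X C B : Over (Spec (CommRingCat.of k))) [IsIntegral C.left] [Smooth C.hom]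
    [IsIntegral B.left] [Smooth B.hom] (hC : topologicalKrullDim C.left = 1) (hB : topologicalKrullDim B.left = 1)
    (ι : X.left ⟶ CohB1.ProjSpace n k) [IsClosedImmersion ι] (hι : ι ≫ CohB1.ProjSpace.toSpec n k = X.hom)
    (U : (C ⊗ B).left.Opens) (hU : (U : Set (C ⊗ B).left).Nonempty) (φ : (U : Scheme.{u}) ⟶ X.left)
    (hφ : φ ≫ X.hom = U.ι ≫ (C ⊗ B).hom) (hne : ¬ ∃ ψ : (C ⊗ B).left ⟶ X.left, U.ι ≫ ψ = φ) :
    ∃ g : Over.mk (CohB1.ProjSpace.toSpec 1 k) ⟶ X, ¬ ∃ x : X.left, Set.range g.left.base ⊆ {x} := by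
  have hprop : IsProper X.hom := isProper_of_closedImmersion X ι hι
  have hint : IsIntegral (C ⊗ B).left := K528.Irr.isIntegral_tensor C B
  have hsm : Smooth (C ⊗ B).hom := smooth_tensor C B
  obtain ⟨x, hx, hno⟩ : ∃ x : (C ⊗ B).left, IsClosed ({x} : Set (C ⊗ B).left) ∧
      ¬ ∃ l : Spec ((C ⊗ B).left.presheaf.stalk x) ⟶ X.left,
        Spec.map (CommRingCat.ofHom (algebraMap ((C ⊗ B).left.presheaf.stalk x) (C ⊗ B).left.functionField)) ≫ l =
          gen U hU φ := by
    by_contra hcon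
    push Not at hcon
    obtain ⟨g, -, hg⟩ := exists_ext (C ⊗ B).hom X.hom U hU φ hφ hcon
    exact hne ⟨g, hg⟩
  let σ : Spec (CommRingCat.of k) ⟶ (C ⊗ B).left := pointOfClosedPoint (C ⊗ B).hom x hx
  have hσ : σ ≫ (C ⊗ B).hom = 𝟙 _ := pointOfClosedPoint_comp (C ⊗ B).hom x hx
  have hσx : ∀ a, σ a = x := fun a => pointOfClosedPoint_apply (C ⊗ B).hom x hx a
  have hc : (σ ≫ (fst C B).left) ≫ C.hom = 𝟙 _ := by
    rw [Category.assoc, Over.w, hσ]
  have hb : (σ ≫ (snd C B).left) ≫ B.hom = 𝟙 _ := by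
    rw [Category.assoc, Over.w, hσ]
  obtain ⟨Γ, β, hΓ, -, -, hΓc, hΓb, -, -, hX, hY⟩ := exists_germ_prod C B hC hB _ hc _ hb
  have hΓσ : Spec.map (CommRingCat.ofHom (ev0 (k := k))) ≫ Γ = σ := by
    refine pullback.hom_ext ?_ ?_
    · rw [Category.assoc]; exact hΓc
    · rw [Category.assoc]; exact hΓb
  have hpt : Γ (closedPoint (R2 k)) = x := by
    have h0 : IsLocalHom (CommRingCat.ofHom (ev0 (k := k))).hom := isLocalHom_ev0
    have h1 : Spec.map (CommRingCat.ofHom (ev0 (k := k))) (closedPoint k) = closedPoint (R2 k) :=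
      Spec_closedPoint (R := CommRingCat.of (R2 k)) (S := CommRingCat.of k) (f := CommRingCat.ofHom (ev0 (k := k)))
    rw [← hσx (closedPoint k), ← hΓσ, ← h1]
    rfl
  rw [← hpt] at hno
  obtain ⟨h, hNC, hl⟩ := exists_coords_at X C B hC hB ι hι (gen U hU φ)
    (gen_comp (C ⊗ B).hom X.hom U hU φ hφ) Γ hΓ hX hY hno
  obtain ⟨i, hi⟩ : ∃ i, h i ≠ 0 := by
    by_contra hcon
    push Not at hcon
    exact hNC ⟨0, 0, fun i => by rw [hcon i, mul_zero]⟩
  have hu : IsUnit (algebraMap (Polynomial k) (Localization.Away (h i)) (h i)) :=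
    IsLocalization.Away.algebraMap_isUnit (h i)
  obtain ⟨l, hl⟩ := hl i hi (Localization.Away (h i)) hu
  obtain ⟨g, hg, -⟩ := P1Map.exists_curve_of_lift X ι hι h hNC i hi l hu hl
  exact ⟨g, hg⟩

end K888.NotExt
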