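import Groth.Agent.RatCurv.K888.PtCmp
import Groth.Agent.RatCurv.K888.NotExt

set_option autoImplicit false
set_option backward.isDefEq.respectTransparency.types false

/-!
# Points of indeterminacy of a rational map contracting the curve `s = 0`
-/

universe u

open CategoryTheory AlgebraicGeometry Limits MonoidalCategory CartesianMonoidalCategory IsLocalRing

namespace K888.Through

open K888.ExtCrit K888.PPt K888.PSMain K888.PSLocal K888.Diag K888.RangePt K888.CurvePt K888.LocGeo K888.LocGeo2 K888.BadPt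
  K888.PtCmp

variable {k : Type u} [Field k]

section Poly

variable {n : ℕ} {X : Scheme.{u}} (ι : X ⟶ CohB1.ProjSpace n k)
  {O K : Type u} [CommRing O] [IsDomain O] [Field K] [Algebra O K] [IsFractionRing O K] [Algebra k O] [Algebra k K]
  [IsScalarTower k O K] [IsClosedImmersion ι] [UniqueFactorizationMonoid O] [IsNoetherianRing O] [IsLocalRing O]
  [IsAlgClosed k]

/-- polynomial curves satisfying the equations -/
theorem exists_poly_through (hdim : ringKrullDim O ≤ 2) (φ : Spec (CommRingCat.of K) ⟶ X)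
    (hφ : φ ≫ ι ≫ CohB1.ProjSpace.toSpec n k = Spec.map (CommRingCat.ofHom (algebraMap k K)))
    (hno : ¬ ∃ l : Spec (CommRingCat.of O) ⟶ X, Spec.map (CommRingCat.ofHom (algebraMap O K)) ≫ l = φ)
    (κ : O →ₐ[k] R2 k) (hκ : ∀ z ∈ maximalIdeal O, ev0 (κ z) = 0) (x y : O) (hx : x ∈ maximalIdeal O)
    (hy : y ∈ maximalIdeal O) (hκx : κ x = PowerSeries.X) (hκy : κ y = PowerSeries.C PowerSeries.X)
    (p : Fin (n + 1) → k) (i₀ : Fin (n + 1)) (hp : p i₀ ≠ 0)
    (hcmp : ∀ f : Fin (n + 1) → O, IsCoord (k := k) ι O K φ f → ∀ m,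
      PowerSeries.constantCoeff (κ (f m)) * PowerSeries.C (p i₀) = PowerSeries.constantCoeff (κ (f i₀)) * PowerSeries.C (p m)) :
    ∃ h : Fin (n + 1) → Polynomial k, NC h ∧ (∃ u : k, u ≠ 0 ∧ ∀ i, (h i).eval 0 = u * p i) ∧
      ∀ i, h i ≠ 0 → ∀ (A : Type u) [CommRing A] [Algebra (Polynomial k) A]
      [Algebra k A] [IsScalarTower k (Polynomial k) A] (hu : IsUnit (algebraMap (Polynomial k) A (h i))),
      ∃ l : Spec (CommRingCat.of A) ⟶ X, l ≫ ι = pt (k := k) (fun j => algebraMap (Polynomial k) A (h j)) i hu := by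
  obtain ⟨f, hf, hev, -, hfin⟩ := exists_series ι hdim φ hφ hno κ hκ x y hx hy hκx hκy
  obtain ⟨h, hG, hNC, hu⟩ := exists_curve_through _ (fun i => κ (f i)) hev hfin rfl p
    (fun h0 => hp (congrFun h0 i₀)) (PowerSeries.C (p i₀)⁻¹ * PowerSeries.constantCoeff (κ (f i₀))) (fun m => by
      have hCC : (PowerSeries.C (p i₀) : PowerSeries k) * PowerSeries.C (p i₀)⁻¹ = 1 := by
        rw [← map_mul, mul_inv_cancel₀ hp, map_one]
      calc PowerSeries.constantCoeff (κ (f m)) =
          (PowerSeries.constantCoeff (κ (f m)) * PowerSeries.C (p i₀)) * PowerSeries.C (p i₀)⁻¹ := by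
            rw [mul_assoc, hCC, mul_one]
        _ = _ := by rw [hcmp f hf m]; ring)
  have hG' : ∀ (G : MvPolynomial (Fin (n + 1)) k) (d : ℕ), G.IsHomogeneous d → MvPolynomial.aeval f G = 0 →
      MvPolynomial.aeval h G = 0 := by
    intro G d hGd h0
    refine hG G d hGd ?_
    have h1 := MvPolynomial.comp_aeval_apply (R := k) f κ G
    rw [h0, map_zero] at h1
    exact h1.symm
  refine ⟨h, hNC, hu, fun i hi A _ _ _ _ hu => ?_⟩
  refine exists_lift_of_homogeneous ι φ f hf (fun j => algebraMap (Polynomial k) A (h j)) (fun G d hGd h0 => ?_) i ?_ hu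
  · have h1 := MvPolynomial.comp_aeval_apply (R := k) h (IsScalarTower.toAlgHom k (Polynomial k) A) G
    rw [hG' G d hGd h0, map_zero] at h1
    exact h1.symm
  · intro h0
    apply hi
    have := hG' (MvPolynomial.X i) 1 (MvPolynomial.isHomogeneous_X k i) (by rw [MvPolynomial.aeval_X, h0])
    rwa [MvPolynomial.aeval_X] at this

end Poly

/-- the generic value through a local ring of a point in the domain -/
theorem map_fromSpecStalkOfMem {S : Scheme.{u}} [IsIntegral S] {Y : Scheme.{u}} (U : S.Opens) (hU : (U : Set S).Nonempty)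
    (f : (U : Scheme.{u}) ⟶ Y) (x : S) (hx : x ∈ U) :
    Spec.map (CommRingCat.ofHom (algebraMap (S.presheaf.stalk x) S.functionField)) ≫ U.fromSpecStalkOfMem x hx ≫ f =
      gen U hU f := by
  have h1 : Spec.map (CommRingCat.ofHom (algebraMap (S.presheaf.stalk x) S.functionField)) ≫ U.fromSpecStalkOfMem x hx =
      U.fromSpecStalkOfMem (genericPoint S) ((genericPoint_specializes x).mem_open U.2 hx) := by
    rw [← cancel_mono U.ι, Category.assoc, Scheme.Opens.fromSpecStalkOfMem_ι, Scheme.Opens.fromSpecStalkOfMem_ι]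
    exact Scheme.SpecMap_stalkSpecializes_fromSpecStalk (genericPoint_specializes x)
  rw [← Category.assoc, h1]
  rfl

theorem algebraMap_stalkSpecializes {S : Scheme.{u}} [IsIntegral S] {x x' : S} (h : x' ⤳ x) (z : S.presheaf.stalk x) :
    algebraMap (S.presheaf.stalk x') S.functionField ((S.presheaf.stalkSpecializes h).hom z) =
      algebraMap (S.presheaf.stalk x) S.functionField z := by
  have h1 : S.presheaf.stalkSpecializes h ≫ S.presheaf.stalkSpecializes (genericPoint_specializes x') =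
      S.presheaf.stalkSpecializes (genericPoint_specializes x) := by
    rw [TopCat.Presheaf.stalkSpecializes_comp]
  exact congrArg (fun g => g.hom z) h1


theorem proportional_stalk {S : Scheme.{u}} [IsIntegral S] (pS : S ⟶ Spec (CommRingCat.of k)) {n : ℕ} {X : Scheme.{u}}
    (pX : X ⟶ Spec (CommRingCat.of k)) (ι : X ⟶ CohB1.ProjSpace n k) (hι : ι ≫ CohB1.ProjSpace.toSpec n k = pX)
    (U : S.Opens) (hU : (U : Set S).Nonempty) (φ : (U : Scheme.{u}) ⟶ X) (hφ : φ ≫ pX = U.ι ≫ pS)
    [Algebra k S.functionField] (hkK : Spec.map (CommRingCat.ofHom (algebraMap k S.functionField)) =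
      S.fromSpecStalk (genericPoint S) ≫ pS) {x x' : S} (hsp : x' ⤳ x) (hx' : x' ∈ U) {L : Type u} [Field L] [Algebra k L]
    (ε : S.presheaf.stalk x' ⟶ CommRingCat.of L) [hεloc : IsLocalHom ε.hom]
    (hε : Spec.map ε ≫ S.fromSpecStalk x' ≫ pS = Spec.map (CommRingCat.ofHom (algebraMap k L)))
    (p : Fin (n + 1) → L) (i₀ : Fin (n + 1)) (hp : IsUnit (p i₀))
    (hεφ : Spec.map ε ≫ U.fromSpecStalkOfMem x' hx' ≫ φ ≫ ι = pt (k := k) p i₀ hp)
    (f : Fin (n + 1) → S.presheaf.stalk x) (hf : ∀ j (hj : IsUnit (algebraMap (S.presheaf.stalk x) S.functionField (f j))),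
      gen U hU φ ≫ ι = pt (k := k) (fun j => algebraMap (S.presheaf.stalk x) S.functionField (f j)) j hj)
    (m : Fin (n + 1)) :
    ε.hom ((S.presheaf.stalkSpecializes hsp).hom (f m)) * p i₀ = ε.hom ((S.presheaf.stalkSpecializes hsp).hom (f i₀)) * p m := by
  let _ : Algebra k (S.presheaf.stalk x') := (strHom pS x').toAlgebra
  have hkR : Spec.map (CommRingCat.ofHom (algebraMap k (S.presheaf.stalk x'))) = S.fromSpecStalk x' ≫ pS := map_strHom pS x'
  have htow' : IsScalarTower k (S.presheaf.stalk x') S.functionField := by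
    refine IsScalarTower.of_algebraMap_eq' ?_
    have h1 : Spec.map (CommRingCat.ofHom (algebraMap k S.functionField)) =
        Spec.map (CommRingCat.ofHom ((algebraMap (S.presheaf.stalk x') S.functionField).comp
          (algebraMap k (S.presheaf.stalk x')))) := by
      rw [hkK, CommRingCat.ofHom_comp, Spec.map_comp, hkR, ← Category.assoc]
      congr 1
      exact (Scheme.SpecMap_stalkSpecializes_fromSpecStalk (genericPoint_specializes _)).symm
    exact congrArg CommRingCat.Hom.hom (Spec.map_injective h1)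
  have hεk : ∀ z : k, ε.hom (algebraMap k (S.presheaf.stalk x') z) = algebraMap k L z := by
    intro z
    have h1 : Spec.map (CommRingCat.ofHom (algebraMap k (S.presheaf.stalk x')) ≫ ε) =
        Spec.map (CommRingCat.ofHom (algebraMap k L)) := by
      rw [Spec.map_comp, hkR, hε]
    exact congrArg (fun g => g.hom z) (Spec.map_injective h1)
  let ε' : (S.presheaf.stalk x') →ₐ[k] L := { ε.hom with commutes' := hεk }
  have hε'loc : IsLocalHom (ε' : (S.presheaf.stalk x') →+* L) := hεloc
  have hq : (U.fromSpecStalkOfMem x' hx' ≫ φ ≫ ι) ≫ CohB1.ProjSpace.toSpec n k =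
      Spec.map (CommRingCat.ofHom (algebraMap k (S.presheaf.stalk x'))) := by
    rw [Category.assoc, Category.assoc, hι, hφ, Scheme.Opens.fromSpecStalkOfMem_ι_assoc, hkR]
  have hqφ : Spec.map (CommRingCat.ofHom (algebraMap (S.presheaf.stalk x') S.functionField)) ≫
      (U.fromSpecStalkOfMem x' hx' ≫ φ ≫ ι) = gen U hU φ ≫ ι := by
    rw [← map_fromSpecStalkOfMem U hU φ x' hx']
    simp only [Category.assoc]
  let q : Spec (CommRingCat.of (S.presheaf.stalk x')) ⟶ CohB1.ProjSpace n k := U.fromSpecStalkOfMem x' hx' ≫ φ ≫ ι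
  let g : Spec (CommRingCat.of S.functionField) ⟶ CohB1.ProjSpace n k := gen U hU φ ≫ ι
  have h1 := proportional (k := k) (R := S.presheaf.stalk x') (K := S.functionField) (L := L) g q hq hqφ ε' p i₀ hp hεφ (fun i => (S.presheaf.stalkSpecializes hsp).hom (f i))
    (fun j hj => by
      have hj' : IsUnit (algebraMap (S.presheaf.stalk x) S.functionField (f j)) := by
        rw [← algebraMap_stalkSpecializes hsp]; exact hj
      refine (hf j hj').trans ?_
      have h3 : (fun j => algebraMap (S.presheaf.stalk x) S.functionField (f j)) =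
          (fun j => algebraMap (S.presheaf.stalk x') S.functionField ((S.presheaf.stalkSpecializes hsp).hom (f j))) :=
        funext fun j => (algebraMap_stalkSpecializes hsp (f j)).symm
      congr 1) m
  exact h1

theorem proportional_at {S : Scheme.{u}} [IsIntegral S] (pS : S ⟶ Spec (CommRingCat.of k)) {n : ℕ} {X : Scheme.{u}}
    (pX : X ⟶ Spec (CommRingCat.of k)) (ι : X ⟶ CohB1.ProjSpace n k) (hι : ι ≫ CohB1.ProjSpace.toSpec n k = pX)
    (U : S.Opens) (hU : (U : Set S).Nonempty) (φ : (U : Scheme.{u}) ⟶ X) (hφ : φ ≫ pX = U.ι ≫ pS)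
    [Algebra k S.functionField] (hkK : Spec.map (CommRingCat.ofHom (algebraMap k S.functionField)) =
      S.fromSpecStalk (genericPoint S) ≫ pS) {x : S} {L : Type u} [Field L] [Algebra k L]
    (δ : Spec (CommRingCat.of L) ⟶ U) (hδ : δ ≫ U.ι ≫ pS = Spec.map (CommRingCat.ofHom (algebraMap k L)))
    (ψ : S.presheaf.stalk x ⟶ CommRingCat.of L) (hψ : Spec.map ψ ≫ S.fromSpecStalk x = δ ≫ U.ι)
    (p : Fin (n + 1) → L) (i₀ : Fin (n + 1)) (hp : IsUnit (p i₀))
    (hδφ : δ ≫ φ ≫ ι = pt (k := k) p i₀ hp)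
    (f : Fin (n + 1) → S.presheaf.stalk x) (hf : ∀ j (hj : IsUnit (algebraMap (S.presheaf.stalk x) S.functionField (f j))),
      gen U hU φ ≫ ι = pt (k := k) (fun j => algebraMap (S.presheaf.stalk x) S.functionField (f j)) j hj)
    (m : Fin (n + 1)) : ψ.hom (f m) * p i₀ = ψ.hom (f i₀) * p m := by
  have hx'U : (δ ≫ U.ι) (closedPoint L) ∈ U := (δ (closedPoint L)).2
  have hsp : (δ ≫ U.ι) (closedPoint L) ⤳ x := by
    rw [← hψ]
    have h1 : (Spec.map ψ ≫ S.fromSpecStalk x) (closedPoint L) = S.fromSpecStalk x (Spec.map ψ (closedPoint L)) := rfl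
    rw [h1]
    have h2 := (specializes_closedPoint (Spec.map ψ (closedPoint L))).map (S.fromSpecStalk x).continuous
    rwa [Scheme.fromSpecStalk_closedPoint] at h2
  have hloc : IsLocalHom (Scheme.stalkClosedPointTo (δ ≫ U.ι)).hom := Scheme.isLocalHom_stalkClosedPointTo' _
  have h0 : Spec.map (Scheme.stalkClosedPointTo (δ ≫ U.ι)) ≫ S.fromSpecStalk ((δ ≫ U.ι) (closedPoint L)) = δ ≫ U.ι :=
    Scheme.Spec_stalkClosedPointTo_fromSpecStalk _
  have h1 := proportional_stalk pS pX ι hι U hU φ hφ hkK hsp hx'U (Scheme.stalkClosedPointTo (δ ≫ U.ι))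
    (by rw [← Category.assoc, h0, Category.assoc]; exact hδ) p i₀ hp (by
      have h2 : Spec.map (Scheme.stalkClosedPointTo (δ ≫ U.ι)) ≫ U.fromSpecStalkOfMem _ hx'U = δ := by
        rw [← cancel_mono U.ι, Category.assoc, Scheme.Opens.fromSpecStalkOfMem_ι]
        exact h0
      rw [← Category.assoc, h2, hδφ]) f hf m
  have h3 : S.presheaf.stalkSpecializes hsp ≫ Scheme.stalkClosedPointTo (δ ≫ U.ι) = ψ := by
    apply Spec.map_injective
    rw [← cancel_mono (S.fromSpecStalk x), Spec.map_comp, Category.assoc, hψ,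
      Scheme.SpecMap_stalkSpecializes_fromSpecStalk hsp]
    exact h0
  rw [← h3]
  exact h1

variable [IsAlgClosed k] {n : ℕ} (X C B : Over (Spec (CommRingCat.of k))) [IsIntegral C.left] [Smooth C.hom]
  [IsIntegral B.left] [Smooth B.hom]

/-- the expansion at a rational point of the coordinates of a rational map not defined there, which contracts the curve
`s = 0` -/
theorem exists_coords_through (hC : topologicalKrullDim C.left = 1) (hB : topologicalKrullDim B.left = 1)
    (ι : X.left ⟶ CohB1.ProjSpace n k) [IsClosedImmersion ι] (hι : ι ≫ CohB1.ProjSpace.toSpec n k = X.hom)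
    [IsIntegral (C ⊗ B).left] (U : (C ⊗ B).left.Opens) (hU : (U : Set (C ⊗ B).left).Nonempty) (φ : (U : Scheme.{u}) ⟶ X.left)
    (hφ : φ ≫ X.hom = U.ι ≫ (C ⊗ B).hom)
    (Γ : Spec (CommRingCat.of (R2 k)) ⟶ (C ⊗ B).left)
    (hΓ : Γ ≫ (C ⊗ B).hom = Spec.map (CommRingCat.ofHom (algebraMap k (R2 k))))
    (hX : InRange Γ (PowerSeries.X : R2 k)) (hY : InRange Γ (PowerSeries.C PowerSeries.X : R2 k))
    (hno : ¬ ∃ l : Spec ((C ⊗ B).left.presheaf.stalk (Γ (closedPoint (R2 k)))) ⟶ X.left,
      Spec.map (CommRingCat.ofHom (algebraMap ((C ⊗ B).left.presheaf.stalk (Γ (closedPoint (R2 k))))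
        (C ⊗ B).left.functionField)) ≫ l = gen U hU φ)
    (p : Fin (n + 1) → k) (i₀ : Fin (n + 1)) (hp : IsUnit (p i₀))
    {L : Type u} [Field L] [Algebra (PowerSeries k) L] [IsFractionRing (PowerSeries k) L] [Algebra k L]
    [IsScalarTower k (PowerSeries k) L]
    (δ : Spec (CommRingCat.of L) ⟶ U) (hδ : δ ≫ U.ι = Spec.map (CommRingCat.ofHom (algebraMap (PowerSeries k) L)) ≫
      Spec.map (CommRingCat.ofHom (PowerSeries.constantCoeff (R := PowerSeries k))) ≫ Γ)
    (hδφ : δ ≫ φ ≫ ι = Spec.map (CommRingCat.ofHom (algebraMap k L)) ≫ pt (k := k) p i₀ hp) :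
    ∃ h : Fin (n + 1) → Polynomial k, NC h ∧ (∃ u : k, u ≠ 0 ∧ ∀ i, (h i).eval 0 = u * p i) ∧
      ∀ i, h i ≠ 0 → ∀ (A : Type u) [CommRing A] [Algebra (Polynomial k) A]
      [Algebra k A] [IsScalarTower k (Polynomial k) A] (hu : IsUnit (algebraMap (Polynomial k) A (h i))),
      ∃ l : Spec (CommRingCat.of A) ⟶ X.left, l ≫ ι = pt (k := k) (fun j => algebraMap (Polynomial k) A (h j)) i hu := by
  let S := (C ⊗ B).left
  let pS := (C ⊗ B).hom
  let O := S.presheaf.stalk (Γ (closedPoint (R2 k)))
  let _ : S.Over (Spec (CommRingCat.of k)) := ⟨pS⟩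
  have hsm : Smooth (S ↘ Spec (CommRingCat.of k)) := smooth_tensor C B
  have hreg : IsRegularLocalRing O := Groth.Agent.S1535.result k S (Γ (closedPoint (R2 k)))
  have hufd : UniqueFactorizationMonoid O := (Groth.Agent.S2821.result O).2
  have hN : IsLocallyNoetherian S := LocallyOfFiniteType.isLocallyNoetherian pS
  have hNO : IsNoetherianRing O := inferInstance
  have hdim : ringKrullDim O ≤ 2 := by
    refine (ringKrullDim_stalk_le S _).trans ?_
    have h1 : topologicalKrullDim S = topologicalKrullDim C.left + topologicalKrullDim B.left :=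
      K106.Dim.topologicalKrullDim_pullback_eq_add C.hom B.hom
    rw [h1, hC, hB]
    exact le_of_eq (by norm_num)
  let _ : Algebra k O := (strHom pS _).toAlgebra
  let _ : Algebra k S.functionField := ((algebraMap O S.functionField).comp (strHom pS _)).toAlgebra
  have htow : IsScalarTower k O S.functionField := IsScalarTower.of_algebraMap_eq (fun _ => rfl)
  have hkK : Spec.map (CommRingCat.ofHom (algebraMap k S.functionField)) = S.fromSpecStalk (genericPoint S) ≫ pS := by
    have h1 : Spec.map (CommRingCat.ofHom (algebraMap k S.functionField)) =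
        Spec.map (CommRingCat.ofHom (algebraMap O S.functionField)) ≫ Spec.map (CommRingCat.ofHom (strHom pS _)) := by
      rw [← Spec.map_comp]
      rfl
    rw [h1, map_strHom, ← Category.assoc]
    congr 1
    exact Scheme.SpecMap_stalkSpecializes_fromSpecStalk (genericPoint_specializes _)
  have hφ' : gen U hU φ ≫ ι ≫ CohB1.ProjSpace.toSpec n k =
      Spec.map (CommRingCat.ofHom (algebraMap k S.functionField)) := by
    rw [hι, hkK]
    exact gen_comp (C ⊗ B).hom X.hom U hU φ hφ
  let κ : O →ₐ[k] R2 k :=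
    { (Scheme.stalkClosedPointTo Γ).hom with commutes' := fun z => comp_strHom pS Γ hΓ z }
  have hκloc : IsLocalHom (κ : O →+* R2 k) := Scheme.isLocalHom_stalkClosedPointTo' Γ
  have hmem : ∀ z : O, z ∈ maximalIdeal O ↔ ev0 (κ z) = 0 := by
    intro z
    rw [mem_maximalIdeal, mem_nonunits_iff]
    constructor
    · intro h
      by_contra hne
      exact h (isUnit_of_map_unit (κ : O →+* R2 k) z (isUnit_of_ev0 _ hne))
    · intro h hu
      have h1 := (hu.map κ).map (ev0 (k := k))
      rw [h] at h1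
      exact not_isUnit_zero h1
  obtain ⟨x, hx⟩ := hX
  obtain ⟨y, hy⟩ := hY
  have hκx : κ x = PowerSeries.X := hx
  have hκy : κ y = PowerSeries.C PowerSeries.X := hy
  refine exists_poly_through ι hdim (gen U hU φ) hφ' hno κ (fun z hz => (hmem z).mp hz) x y
    ((hmem x).mpr (by rw [hκx, ev0_apply, PowerSeries.constantCoeff_X, map_zero]))
    ((hmem y).mpr (by rw [hκy, ev0_apply, PowerSeries.constantCoeff_C, PowerSeries.constantCoeff_X])) hκx hκy
    p i₀ hp.ne_zero fun f hf m => ?_
  have hδk : δ ≫ U.ι ≫ pS = Spec.map (CommRingCat.ofHom (algebraMap k L)) := by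
    rw [← Category.assoc, hδ, Category.assoc, Category.assoc, hΓ, ← Spec.map_comp, ← Spec.map_comp,
      ← CommRingCat.ofHom_comp, ← CommRingCat.ofHom_comp]
    congr 2
    ext z
    have h1 : PowerSeries.constantCoeff (R := PowerSeries k) (algebraMap k (R2 k) z) = algebraMap k (PowerSeries k) z := by
      rw [PowerSeries.algebraMap_apply (A := PowerSeries k), PowerSeries.constantCoeff_C]
    rw [RingHom.comp_apply, RingHom.comp_apply, h1, ← IsScalarTower.algebraMap_apply]
  have hp' : IsUnit (algebraMap k L (p i₀)) := hp.map _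
  have h1 := proportional_at pS X.hom ι hι U hU φ hφ hkK (x := Γ (closedPoint (R2 k))) δ hδk
    (Scheme.stalkClosedPointTo Γ ≫ CommRingCat.ofHom (PowerSeries.constantCoeff (R := PowerSeries k)) ≫
      CommRingCat.ofHom (algebraMap (PowerSeries k) L)) (by
      rw [Spec.map_comp, Spec.map_comp, Category.assoc, Category.assoc]
      refine (congrArg (fun g => Spec.map (CommRingCat.ofHom (algebraMap (PowerSeries k) L)) ≫
        Spec.map (CommRingCat.ofHom (PowerSeries.constantCoeff (R := PowerSeries k))) ≫ g)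
        (Scheme.Spec_stalkClosedPointTo_fromSpecStalk Γ)).trans hδ.symm)
    (fun i => algebraMap k L (p i)) i₀ hp' (by
      rw [hδφ]
      exact map_pt (k := k) p i₀ hp (Algebra.ofId k L) (fun i => algebraMap k L (p i)) (fun _ => rfl) hp') f hf m
  have h2 : algebraMap (PowerSeries k) L (PowerSeries.constantCoeff (κ (f m))) * algebraMap k L (p i₀) =
      algebraMap (PowerSeries k) L (PowerSeries.constantCoeff (κ (f i₀))) * algebraMap k L (p m) := h1
  have h4 : ∀ z : k, algebraMap k L z = algebraMap (PowerSeries k) L (PowerSeries.C z) := fun z => by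
    rw [IsScalarTower.algebraMap_apply k (PowerSeries k) L]
    rfl
  rw [h4, h4, ← map_mul, ← map_mul] at h2
  exact IsFractionRing.injective (PowerSeries k) L h2

end K888.Through
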