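import Mathlib.RingTheory.PowerSeries.NoZeroDivisors
import Mathlib.RingTheory.PowerSeries.Order
import Mathlib.RingTheory.PowerSeries.Inverse
import Mathlib.RingTheory.PowerSeries.Trunc
import Mathlib.Algebra.BigOperators.Ring.Finset
import Mathlib.Tactic.Ring
import Mathlib.Tactic.Linarith

set_option autoImplicit false

/-!
# Substitutions in the ring of power series in two variables

`R2 k` is `k[[t]][[s]]` (nested power series). `diag` is the diagonal substitution `A[[X]][[Y]] → A[[X]]`, `Y ↦ X`;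
`sA : s ↦ s t, t ↦ t` and `sB c : s ↦ s, t ↦ s (t + c)` are the two charts of the blowing up of the origin.
-/

open PowerSeries

namespace K888.Diag

section Diag

variable {A : Type*} [CommRing A]

private theorem sum_aux {B : Type*} [CommRing B] (F G : ℕ → ℕ → B) (m : ℕ) :
    (∑ p ∈ Finset.antidiagonal m, ∑ q ∈ Finset.antidiagonal p.1, ∑ r ∈ Finset.antidiagonal p.2,
      F q.1 r.1 * G q.2 r.2) =
    ∑ p ∈ Finset.antidiagonal m, (∑ q ∈ Finset.antidiagonal p.1, F q.1 q.2) * (∑ r ∈ Finset.antidiagonal p.2, G r.1 r.2) := by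
  simp only [Finset.sum_mul_sum, Finset.sum_sigma']
  refine Finset.sum_bij' (fun x _ => ⟨(x.2.1.1 + x.2.2.1, x.2.1.2 + x.2.2.2), (x.2.1.1, x.2.2.1), (x.2.1.2, x.2.2.2)⟩)
    (fun x _ => ⟨(x.2.1.1 + x.2.2.1, x.2.1.2 + x.2.2.2), (x.2.1.1, x.2.2.1), (x.2.1.2, x.2.2.2)⟩) ?_ ?_ ?_ ?_ ?_
  · rintro ⟨⟨a, b⟩, ⟨c, d⟩, ⟨e, f⟩⟩ h
    simp only [Finset.mem_sigma, Finset.mem_antidiagonal] at h ⊢
    exact ⟨by omega, trivial, trivial⟩
  · rintro ⟨⟨a, b⟩, ⟨c, d⟩, ⟨e, f⟩⟩ h
    simp only [Finset.mem_sigma, Finset.mem_antidiagonal] at h ⊢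
    exact ⟨by omega, trivial, trivial⟩
  · rintro ⟨⟨a, b⟩, ⟨c, d⟩, ⟨e, f⟩⟩ h
    simp only [Finset.mem_sigma, Finset.mem_antidiagonal] at h ⊢
    obtain ⟨h1, h2, h3⟩ := h
    subst h2 h3
    rfl
  · rintro ⟨⟨a, b⟩, ⟨c, d⟩, ⟨e, f⟩⟩ h
    simp only [Finset.mem_sigma, Finset.mem_antidiagonal] at h ⊢
    obtain ⟨h1, h2, h3⟩ := h
    subst h2 h3
    rfl
  · rintro ⟨⟨a, b⟩, ⟨c, d⟩, ⟨e, f⟩⟩ h
    rfl

/-- the diagonal substitution `A[[X]][[Y]] → A[[X]]`, `Y ↦ X` -/
noncomputable def diag : A⟦X⟧⟦X⟧ →+* A⟦X⟧ where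
  toFun f := PowerSeries.mk fun m => ∑ p ∈ Finset.antidiagonal m, coeff p.2 (coeff p.1 f)
  map_one' := by
    ext m
    rw [coeff_mk]
    rcases Nat.eq_zero_or_pos m with rfl | hm
    · simp
    · rw [Finset.sum_eq_zero, coeff_one, if_neg hm.ne']
      rintro ⟨i, j⟩ hij
      rw [Finset.mem_antidiagonal] at hij
      simp only at hij ⊢
      rw [coeff_one]
      split_ifs with h
      · rw [coeff_one, if_neg (by omega)]
      · simp
  map_zero' := by
    ext m
    simp
  map_add' f g := by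
    ext m
    simp only [coeff_mk, map_add, Finset.sum_add_distrib]
  map_mul' f g := by
    ext m
    rw [coeff_mk, coeff_mul]
    simp only [coeff_mk, coeff_mul, map_sum]
    exact sum_aux (fun i j => coeff j (coeff i f)) (fun i j => coeff j (coeff i g)) m

theorem coeff_diag (f : A⟦X⟧⟦X⟧) (m : ℕ) : coeff m (diag f) = ∑ p ∈ Finset.antidiagonal m, coeff p.2 (coeff p.1 f) :=
  coeff_mk m fun m => ∑ p ∈ Finset.antidiagonal m, coeff p.2 (coeff p.1 f)

theorem constantCoeff_diag (f : A⟦X⟧⟦X⟧) : constantCoeff (diag f) = constantCoeff (constantCoeff f) := by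
  rw [← coeff_zero_eq_constantCoeff_apply, coeff_diag]
  simp

theorem diag_C (a : A⟦X⟧) : diag (C a) = a := by
  ext m
  rw [coeff_diag, Finset.sum_eq_single (0, m)]
  · simp
  · rintro ⟨i, j⟩ hij hne
    rw [Finset.mem_antidiagonal] at hij
    simp only at hij ⊢
    rw [coeff_C, if_neg, map_zero]
    rintro rfl
    exact hne (by simp_all)
  · intro h
    exact absurd (Finset.mem_antidiagonal.mpr (by simp)) h

theorem diag_X : diag (X : A⟦X⟧⟦X⟧) = X := by
  ext m
  rw [coeff_diag, coeff_X]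
  rcases Nat.eq_zero_or_pos m with rfl | hm
  · simp
  · rw [Finset.sum_eq_single (1, m - 1)]
    · simp only [coeff_X, if_true, coeff_one]
      congr 1
      simp only [eq_iff_iff]
      omega
    · rintro ⟨i, j⟩ hij hne
      rw [Finset.mem_antidiagonal] at hij
      simp only at hij ⊢
      rw [coeff_X, if_neg, map_zero]
      rintro rfl
      exact hne (by rw [← hij]; simp)
    · intro h
      exact absurd (Finset.mem_antidiagonal.mpr (by simp only; omega)) h

end Diag

variable (k : Type*) [Field k]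

/-- power series in two variables `k[[t]][[s]]` -/
abbrev R2 := k⟦X⟧⟦X⟧

variable {k}

/-- the value at the origin -/
noncomputable def ev0 : R2 k →+* k := (constantCoeff (R := k)).comp (constantCoeff (R := k⟦X⟧))

@[simp] theorem ev0_apply (f : R2 k) : ev0 f = constantCoeff (constantCoeff f) := rfl

/-- restriction to `t = 0` -/
noncomputable def piA : R2 k →+* k⟦X⟧ := PowerSeries.map (constantCoeff (R := k))

/-- the chart `s ↦ s t`, `t ↦ t` -/
noncomputable def sA : R2 k →+* R2 k := rescale (X : k⟦X⟧)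

theorem sA_X : sA (X : R2 k) = C X * X := rescale_X X

theorem sA_C (a : k⟦X⟧) : sA (C a) = C a := by
  ext m : 1
  rw [sA, coeff_rescale, coeff_C]
  split_ifs with h
  · rw [h, pow_zero, one_mul]
  · rw [mul_zero]

theorem constantCoeff_sA (f : R2 k) : constantCoeff (sA f) = constantCoeff f := by
  rw [← coeff_zero_eq_constantCoeff_apply, sA, coeff_rescale, pow_zero, one_mul, coeff_zero_eq_constantCoeff_apply]

theorem ev0_sA (f : R2 k) : ev0 (sA f) = ev0 f := by
  rw [ev0_apply, constantCoeff_sA, ev0_apply]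

theorem piA_sA (f : R2 k) : piA (sA f) = C (ev0 f) := by
  ext m
  rw [piA, coeff_map, sA, coeff_rescale, coeff_C]
  rcases Nat.eq_zero_or_pos m with rfl | hm
  · simp
  · rw [if_neg hm.ne', map_mul, map_pow, constantCoeff_X, zero_pow hm.ne', zero_mul]

/-- `t ↦ s (t + c)` on `k[[t]]` -/
noncomputable def iB (c : k) : k⟦X⟧ →+* R2 k :=
  (rescale (X + C c : k⟦X⟧)).comp (PowerSeries.map (C (R := k)))

theorem iB_X (c : k) : iB c X = C (X + C c) * X := by
  rw [iB, RingHom.comp_apply, map_X, rescale_X]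

theorem iB_C (c a : k) : iB c (C a) = C (C a) := by
  rw [iB, RingHom.comp_apply, map_C]
  ext m : 1
  rw [coeff_rescale, coeff_C]
  split_ifs with h
  · rw [h, pow_zero, one_mul]
  · rw [mul_zero]

theorem constantCoeff_iB (c : k) (a : k⟦X⟧) : constantCoeff (iB c a) = C (constantCoeff a) := by
  rw [← coeff_zero_eq_constantCoeff_apply, iB, RingHom.comp_apply, coeff_rescale, pow_zero, one_mul, coeff_map,
    coeff_zero_eq_constantCoeff_apply]

/-- the chart `s ↦ s`, `t ↦ s (t + c)` -/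
noncomputable def sB (c : k) : R2 k →+* R2 k := (diag (A := k⟦X⟧)).comp (PowerSeries.map (iB c))

theorem sB_X (c : k) : sB c (X : R2 k) = X := by
  rw [sB, RingHom.comp_apply, map_X, diag_X]

theorem sB_C (c : k) (a : k⟦X⟧) : sB c (C a) = iB c a := by
  rw [sB, RingHom.comp_apply, map_C, diag_C]

theorem constantCoeff_sB (c : k) (f : R2 k) : constantCoeff (sB c f) = C (ev0 f) := by
  rw [sB, RingHom.comp_apply, constantCoeff_diag]
  have h : constantCoeff (PowerSeries.map (iB c) f) = iB c (constantCoeff f) := by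
    rw [← coeff_zero_eq_constantCoeff_apply, coeff_map, coeff_zero_eq_constantCoeff_apply]
  rw [h, constantCoeff_iB, ev0_apply]

theorem ev0_sB (c : k) (f : R2 k) : ev0 (sB c f) = ev0 f := by
  rw [ev0_apply, constantCoeff_sB, constantCoeff_C]

end K888.Diag
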