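import Mathlib.RingTheory.PowerSeries.Basic
import Mathlib.Tactic.Ring
import Mathlib.Tactic.LinearCombination

set_option autoImplicit false

/-!
# Taylor expansion of the elements of a ring with a section of the quotient by a principal prime
-/

namespace K888.DvrSeries

variable {k V : Type*} [CommRing k] [CommRing V] [IsDomain V] [Algebra k V] (ε : V →ₐ[k] k) (t : V) (ht : t ≠ 0)
  (hε : ∀ v, ε v = 0 → t ∣ v) (hεt : ε t = 0)

theorem exists_d (v : V) (hε : ∀ v, ε v = 0 → t ∣ v) : ∃ w, v - algebraMap k V (ε v) = t * w :=
  hε _ (by rw [map_sub, AlgHom.commutes]; exact sub_self _)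

/-- the quotient by `t` of the difference with the value -/
noncomputable def d (hε : ∀ v, ε v = 0 → t ∣ v) (v : V) : V := (exists_d ε t v hε).choose

include hε

theorem d_spec (v : V) : v - algebraMap k V (ε v) = t * d ε t hε v := (exists_d ε t v hε).choose_spec

include ht

theorem d_eq {v w : V} (h : v - algebraMap k V (ε v) = t * w) : d ε t hε v = w :=
  mul_left_cancel₀ ht ((d_spec ε t hε v).symm.trans h)

theorem d_add (v w : V) : d ε t hε (v + w) = d ε t hε v + d ε t hε w := by
  apply d_eq ε t ht hε
  rw [mul_add, ← d_spec, ← d_spec, map_add, map_add]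
  ring

theorem d_mul (v w : V) : d ε t hε (v * w) = d ε t hε v * w + algebraMap k V (ε v) * d ε t hε w := by
  apply d_eq ε t ht hε
  rw [map_mul, map_mul]
  linear_combination w * d_spec ε t hε v + algebraMap k V (ε v) * d_spec ε t hε w

theorem d_algebraMap (c : k) : d ε t hε (algebraMap k V c) = 0 := by
  apply d_eq ε t ht hε
  rw [AlgHom.commutes, mul_zero]
  exact sub_self _

theorem d_smul (c : k) (v : V) : d ε t hε (c • v) = c • d ε t hε v := by
  rw [Algebra.smul_def, d_mul ε t ht hε, d_algebraMap ε t ht hε, zero_mul, zero_add, AlgHom.commutes, Algebra.smul_def]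
  rfl

theorem d_t (hεt : ε t = 0) : d ε t hε t = 1 := by
  apply d_eq ε t ht hε
  rw [hεt, map_zero, sub_zero, mul_one]

omit ht in
/-- the Taylor series -/
noncomputable def ser (v : V) : PowerSeries k := PowerSeries.mk fun n => ε ((d ε t hε)^[n] v)

omit ht in
theorem coeff_ser_zero (v : V) : PowerSeries.coeff 0 (ser ε t hε v) = ε v := by
  rw [ser, PowerSeries.coeff_mk, Function.iterate_zero, id]

omit ht in
theorem coeff_ser_succ (n : ℕ) (v : V) :
    PowerSeries.coeff (n + 1) (ser ε t hε v) = PowerSeries.coeff n (ser ε t hε (d ε t hε v)) := by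
  rw [ser, PowerSeries.coeff_mk, ser, PowerSeries.coeff_mk, Function.iterate_succ_apply]

theorem ser_add (v w : V) : ser ε t hε (v + w) = ser ε t hε v + ser ε t hε w := by
  ext n
  induction n generalizing v w with
  | zero => rw [coeff_ser_zero, map_add, map_add, coeff_ser_zero, coeff_ser_zero]
  | succ n ih => rw [coeff_ser_succ, d_add ε t ht hε, ih, map_add, map_add, coeff_ser_succ, coeff_ser_succ]

theorem ser_smul (c : k) (v : V) : ser ε t hε (c • v) = PowerSeries.C c * ser ε t hε v := by
  ext n
  induction n generalizing v with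
  | zero => rw [coeff_ser_zero, map_smul, PowerSeries.coeff_C_mul, coeff_ser_zero, smul_eq_mul]
  | succ n ih => rw [coeff_ser_succ, d_smul ε t ht hε, ih, PowerSeries.coeff_C_mul, PowerSeries.coeff_C_mul, coeff_ser_succ]

omit ht in
theorem ser_eq (v : V) : ser ε t hε v = PowerSeries.C (ε v) + PowerSeries.X * ser ε t hε (d ε t hε v) := by
  ext n
  cases n with
  | zero => simp [coeff_ser_zero]
  | succ n =>
    rw [coeff_ser_succ, map_add, PowerSeries.coeff_succ_X_mul, PowerSeries.coeff_C, if_neg (Nat.succ_ne_zero n), zero_add]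

theorem ser_algebraMap (c : k) : ser ε t hε (algebraMap k V c) = PowerSeries.C c := by
  have h0 : ser ε t hε (0 : V) = 0 := by
    have := ser_add ε t ht hε 0 0
    rw [add_zero] at this
    simpa using this
  rw [ser_eq, d_algebraMap ε t ht hε, h0, mul_zero, add_zero, AlgHom.commutes]
  rfl

theorem ser_mul (v w : V) : ser ε t hε (v * w) = ser ε t hε v * ser ε t hε w := by
  have key : ∀ n (v w : V), PowerSeries.coeff n (ser ε t hε (v * w)) = PowerSeries.coeff n (ser ε t hε v * ser ε t hε w) := by
    intro n
    induction n with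
    | zero =>
      intro v w
      rw [coeff_ser_zero, map_mul, PowerSeries.coeff_zero_eq_constantCoeff_apply, map_mul,
        ← PowerSeries.coeff_zero_eq_constantCoeff_apply, ← PowerSeries.coeff_zero_eq_constantCoeff_apply, coeff_ser_zero,
        coeff_ser_zero]
    | succ n ih =>
      intro v w
      have h1 : ser ε t hε v * ser ε t hε w = PowerSeries.C (ε v) * ser ε t hε w +
          PowerSeries.X * (ser ε t hε (d ε t hε v) * ser ε t hε w) := by
        conv_lhs => rw [ser_eq ε t hε v]
        ring
      rw [coeff_ser_succ, d_mul ε t ht hε, ser_add ε t ht hε, map_add, ih, h1, map_add, PowerSeries.coeff_succ_X_mul,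
        ← Algebra.smul_def, ser_smul ε t ht hε, PowerSeries.coeff_C_mul, PowerSeries.coeff_C_mul, coeff_ser_succ, add_comm]
  ext n
  exact key n v w

/-- the Taylor expansion as an algebra homomorphism -/
noncomputable def serHom : V →ₐ[k] PowerSeries k where
  toFun := ser ε t hε
  map_one' := by
    have := ser_algebraMap ε t ht hε 1
    rwa [map_one, map_one] at this
  map_mul' := ser_mul ε t ht hε
  map_zero' := by
    have := ser_algebraMap ε t ht hε 0
    rwa [map_zero, map_zero] at this
  map_add' := ser_add ε t ht hε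
  commutes' := fun c => ser_algebraMap ε t ht hε c

theorem serHom_t (hεt : ε t = 0) : serHom ε t ht hε t = PowerSeries.X := by
  change ser ε t hε t = _
  have h1 := ser_algebraMap ε t ht hε 1
  rw [map_one, map_one] at h1
  rw [ser_eq, hεt, d_t ε t ht hε hεt, h1, map_zero, zero_add, mul_one]

theorem constantCoeff_serHom (v : V) : PowerSeries.constantCoeff (serHom ε t ht hε v) = ε v := by
  rw [← PowerSeries.coeff_zero_eq_constantCoeff_apply]
  exact coeff_ser_zero ε t hε v

end K888.DvrSeries
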