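import Groth.Agent.RatCurv.K888.RangePt
import Groth.Agent.RatCurv.K888.DvrSeries
import Groth.Agent.RatCurv.K888.Diag
import Groth.Agent.CurvesA.CurveDvr
import Mathlib.CategoryTheory.Monoidal.Cartesian.Over

set_option autoImplicit false

/-!
# Formal germs of smooth curves and of products of two smooth curves
-/

universe u

open CategoryTheory AlgebraicGeometry IsLocalRing MonoidalCategory CartesianMonoidalCategory

namespace K888.CurvePt

open K888.RangePt K888.Diag

variable {k : Type u} [Field k]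

theorem isClosed_point [IsAlgClosed k] {C : Scheme.{u}} (f : C ⟶ Spec (CommRingCat.of k)) [LocallyOfFiniteType f]
    (c : Spec (CommRingCat.of k) ⟶ C) (hc : c ≫ f = 𝟙 _) : IsClosed ({c (closedPoint k)} : Set C) :=
  (pointEquivClosedPoint f ⟨c, hc⟩).2

theorem ne_genericPoint [IsAlgClosed k] {C : Scheme.{u}} (f : C ⟶ Spec (CommRingCat.of k)) [LocallyOfFiniteType f]
    [IsIntegral C] (hC : topologicalKrullDim C = 1) (c : Spec (CommRingCat.of k) ⟶ C) (hc : c ≫ f = 𝟙 _) :
    c (closedPoint k) ≠ genericPoint C := by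
  intro h
  have h1 := isClosed_point f c hc
  obtain ⟨x, hx⟩ := Groth.Agent.CurvesA.CurveDvr.exists_ne_genericPoint hC
  have h2 : x ∈ closure ({genericPoint C} : Set C) := (genericPoint_specializes x).mem_closure
  rw [h] at h1
  rw [h1.closure_eq] at h2
  exact hx h2

/-- the formal germ of a smooth curve at a rational point -/
theorem exists_germ [IsAlgClosed k] {C : Scheme.{u}} (f : C ⟶ Spec (CommRingCat.of k)) [IsIntegral C] [Smooth f]
    (hC : topologicalKrullDim C = 1) (c : Spec (CommRingCat.of k) ⟶ C) (hc : c ≫ f = 𝟙 _) :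
    ∃ γ : Spec (CommRingCat.of (PowerSeries k)) ⟶ C,
      γ ≫ f = Spec.map (CommRingCat.ofHom (algebraMap k (PowerSeries k))) ∧
      Spec.map (CommRingCat.ofHom (PowerSeries.constantCoeff (R := k))) ≫ γ = c ∧
      InRange γ (PowerSeries.X : PowerSeries k) := by
  have hdvr := Groth.Agent.CurvesA.CurveDvr.isDiscreteValuationRing_stalk f hC.le _ (ne_genericPoint f hC c hc)
  let V := C.presheaf.stalk (c (closedPoint k))
  let str : k →+* V := (Spec.preimage (C.fromSpecStalk _ ≫ f)).hom
  have hstr : Spec.map (CommRingCat.ofHom str) = C.fromSpecStalk (c (closedPoint k)) ≫ f := Spec.map_preimage _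
  let _ : Algebra k V := str.toAlgebra
  let ev : V →+* k := (Scheme.stalkClosedPointTo c).hom
  have hev : Spec.map (CommRingCat.ofHom ev) ≫ C.fromSpecStalk (c (closedPoint k)) = c :=
    Scheme.Spec_stalkClosedPointTo_fromSpecStalk c
  have hloc : IsLocalHom ev := Scheme.isLocalHom_stalkClosedPointTo' c
  have hevstr : ∀ a : k, ev (str a) = a := by
    intro a
    have h1 : Spec.map (CommRingCat.ofHom (ev.comp str)) = Spec.map (𝟙 (CommRingCat.of k)) := by
      rw [CommRingCat.ofHom_comp, Spec.map_comp, hstr, ← Category.assoc, hev, hc, Spec.map_id]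
    have h2 := Spec.map_injective h1
    exact congrArg (fun g => g.hom a) h2
  let ε : V →ₐ[k] k := { ev with commutes' := hevstr }
  have hεapp : ∀ v, ε v = ev v := fun v => rfl
  obtain ⟨t, ht⟩ := IsDiscreteValuationRing.exists_irreducible V
  have hmax : maximalIdeal V = Ideal.span {t} := ht.maximalIdeal_eq
  have hε : ∀ v, ε v = 0 → t ∣ v := by
    intro v hv
    rw [← Ideal.mem_span_singleton, ← hmax, mem_maximalIdeal, mem_nonunits_iff]
    intro hu
    have := hu.map ev
    rw [← hεapp, hv] at this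
    exact not_isUnit_zero this
  have hεt : ε t = 0 := by
    by_contra hne
    have h1 : IsUnit (ev t) := isUnit_iff_ne_zero.mpr hne
    exact ht.not_isUnit (isUnit_of_map_unit ev t h1)
  let φ : V →ₐ[k] PowerSeries k := DvrSeries.serHom ε t ht.ne_zero hε
  have hφ : ∀ v, PowerSeries.constantCoeff (φ v) = ev v := DvrSeries.constantCoeff_serHom ε t ht.ne_zero hε
  have hφloc : IsLocalHom (φ : V →+* PowerSeries k) := by
    constructor
    intro v hv
    have h1 := hv.map (PowerSeries.constantCoeff (R := k))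
    have h2 : IsUnit (ev v) := by rw [← hφ]; exact h1
    exact isUnit_of_map_unit ev v h2
  refine ⟨Spec.map (CommRingCat.ofHom (φ : V →+* PowerSeries k)) ≫ C.fromSpecStalk (c (closedPoint k)), ?_, ?_, ?_⟩
  · rw [Category.assoc, ← hstr, ← Spec.map_comp, ← CommRingCat.ofHom_comp]
    congr 2
    exact φ.comp_algebraMap
  · rw [← Category.assoc, ← Spec.map_comp, ← CommRingCat.ofHom_comp]
    have h1 : (PowerSeries.constantCoeff (R := k)).comp (φ : V →+* PowerSeries k) = ev := RingHom.ext hφ
    rw [h1, hev]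
  · have h1 := inRange_fromSpecStalk (R := CommRingCat.of (PowerSeries k))
      (CommRingCat.ofHom (φ : V →+* PowerSeries k)) t
    have h2 : (CommRingCat.ofHom (φ : V →+* PowerSeries k)).hom t = (PowerSeries.X : PowerSeries k) :=
      DvrSeries.serHom_t ε t ht.ne_zero hε hεt
    obtain ⟨t', ht'⟩ := h1
    exact ⟨t', ht'.trans h2⟩

section Product

/-- the map `k[[x]] → k[[t]][[s]]`, `x ↦ s` -/
noncomputable def psS : PowerSeries k →+* R2 k := PowerSeries.map (PowerSeries.C (R := k))

theorem psS_X : psS (k := k) PowerSeries.X = PowerSeries.X := PowerSeries.map_X _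

theorem psS_algebraMap (a : k) : psS (algebraMap k (PowerSeries k) a) = algebraMap k (R2 k) a := by
  have h1 : algebraMap k (PowerSeries k) a = PowerSeries.C a := by
    rw [PowerSeries.algebraMap_apply]; rfl
  rw [PowerSeries.algebraMap_apply (A := PowerSeries k), h1, psS, PowerSeries.map_C]

theorem isLocalHom_psS : IsLocalHom (psS (k := k)) := by
  constructor
  intro a ha
  rw [PowerSeries.isUnit_iff_constantCoeff] at ha ⊢
  have h1 : PowerSeries.constantCoeff (psS a) = PowerSeries.C (PowerSeries.constantCoeff a) := by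
    rw [psS, ← PowerSeries.coeff_zero_eq_constantCoeff_apply, PowerSeries.coeff_map,
      PowerSeries.coeff_zero_eq_constantCoeff_apply]
  rw [h1, PowerSeries.isUnit_iff_constantCoeff, PowerSeries.constantCoeff_C] at ha
  exact ha

theorem ev0_psS (a : PowerSeries k) : ev0 (psS a) = PowerSeries.constantCoeff a := by
  rw [ev0_apply, psS, ← PowerSeries.coeff_zero_eq_constantCoeff_apply (PowerSeries.map _ a), PowerSeries.coeff_map,
      PowerSeries.coeff_zero_eq_constantCoeff_apply, PowerSeries.constantCoeff_C]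

/-- the map `k[[x]] → k[[t]][[s]]`, `x ↦ t` -/
noncomputable def psT : PowerSeries k →+* R2 k := PowerSeries.C (R := PowerSeries k)

theorem psT_algebraMap (a : k) : psT (algebraMap k (PowerSeries k) a) = algebraMap k (R2 k) a := by
  rw [PowerSeries.algebraMap_apply (A := PowerSeries k)]
  rfl

theorem isLocalHom_psT : IsLocalHom (psT (k := k)) := by
  constructor
  intro a ha
  rw [PowerSeries.isUnit_iff_constantCoeff, psT, PowerSeries.constantCoeff_C] at ha
  exact ha

theorem ev0_psT (a : PowerSeries k) : ev0 (psT a) = PowerSeries.constantCoeff a := by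
  rw [ev0_apply, psT, PowerSeries.constantCoeff_C]

theorem ev0_algebraMap (a : k) : ev0 (algebraMap k (R2 k) a) = a := by
  rw [← psT_algebraMap, ev0_psT, PowerSeries.algebraMap_apply, PowerSeries.constantCoeff_C]
  rfl

variable [IsAlgClosed k] (C B : Over (Spec (CommRingCat.of k))) [IsIntegral C.left] [Smooth C.hom] [IsIntegral B.left]
  [Smooth B.hom]

/-- the formal germ of a product of smooth curves at a rational point -/
theorem exists_germ_prod (hC : topologicalKrullDim C.left = 1) (hB : topologicalKrullDim B.left = 1)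
    (c : Spec (CommRingCat.of k) ⟶ C.left) (hc : c ≫ C.hom = 𝟙 _) (b : Spec (CommRingCat.of k) ⟶ B.left)
    (hb : b ≫ B.hom = 𝟙 _) :
    ∃ (Γ : Spec (CommRingCat.of (R2 k)) ⟶ (C ⊗ B).left) (β : Spec (CommRingCat.of (PowerSeries k)) ⟶ B.left),
      Γ ≫ (C ⊗ B).hom = Spec.map (CommRingCat.ofHom (algebraMap k (R2 k))) ∧
      β ≫ B.hom = Spec.map (CommRingCat.ofHom (algebraMap k (PowerSeries k))) ∧
      Spec.map (CommRingCat.ofHom (PowerSeries.constantCoeff (R := k))) ≫ β = b ∧
      Spec.map (CommRingCat.ofHom (ev0 (k := k))) ≫ Γ ≫ (fst C B).left = c ∧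
      Spec.map (CommRingCat.ofHom (ev0 (k := k))) ≫ Γ ≫ (snd C B).left = b ∧
      Spec.map (CommRingCat.ofHom (PowerSeries.constantCoeff (R := PowerSeries k))) ≫ Γ ≫ (fst C B).left =
        Spec.map (CommRingCat.ofHom (algebraMap k (PowerSeries k))) ≫ c ∧
      Spec.map (CommRingCat.ofHom (PowerSeries.constantCoeff (R := PowerSeries k))) ≫ Γ ≫ (snd C B).left = β ∧
      InRange Γ (PowerSeries.X : R2 k) ∧ InRange Γ (PowerSeries.C PowerSeries.X : R2 k) := by
  obtain ⟨γ, hγ1, hγ2, hγ3⟩ := exists_germ C.hom hC c hc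
  obtain ⟨β, hβ1, hβ2, hβ3⟩ := exists_germ B.hom hB b hb
  have hS := isLocalHom_psS (k := k)
  have hT := isLocalHom_psT (k := k)
  have hSa : Spec.map (CommRingCat.ofHom (psS (k := k))) ≫ Spec.map (CommRingCat.ofHom (algebraMap k (PowerSeries k))) =
      Spec.map (CommRingCat.ofHom (algebraMap k (R2 k))) := by
    rw [← Spec.map_comp, ← CommRingCat.ofHom_comp]
    congr 2
  have hTa : Spec.map (CommRingCat.ofHom (psT (k := k))) ≫ Spec.map (CommRingCat.ofHom (algebraMap k (PowerSeries k))) =
      Spec.map (CommRingCat.ofHom (algebraMap k (R2 k))) := by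
    rw [← Spec.map_comp, ← CommRingCat.ofHom_comp]
    congr 2
    exact RingHom.ext psT_algebraMap
  let T : Over (Spec (CommRingCat.of k)) := Over.mk (Spec.map (CommRingCat.ofHom (algebraMap k (R2 k))))
  let u : T ⟶ C := Over.homMk (Spec.map (CommRingCat.ofHom (psS (k := k))) ≫ γ) (by
    change (Spec.map (CommRingCat.ofHom (psS (k := k))) ≫ γ) ≫ C.hom = _
    rw [Category.assoc, hγ1, hSa]
    rfl)
  let v : T ⟶ B := Over.homMk (Spec.map (CommRingCat.ofHom (psT (k := k))) ≫ β) (by
    change (Spec.map (CommRingCat.ofHom (psT (k := k))) ≫ β) ≫ B.hom = _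
    rw [Category.assoc, hβ1, hTa]
    rfl)
  let Γ : T ⟶ C ⊗ B := lift u v
  have hΓ1 : Γ.left ≫ (fst C B).left = Spec.map (CommRingCat.ofHom (psS (k := k))) ≫ γ := by
    rw [← Over.comp_left, lift_fst]
    rfl
  have hΓ2 : Γ.left ≫ (snd C B).left = Spec.map (CommRingCat.ofHom (psT (k := k))) ≫ β := by
    rw [← Over.comp_left, lift_snd]
    rfl
  refine ⟨Γ.left, β, Over.w Γ, hβ1, hβ2, ?_, ?_, ?_, ?_, ?_, ?_⟩
  · rw [hΓ1, ← Category.assoc, ← Spec.map_comp, ← CommRingCat.ofHom_comp, show (ev0 (k := k)).comp psS =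
      PowerSeries.constantCoeff from RingHom.ext ev0_psS, hγ2]
  · rw [hΓ2, ← Category.assoc, ← Spec.map_comp, ← CommRingCat.ofHom_comp, show (ev0 (k := k)).comp psT =
      PowerSeries.constantCoeff from RingHom.ext ev0_psT, hβ2]
  · rw [hΓ1, ← Category.assoc, ← Spec.map_comp, ← CommRingCat.ofHom_comp, ← hγ2, ← Category.assoc, ← Spec.map_comp,
      ← CommRingCat.ofHom_comp]
    congr 3
  · rw [hΓ2, ← Category.assoc, ← Spec.map_comp, ← CommRingCat.ofHom_comp]
    have h1 : (PowerSeries.constantCoeff (R := PowerSeries k)).comp (psT (k := k)) = RingHom.id _ :=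
      RingHom.ext fun a => PowerSeries.constantCoeff_C a
    rw [h1, CommRingCat.ofHom_id, Spec.map_id, Category.id_comp]
  · have h1 : IsLocalHom (CommRingCat.ofHom (psS (k := k))).hom := hS
    have h2 := InRange.map hγ3 (CommRingCat.ofHom (psS (k := k)))
    have h3 : (CommRingCat.ofHom (psS (k := k))).hom (PowerSeries.X : PowerSeries k) = (PowerSeries.X : R2 k) := psS_X
    have h4 : InRange (Γ.left ≫ (fst C B).left) ((CommRingCat.ofHom (psS (k := k))).hom (PowerSeries.X : PowerSeries k)) := by
      rw [hΓ1]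
      exact h2
    obtain ⟨t, ht⟩ := h4.of_comp
    exact ⟨t, ht.trans h3⟩
  · have h1 : IsLocalHom (CommRingCat.ofHom (psT (k := k))).hom := hT
    have h2 := InRange.map hβ3 (CommRingCat.ofHom (psT (k := k)))
    have h4 : InRange (Γ.left ≫ (snd C B).left) ((CommRingCat.ofHom (psT (k := k))).hom (PowerSeries.X : PowerSeries k)) := by
      rw [hΓ2]
      exact h2
    obtain ⟨t, ht⟩ := h4.of_comp
    exact ⟨t, ht⟩

end Product

end K888.CurvePt
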