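import Groth.Agent.RatCurv.K888.Domain
import Groth.Agent.AbVar.K528.Rigid
import Groth.Agent.AbVar.K528.Irr
import Groth.Agent.Sga3.H780.PointedProd
import Groth.Agent.RatCurv.K888.CurvePt

set_option autoImplicit false
set_option backward.isDefEq.respectTransparency.types false

/-!
# A family of curves fixing a point is indeterminate at a point of the completed family
-/

universe u

open CategoryTheory AlgebraicGeometry Limits MonoidalCategory CartesianMonoidalCategory

namespace K888.Tube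

open K888.ExtCrit K888.Domain

variable {k : Type u} [Field k]

theorem isOpenImmersion_whiskerLeft (C : Over (Spec (CommRingCat.of k))) {B P : Over (Spec (CommRingCat.of k))} (j : B ⟶ P)
    [IsOpenImmersion j.left] : IsOpenImmersion (C ◁ j).left := by
  rw [← id_tensorHom, Over.tensorHom_left]
  infer_instance

variable [IsAlgClosed k] {X C P B : Over (Spec (CommRingCat.of k))} [IsSeparated X.hom] [LocallyOfFiniteType X.hom]
  [IsIntegral C.left] [LocallyOfFiniteType C.hom] [IsProper P.hom] [Smooth P.hom] [IsIntegral P.left]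
  [IsIntegral B.left] [IsIntegral (C ⊗ P).left] (j : B ⟶ P) [IsOpenImmersion j.left]
  (F : C ⊗ B ⟶ X) (c : 𝟙_ (Over (Spec (CommRingCat.of k))) ⟶ C) (p : 𝟙_ (Over (Spec (CommRingCat.of k))) ⟶ X)
  (hfix : lift (toUnit B ≫ c) (𝟙 B) ≫ F = toUnit B ≫ p)
  (U : (C ⊗ P).left.Opens) (hU : (U : Set (C ⊗ P).left).Nonempty) (φ : (U : Scheme.{u}) ⟶ X.left)
  (e : (C ⊗ B).left ⟶ U) (he : e ≫ U.ι = (C ◁ j).left) (heφ : e ≫ φ = F.left) (heI : IsIso e)

include hfix hU he heφ heI in
theorem exists_tube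
    (hlift : ∀ x : (C ⊗ P).left, IsClosed ({x} : Set (C ⊗ P).left) →
      (fst C P).left x = c.left (IsLocalRing.closedPoint k) →
      ∃ l : Spec ((C ⊗ P).left.presheaf.stalk x) ⟶ X.left,
        Spec.map (CommRingCat.ofHom (algebraMap ((C ⊗ P).left.presheaf.stalk x) (C ⊗ P).left.functionField)) ≫ l =
          gen U hU φ) :
    ∃ (W : Over (Spec (CommRingCat.of k))) (w : W ⟶ C) (g : W ⟶ X), IsOpenImmersion w.left ∧
      (Set.range w.left).Nonempty ∧ (w ▷ B) ≫ F = fst W B ≫ g := by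
  have hφ : φ ≫ X.hom = U.ι ≫ (C ⊗ P).hom := by
    rw [← cancel_epi e, ← Category.assoc, heφ, ← Category.assoc, he, Over.w, Over.w]
  obtain ⟨D, hUD, φ₁, hφ₁, hres, hD⟩ := exists_domain (C ⊗ P).hom X.hom U hU φ hφ
  have hsub : Subsingleton (Spec (CommRingCat.of k)) := inferInstanceAs (Subsingleton (PrimeSpectrum k))
  let x₀ : C.left := c.left (IsLocalRing.closedPoint k)
  have hx₀ : IsClosed ({x₀} : Set C.left) := CurvePt.isClosed_point C.hom c.left (Over.w c)
  have hprop : IsProper (fst C P).left := by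
    change IsProper (pullback.fst C.hom P.hom)
    infer_instance
  have hcl : IsClosedMap (fst C P).left := (fst C P).left.isClosedMap
  let Z : Set C.left := (fst C P).left '' (D : Set (C ⊗ P).left)ᶜ
  have hZ : IsClosed Z := hcl _ D.2.isClosed_compl
  have hlft : LocallyOfFiniteType (C ⊗ P).hom := by
    change LocallyOfFiniteType (pullback.fst C.hom P.hom ≫ C.hom)
    infer_instance
  have hx₀Z : x₀ ∉ Z := by
    rintro ⟨z, hz, hzx⟩
    have : JacobsonSpace (C ⊗ P).left := LocallyOfFiniteType.jacobsonSpace (C ⊗ P).hom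
    have h1 : IsClosed ((D : Set (C ⊗ P).left)ᶜ ∩ (fst C P).left ⁻¹' {x₀}) :=
      D.2.isClosed_compl.inter (hx₀.preimage (fst C P).left.continuous)
    have h2 : ((D : Set (C ⊗ P).left)ᶜ ∩ (fst C P).left ⁻¹' {x₀}).Nonempty := ⟨z, hz, hzx⟩
    obtain ⟨x, ⟨hx1, hx2⟩, hx3⟩ := nonempty_inter_closedPoints h2 h1.isLocallyClosed
    exact hx1 (hD x (hlift x hx3 hx2))
  let W' : C.left.Opens := ⟨Zᶜ, hZ.isOpen_compl⟩
  let W : Over (Spec (CommRingCat.of k)) := Over.mk (W'.ι ≫ C.hom)
  let w : W ⟶ C := Over.homMk W'.ι rfl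
  let y : W.left := ⟨x₀, hx₀Z⟩
  have hy : w.left y = x₀ := rfl
  have hwo : IsOpenImmersion w.left := inferInstanceAs (IsOpenImmersion W'.ι)
  let a : P ⊗ W ⟶ C ⊗ P := lift (snd P W ≫ w) (fst P W)
  have hrange : Set.range a.left ⊆ Set.range D.ι := by
    rintro _ ⟨z, rfl⟩
    have h1 : a.left z ∈ D := by
      by_contra hcon
      have h2 : (fst C P).left (a.left z) ∈ Z := ⟨_, hcon, rfl⟩
      have h3 : (fst C P).left (a.left z) = w.left ((snd P W).left z) := by
        rw [← Scheme.Hom.comp_apply, ← Scheme.Hom.comp_apply, ← Over.comp_left, ← Over.comp_left, lift_fst]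
      rw [h3] at h2
      exact ((snd P W).left z).2 h2
    simpa using h1
  let a' : (P ⊗ W).left ⟶ D := IsOpenImmersion.lift D.ι a.left hrange
  have ha' : a' ≫ D.ι = a.left := IsOpenImmersion.lift_fac _ _ _
  let ψ : P ⊗ W ⟶ X := Over.homMk (a' ≫ φ₁) (by
    rw [Category.assoc, hφ₁, ← Category.assoc, ha', Over.w])
  have hψ : ∀ {T : Over (Spec (CommRingCat.of k))} (r : T ⟶ P ⊗ W) (m : T ⟶ C ⊗ B), r ≫ a = m ≫ (C ◁ j) →
      r ≫ ψ = m ≫ F := by
    intro T r m hrm
    have h1 : r.left ≫ a' = m.left ≫ e ≫ (C ⊗ P).left.homOfLE hUD := by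
      rw [← cancel_mono D.ι, Category.assoc, ha', Category.assoc, Category.assoc, Scheme.homOfLE_ι, he, ← Over.comp_left,
        ← Over.comp_left, hrm]
    ext1
    change r.left ≫ (a' ≫ φ₁) = m.left ≫ F.left
    rw [← Category.assoc, h1, Category.assoc, Category.assoc, hres, heφ]
  let cW : 𝟙_ (Over (Spec (CommRingCat.of k))) ⟶ W := Over.homMk (IsOpenImmersion.lift W'.ι c.left (by
      rintro _ ⟨z, rfl⟩
      have h1 : z = IsLocalRing.closedPoint k := Subsingleton.elim (α := Spec (CommRingCat.of k)) _ _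
      rw [h1]
      exact ⟨y, rfl⟩)) (by
    change IsOpenImmersion.lift W'.ι c.left _ ≫ W'.ι ≫ C.hom = _
    rw [← Category.assoc, IsOpenImmersion.lift_fac, Over.w])
  have hcW : cW ≫ w = c := by
    ext1
    exact IsOpenImmersion.lift_fac _ _ _
  let s : P ⟶ P ⊗ W := lift (𝟙 P) (toUnit P ≫ cW)
  have hdom : IsDominant j.left := by
    refine ⟨?_⟩
    exact j.left.isOpenEmbedding.isOpen_range.dense ⟨_, ⟨genericPoint B.left, rfl⟩⟩
  have hs : s ≫ ψ = toUnit P ≫ p := by
    ext1
    refine ext_of_isDominant_of_isSeparated X.hom ?_ j.left ?_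
    · rw [Over.w, Over.w]
    · rw [← Over.comp_left, ← Over.comp_left, ← Category.assoc, hψ (j ≫ s) (lift (toUnit B ≫ c) (𝟙 B)) ?_, hfix,
        ← Category.assoc, toUnit_unique (j ≫ toUnit P) (toUnit B)]
      apply CartesianMonoidalCategory.hom_ext
      · simp only [s, a, Category.assoc, lift_fst, lift_snd_assoc, whiskerLeft_fst, hcW]
        rw [← Category.assoc, toUnit_unique (j ≫ toUnit P) (toUnit B)]
      · simp [s, a]
  have h6 : ∀ z : (P ⊗ W).left, (snd P W).left z = y → ψ.left z = p.left (IsLocalRing.closedPoint k) := by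
    intro z hz
    have h1 : z ∈ Set.range (P ◁ cW).left := by
      rw [K528.Rigid.range_whiskerLeft]
      refine ⟨IsLocalRing.closedPoint k, ?_⟩
      rw [hz]
      apply w.left.isOpenEmbedding.injective
      rw [hy, ← Scheme.Hom.comp_apply, ← Over.comp_left, hcW]
    obtain ⟨z', rfl⟩ := h1
    have h2 : (P ◁ cW) = fst P (𝟙_ _) ≫ s := by
      apply CartesianMonoidalCategory.hom_ext
      · simp [s]
      · simp only [s, whiskerLeft_snd, Category.assoc, lift_snd]
        rw [← Category.assoc, toUnit_unique (fst P (𝟙_ _) ≫ toUnit P) (snd P (𝟙_ _))]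
    rw [← Scheme.Hom.comp_apply, ← Over.comp_left, h2, Category.assoc, hs, ← Category.assoc, Over.comp_left,
      Scheme.Hom.comp_apply]
    congr 1
    exact Subsingleton.elim (α := Spec (CommRingCat.of k)) _ _
  have hWne : Nonempty W.left := ⟨y⟩
  have hWne' : Nonempty (W' : Scheme.{u}) := ⟨y⟩
  have hWint : IsIntegral W.left := inferInstanceAs (IsIntegral (W' : Scheme.{u}))
  have hWlft : LocallyOfFiniteType W.hom := inferInstanceAs (LocallyOfFiniteType (W'.ι ≫ C.hom))
  have hPg : GeometricallyIntegral P.hom := Groth.Agent.Sga3.H780.PointedProd.geometricallyIntegral P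
  have hPW : IsIntegral (P ⊗ W).left := K528.Irr.isIntegral_tensor P W
  have hPPW : IsIntegral (P ⊗ (P ⊗ W)).left := K528.Irr.isIntegral_tensor P (P ⊗ W)
  obtain ⟨g, hg⟩ := K528.Rigid.exists_fac P W X ψ y _ h6
  refine ⟨W, w, g, hwo, ⟨_, ⟨y, rfl⟩⟩, ?_⟩
  rw [← hψ (lift (snd W B ≫ j) (fst W B)) (w ▷ B) ?_, hg, ← Category.assoc, lift_snd]
  apply CartesianMonoidalCategory.hom_ext
  · simp [a]
  · simp [a]

end K888.Tube
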