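import Groth.Agent.RatCurv.K888.Compl
import Groth.Agent.RatCurv.K888.Tube
import Groth.Agent.RatCurv.K888.Through
import Groth.Agent.RatCurv.K888.Germ2

set_option autoImplicit false
set_option backward.isDefEq.respectTransparency.types false

/-!
# Bend and break: a family of curves fixing a point produces a rational curve through the point
-/

universe u

open CategoryTheory AlgebraicGeometry Limits MonoidalCategory CartesianMonoidalCategory IsLocalRing

namespace K888.FamFix

open K888.ExtCrit K888.PPt K888.PSMain K888.PSLocal K888.Diag K888.RangePt K888.CurvePt K888.LocGeo2 K888.BadPt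
  K888.Tube K888.Through K888.Germ2 K888.Compl

variable {k : Type u} [Field k] [IsAlgClosed k]

/-- existence of a bad point -/
theorem exists_bad {X C P B B' : Over (Spec (CommRingCat.of k))} [IsProper X.hom]
    [IsIntegral C.left] [LocallyOfFiniteType C.hom] [IsProper P.hom] [Smooth P.hom] [IsIntegral P.left]
    [IsIntegral B.left] [IsIntegral B'.left] [LocallyOfFiniteType B.hom] (i : B' ⟶ B) [IsOpenImmersion i.left]
    (j : B' ⟶ P) [IsOpenImmersion j.left]
    (F : C ⊗ B ⟶ X) (c : 𝟙_ (Over (Spec (CommRingCat.of k))) ⟶ C) (p : 𝟙_ (Over (Spec (CommRingCat.of k))) ⟶ X)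
    (hfix : lift (toUnit B ≫ c) (𝟙 B) ≫ F = toUnit B ≫ p)
    (hvar : ¬ ∃ G : C ⟶ X, F = fst C B ≫ G) [IsIntegral (C ⊗ P).left]
    (U : (C ⊗ P).left.Opens) (hU : (U : Set (C ⊗ P).left).Nonempty) (φ : (U : Scheme.{u}) ⟶ X.left)
    (e : (C ⊗ B').left ⟶ U) (he : e ≫ U.ι = (C ◁ j).left) (heφ : e ≫ φ = (C ◁ i ≫ F).left) (heI : IsIso e) :
    ∃ x : (C ⊗ P).left, IsClosed ({x} : Set (C ⊗ P).left) ∧ (fst C P).left x = c.left (IsLocalRing.closedPoint k) ∧
      ¬ ∃ l : Spec ((C ⊗ P).left.presheaf.stalk x) ⟶ X.left,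
        Spec.map (CommRingCat.ofHom (algebraMap ((C ⊗ P).left.presheaf.stalk x) (C ⊗ P).left.functionField)) ≫ l =
          gen U hU φ := by
  by_contra hcon
  push Not at hcon
  have hfix' : lift (toUnit B' ≫ c) (𝟙 B') ≫ (C ◁ i ≫ F) = toUnit B' ≫ p := by
    have h1 : lift (toUnit B' ≫ c) (𝟙 B') ≫ C ◁ i = i ≫ lift (toUnit B ≫ c) (𝟙 B) := by
      apply CartesianMonoidalCategory.hom_ext
      · simp only [Category.assoc, whiskerLeft_fst, lift_fst]
        rw [← Category.assoc, toUnit_unique (i ≫ toUnit B) (toUnit B')]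
      · simp
    rw [← Category.assoc, h1, Category.assoc, hfix, ← Category.assoc, toUnit_unique (i ≫ toUnit B) (toUnit B')]
  obtain ⟨W, w, g, hw, hwne, hg⟩ := exists_tube j (C ◁ i ≫ F) c p hfix' U hU φ e he heφ heI hcon
  apply hvar
  have hB'lft : LocallyOfFiniteType B'.hom := by
    rw [← Over.w i]
    infer_instance
  have hCB : IsIntegral (C ⊗ B).left := K528.Irr.isIntegral_tensor C B
  -- a rational point of `B'`
  obtain ⟨b⟩ : Nonempty (𝟙_ (Over (Spec (CommRingCat.of k))) ⟶ B') := by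
    have : JacobsonSpace B'.left := LocallyOfFiniteType.jacobsonSpace B'.hom
    obtain ⟨b, -, hb⟩ := nonempty_inter_closedPoints (Z := (Set.univ : Set B'.left)) Set.univ_nonempty
      isClosed_univ.isLocallyClosed
    exact ⟨Over.homMk (pointOfClosedPoint B'.hom b hb) (pointOfClosedPoint_comp B'.hom b hb)⟩
  refine ⟨lift (𝟙 C) (toUnit C ≫ b ≫ i) ≫ F, ?_⟩
  have hWi : IsOpenImmersion (w ⊗ₘ i).left := by
    rw [Over.tensorHom_left]
    infer_instance
  have hdom : IsDominant (w ⊗ₘ i).left := by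
    refine ⟨(w ⊗ₘ i).left.isOpenEmbedding.isOpen_range.dense ?_⟩
    obtain ⟨_, ⟨y, rfl⟩⟩ := hwne
    have hWne : Nonempty W.left := ⟨y⟩
    have hlw : LocallyOfFiniteType W.hom := by
      rw [← Over.w w]
      infer_instance
    have : JacobsonSpace W.left := LocallyOfFiniteType.jacobsonSpace W.hom
    obtain ⟨y', -, hy'⟩ := nonempty_inter_closedPoints (Z := (Set.univ : Set W.left)) Set.univ_nonempty
      isClosed_univ.isLocallyClosed
    let yW : 𝟙_ (Over (Spec (CommRingCat.of k))) ⟶ W :=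
      Over.homMk (pointOfClosedPoint W.hom y' hy') (pointOfClosedPoint_comp W.hom y' hy')
    exact ⟨_, ⟨(lift yW b).left (IsLocalRing.closedPoint k), rfl⟩⟩
  ext1
  refine ext_of_isDominant_of_isSeparated X.hom ?_ (w ⊗ₘ i).left ?_
  · rw [Over.w, Over.w]
  · rw [← Over.comp_left, ← Over.comp_left]
    congr 1
    have h1 : (w ⊗ₘ i) ≫ F = fst W B' ≫ g := by
      rw [← hg, ← Category.assoc, ← tensorHom_def]
    have h2 : (w ⊗ₘ i) ≫ fst C B ≫ lift (𝟙 C) (toUnit C ≫ b ≫ i) ≫ F =
        (fst W B' ≫ lift (𝟙 W) (toUnit W ≫ b)) ≫ (w ▷ B' ≫ C ◁ i ≫ F) := by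
      have h3 : (w ⊗ₘ i) ≫ fst C B ≫ lift (𝟙 C) (toUnit C ≫ b ≫ i) =
        (fst W B' ≫ lift (𝟙 W) (toUnit W ≫ b)) ≫ (w ▷ B' ≫ C ◁ i) := by
        apply CartesianMonoidalCategory.hom_ext
        · simp
        · simp only [Category.assoc, tensorHom_fst_assoc, lift_snd, whiskerLeft_snd, whiskerRight_snd_assoc,
            lift_snd_assoc]
          rw [← Category.assoc w, toUnit_unique (w ≫ toUnit C) (toUnit W)]
      have h4 := congrArg (fun g => g ≫ F) h3
      simpa only [Category.assoc] using h4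
    rw [h1, h2, hg]
    simp

/-- a family of curves fixing a point produces a rational curve through the point -/
theorem exists_rational_curve_through {n : ℕ} (X C B : Over (Spec (CommRingCat.of k))) [IsIntegral C.left] [Smooth C.hom]
    [IsIntegral B.left] [IsSeparated B.hom] [LocallyOfFiniteType B.hom] [QuasiCompact B.hom]
    (hC : topologicalKrullDim C.left = 1) (hB : topologicalKrullDim B.left = 1)
    (ι : X.left ⟶ CohB1.ProjSpace n k) [IsClosedImmersion ι] (hι : ι ≫ CohB1.ProjSpace.toSpec n k = X.hom)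
    (F : C ⊗ B ⟶ X) (c : 𝟙_ (Over (Spec (CommRingCat.of k))) ⟶ C) (p : 𝟙_ (Over (Spec (CommRingCat.of k))) ⟶ X)
    (hfix : lift (toUnit B ≫ c) (𝟙 B) ≫ F = toUnit B ≫ p)
    (hvar : ¬ ∃ G : C ⟶ X, F = fst C B ≫ G) :
    ∃ (g : Over.mk (CohB1.ProjSpace.toSpec 1 k) ⟶ X) (t : 𝟙_ (Over (Spec (CommRingCat.of k))) ⟶
      Over.mk (CohB1.ProjSpace.toSpec 1 k)), t ≫ g = p ∧ ¬ ∃ x : X.left, Set.range g.left.base ⊆ {x} := by
  have hprop : IsProper X.hom := NotExt.isProper_of_closedImmersion X ι hι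
  obtain ⟨B', P, i, j, hi, hj, hB'int, hPint, hPprop, hPsm, hPdim⟩ := exists_compl B hB
  have hint : IsIntegral (C ⊗ P).left := K528.Irr.isIntegral_tensor C P
  have hsm : Smooth (C ⊗ P).hom := smooth_tensor C P
  have hm : IsOpenImmersion (C ◁ j).left := isOpenImmersion_whiskerLeft C j
  have hB'lft : LocallyOfFiniteType B'.hom := by
    rw [← Over.w i]
    infer_instance
  let U : (C ⊗ P).left.Opens := (C ◁ j).left.opensRange
  let e : (C ⊗ B').left ⟶ U := (C ◁ j).left.isoOpensRange.hom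
  have he : e ≫ U.ι = (C ◁ j).left := Scheme.Hom.isoOpensRange_hom_ι _
  let φ : (U : Scheme.{u}) ⟶ X.left := (C ◁ j).left.isoOpensRange.inv ≫ (C ◁ i ≫ F).left
  have heφ : e ≫ φ = (C ◁ i ≫ F).left := Iso.hom_inv_id_assoc _ _
  have heI : IsIso e := inferInstance
  have hφ : φ ≫ X.hom = U.ι ≫ (C ⊗ P).hom := by
    rw [← cancel_epi e, ← Category.assoc, heφ, ← Category.assoc, he, Over.w, Over.w]
  -- a rational point of `B'`
  obtain ⟨b'⟩ : Nonempty (𝟙_ (Over (Spec (CommRingCat.of k))) ⟶ B') := by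
    have : JacobsonSpace B'.left := LocallyOfFiniteType.jacobsonSpace B'.hom
    obtain ⟨b, -, hb⟩ := nonempty_inter_closedPoints (Z := (Set.univ : Set B'.left)) Set.univ_nonempty
      isClosed_univ.isLocallyClosed
    exact ⟨Over.homMk (pointOfClosedPoint B'.hom b hb) (pointOfClosedPoint_comp B'.hom b hb)⟩
  have hU : (U : Set (C ⊗ P).left).Nonempty := ⟨_, ⟨(lift c b').left (IsLocalRing.closedPoint k), rfl⟩⟩
  obtain ⟨x, hx, hxc, hno⟩ := exists_bad i j F c p hfix hvar U hU φ e he heφ heI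
  let σ : Spec (CommRingCat.of k) ⟶ (C ⊗ P).left := pointOfClosedPoint (C ⊗ P).hom x hx
  have hσ : σ ≫ (C ⊗ P).hom = 𝟙 _ := pointOfClosedPoint_comp (C ⊗ P).hom x hx
  have hσx : ∀ a, σ a = x := fun a => pointOfClosedPoint_apply (C ⊗ P).hom x hx a
  have hc : (σ ≫ (fst C P).left) ≫ C.hom = 𝟙 _ := by
    rw [Category.assoc, Over.w, hσ]
  have hσc : σ ≫ (fst C P).left = c.left := by
    refine ext_of_apply_closedPoint_eq C.hom hc (Over.w c) ?_
    refine (Scheme.Hom.comp_apply σ (fst C P).left _).trans ?_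
    rw [hσx]
    exact hxc
  have hb : (σ ≫ (snd C P).left) ≫ P.hom = 𝟙 _ := by
    rw [Category.assoc, Over.w, hσ]
  obtain ⟨Γ, β, hΓ, hβ, -, hΓc, hΓb, hΓ1, hΓ2, hX, hY, hβX⟩ := exists_germ_prod2 C P hC hPdim _ hc _ hb
  have hΓσ : Spec.map (CommRingCat.ofHom (ev0 (k := k))) ≫ Γ = σ := by
    refine pullback.hom_ext ?_ ?_
    · rw [Category.assoc]; exact hΓc
    · rw [Category.assoc]; exact hΓb
  have hpt : Γ (closedPoint (R2 k)) = x := by
    have h0 : IsLocalHom (CommRingCat.ofHom (ev0 (k := k))).hom := NotExt.isLocalHom_ev0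
    have h1 : Spec.map (CommRingCat.ofHom (ev0 (k := k))) (closedPoint k) = closedPoint (R2 k) :=
      Spec_closedPoint (R := CommRingCat.of (R2 k)) (S := CommRingCat.of k) (f := CommRingCat.ofHom (ev0 (k := k)))
    rw [← hσx (closedPoint k), ← hΓσ, ← h1]
    rfl
  rw [← hpt] at hno
  -- the homogeneous coordinates of `p`
  obtain ⟨i₀, pp, hpp, hppt⟩ := exists_eq_pt (k := k) (L := k) (p.left ≫ ι) (by
    rw [Category.assoc, hι, Over.w]
    exact (Spec.map_id _).symm)
  -- the generic point of the curve `s = 0`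
  let L := FractionRing (PowerSeries k)
  let TL : Over (Spec (CommRingCat.of k)) := Over.mk (Spec.map (CommRingCat.ofHom (algebraMap k L)))
  have hkL : Spec.map (CommRingCat.ofHom (algebraMap (PowerSeries k) L)) ≫
      Spec.map (CommRingCat.ofHom (algebraMap k (PowerSeries k))) = Spec.map (CommRingCat.ofHom (algebraMap k L)) := by
    rw [← Spec.map_comp, ← CommRingCat.ofHom_comp, ← IsScalarTower.algebraMap_eq]
  have hgen : (Spec.map (CommRingCat.ofHom (algebraMap (PowerSeries k) L)) ≫ β) (closedPoint L) = genericPoint P.left :=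
    apply_eq_genericPoint hPdim β hβX
  have hrange : Set.range (Spec.map (CommRingCat.ofHom (algebraMap (PowerSeries k) L)) ≫ β) ⊆ Set.range j.left := by
    rintro _ ⟨z, rfl⟩
    have h1 : z = closedPoint L := Subsingleton.elim (α := PrimeSpectrum L) _ _
    rw [h1, hgen]
    have h2 : genericPoint P.left ⤳ j.left (b'.left (closedPoint k)) := genericPoint_specializes _
    exact h2.mem_open j.left.isOpenEmbedding.isOpen_range ⟨_, rfl⟩
  let v : TL ⟶ B' := Over.homMk (IsOpenImmersion.lift j.left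
    (Spec.map (CommRingCat.ofHom (algebraMap (PowerSeries k) L)) ≫ β) hrange) (by
    change _ = Spec.map (CommRingCat.ofHom (algebraMap k L))
    rw [← Over.w j, ← Category.assoc, IsOpenImmersion.lift_fac, Category.assoc, hβ, hkL])
  have hv : (v ≫ j).left = Spec.map (CommRingCat.ofHom (algebraMap (PowerSeries k) L)) ≫ β :=
    IsOpenImmersion.lift_fac _ _ _
  let d : TL ⟶ C ⊗ B' := lift (toUnit TL ≫ c) v
  have hd : (d ≫ C ◁ j).left = Spec.map (CommRingCat.ofHom (algebraMap (PowerSeries k) L)) ≫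
      Spec.map (CommRingCat.ofHom (PowerSeries.constantCoeff (R := PowerSeries k))) ≫ Γ := by
    refine pullback.hom_ext ?_ ?_
    · change (d ≫ C ◁ j).left ≫ (fst C P).left = (_ ≫ _ ≫ Γ) ≫ (fst C P).left
      rw [← Over.comp_left, Category.assoc, whiskerLeft_fst, Category.assoc, Category.assoc, hΓ1, hσc, lift_fst,
        ← Category.assoc, hkL]
      rfl
    · change (d ≫ C ◁ j).left ≫ (snd C P).left = (_ ≫ _ ≫ Γ) ≫ (snd C P).left
      rw [← Over.comp_left, Category.assoc, whiskerLeft_snd, Category.assoc, Category.assoc, hΓ2, lift_snd_assoc, hv]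
  have hdF : d ≫ C ◁ i ≫ F = toUnit TL ≫ p := by
    have h1 : d ≫ C ◁ i = (v ≫ i) ≫ lift (toUnit B ≫ c) (𝟙 B) := by
      apply CartesianMonoidalCategory.hom_ext
      · simp only [d, Category.assoc, whiskerLeft_fst, lift_fst]
        rw [← Category.assoc i, ← Category.assoc v, toUnit_unique (v ≫ i ≫ toUnit B) (toUnit TL)]
      · simp [d]
    rw [← Category.assoc, h1, Category.assoc, hfix, ← Category.assoc, toUnit_unique ((v ≫ i) ≫ toUnit B) (toUnit TL)]
  obtain ⟨h, hNC, ⟨u, hu, hup⟩, hl⟩ := exists_coords_through X C P hC hPdim ι hι U hU φ hφ Γ hΓ hX hY hno pp i₀ hpp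
    (L := L) (d.left ≫ e) (by rw [Category.assoc, he, ← Over.comp_left, hd]) (by
      rw [Category.assoc, ← Category.assoc e, heφ, ← Category.assoc, ← Over.comp_left, hdF, ← hppt, Over.comp_left,
        Category.assoc]
      rfl)
  have hhi : h i₀ ≠ 0 := by
    intro h0
    have h1 := hup i₀
    rw [h0, Polynomial.eval_zero] at h1
    exact mul_ne_zero hu hpp.ne_zero h1.symm
  have hunit : IsUnit (algebraMap (Polynomial k) (Localization.Away (h i₀)) (h i₀)) :=
    IsLocalization.Away.algebraMap_isUnit (h i₀)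
  obtain ⟨l, hl⟩ := hl i₀ hhi (Localization.Away (h i₀)) hunit
  obtain ⟨g, hg, hgt⟩ := P1Map.exists_curve_of_lift X ι hι h hNC i₀ hhi l hunit hl
  have hz : (h i₀).eval 0 ≠ 0 := by
    rw [hup]
    exact mul_ne_zero hu hpp.ne_zero
  obtain ⟨t, ht⟩ := hgt 0 hz
  refine ⟨g, t, ?_, hg⟩
  ext1
  rw [← cancel_mono ι, ht, hppt]
  exact pt_smul (k := k) pp i₀ hpp u (isUnit_iff_ne_zero.mpr hu) _ hup (isUnit_iff_ne_zero.mpr hz)

end K888.FamFix
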