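import Groth.Agent.CAlgX.K581.HomDim
import Groth.Agent.RatCurve.K915.BinaryForms
import Mathlib.LinearAlgebra.FreeModule.Finite.Matrix
import Mathlib.LinearAlgebra.Dual.Lemmas
import Mathlib.LinearAlgebra.FiniteDimensional.Lemmas

set_option autoImplicit false

/-!
# Binary forms and linear systems on the projective line: multiplication maps and catalecticants
-/

open MvPolynomial

namespace K888.BinForm

universe u

variable {K : Type u} [Field K]

/-- binary forms of degree `n` -/
abbrev S (K : Type u) [Field K] (n : ℕ) : Submodule K (MvPolynomial (Fin 2) K) := homogeneousSubmodule (Fin 2) K n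

theorem finrank_S (n : ℕ) : Module.finrank K (S K n) = n + 1 := by
  rw [K581.HomDim.finrank_homogeneous K 1 n, Nat.choose_one_right]

instance finite_S (n : ℕ) : Module.Finite K (S K n) := K581.HomDim.finite_homogeneous K 1 n

/-- multiplication of binary forms -/
noncomputable def mulS (p q n : ℕ) (h : p + q = n) : S K p →ₗ[K] S K q →ₗ[K] S K n :=
  LinearMap.mk₂ K (fun a b => ⟨a.1 * b.1, by
    have := (mem_homogeneousSubmodule _ _).1 a.2 |>.mul ((mem_homogeneousSubmodule _ _).1 b.2)
    rw [h] at this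
    exact (mem_homogeneousSubmodule _ _).2 this⟩)
    (fun a b c => Subtype.ext (add_mul _ _ _))
    (fun c a b => Subtype.ext (smul_mul_assoc _ _ _))
    (fun a b c => Subtype.ext (mul_add _ _ _))
    (fun c a b => Subtype.ext (mul_smul_comm _ _ _))

@[simp] theorem mulS_coe (p q n : ℕ) (h : p + q = n) (a : S K p) (b : S K q) :
    (mulS p q n h a b : MvPolynomial (Fin 2) K) = a.1 * b.1 := rfl

/-- Dimension count: a linear series of codimension `r + 1` contains all multiples of some form of degree `k`. -/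
theorem exists_mul_mem (n r k : ℕ) (hkn : k ≤ n) (hineq : (r + 1) * (n + 1) ≤ (r + 2) * k)
    (U : Submodule K (MvPolynomial (Fin 2) K)) (hU : U ≤ S K n)
    (hcodim : Module.finrank K U + (r + 1) = n + 1) :
    ∃ g ∈ S K k, g ≠ 0 ∧ ∀ h ∈ S K (n - k), g * h ∈ U := by
  let U' : Submodule K (S K n) := U.submoduleOf (S K n)
  have hU' : Module.finrank K U' = Module.finrank K U := (Submodule.submoduleOfEquivOfLe hU).finrank_eq
  have hQ : Module.finrank K (S K n ⧸ U') = r + 1 := by
    have := Submodule.finrank_quotient_add_finrank U'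
    rw [finrank_S, hU'] at this
    omega
  let T : S K k →ₗ[K] S K (n - k) →ₗ[K] (S K n ⧸ U') := (mulS k (n - k) n (by omega)).compr₂ U'.mkQ
  have hker : LinearMap.ker T ≠ ⊥ := by
    apply LinearMap.ker_ne_bot_of_finrank_lt
    rw [Module.finrank_linearMap, finrank_S, finrank_S, hQ]
    obtain ⟨m, rfl⟩ := Nat.exists_eq_add_of_le hkn
    rw [Nat.add_sub_cancel_left]
    nlinarith
  obtain ⟨g, hg, hg0⟩ := Submodule.exists_mem_ne_zero_of_ne_bot hker
  refine ⟨g.1, g.2, fun h => hg0 (Subtype.ext h), fun h hh => ?_⟩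
  have := LinearMap.congr_fun (LinearMap.mem_ker.mp hg) ⟨h, hh⟩
  change U'.mkQ _ = 0 at this
  rw [Submodule.mkQ_apply, Submodule.Quotient.mk_eq_zero] at this
  exact this

/-- the catalecticant of a linear form on the space of forms of degree `n` -/
noncomputable def cat (p q n : ℕ) (h : p + q = n) (l : Module.Dual K (S K n)) : S K p →ₗ[K] Module.Dual K (S K q) :=
  (mulS p q n h).compr₂ l

theorem cat_apply (p q n : ℕ) (h : p + q = n) (l : Module.Dual K (S K n)) (a : S K p) (b : S K q) :
    cat p q n h l a b = l (mulS p q n h a b) := rfl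

theorem finrank_ker_cat (p q n : ℕ) (h : p + q = n) (l : Module.Dual K (S K n))
    (hl : ∀ b : S K q, b ≠ 0 → ∃ a : S K p, l (mulS p q n h a b) ≠ 0) :
    Module.finrank K (LinearMap.ker (cat p q n h l)) + (q + 1) = p + 1 := by
  have hsurj : Function.Surjective (cat p q n h l) := by
    rw [← LinearMap.flip_injective_iff₁, injective_iff_map_eq_zero]
    intro b hb
    by_contra hb0
    obtain ⟨a, ha⟩ := hl b hb0
    exact ha (LinearMap.congr_fun hb a)
  have h1 := LinearMap.finrank_range_add_finrank_ker (cat p q n h l)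
  rw [LinearMap.range_eq_top.mpr hsurj, finrank_top, Subspace.dual_finrank_eq, finrank_S, finrank_S] at h1
  omega

theorem exists_ne_zero_of_finrank_eq {X : Type*} [AddCommGroup X] [Module K X] (W : Submodule K X) (d : ℕ)
    (h : Module.finrank K W = d + 1) : ∃ v ∈ W, v ≠ 0 := by
  by_contra hcon
  push Not at hcon
  have : W = ⊥ := by
    rw [Submodule.eq_bot_iff]
    exact hcon
  rw [this, finrank_bot] at h
  exact absurd h (by norm_num)

theorem exists_gen_of_finrank_eq_one {X : Type*} [AddCommGroup X] [Module K X] (W : Submodule K X)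
    (h : Module.finrank K W = 1) : ∃ v ∈ W, v ≠ 0 ∧ ∀ w ∈ W, ∃ c : K, w = c • v := by
  obtain ⟨g, hg0, hg⟩ := (finrank_eq_one_iff' (K := K) (V := W)).mp h
  refine ⟨g.1, g.2, fun h => hg0 (Subtype.ext h), fun w hw => ?_⟩
  obtain ⟨c, hc⟩ := hg ⟨w, hw⟩
  exact ⟨c, (congrArg Subtype.val hc).symm⟩

/-- separation: a linear form on `S_n` vanishing on `V` and on the multiples of `e` is zero. -/
theorem exists_ne_zero_of_sep (V : Submodule K (MvPolynomial (Fin 2) K))
    (hsep : ∀ e ∈ homogeneousSubmodule (Fin 2) K 2, e ≠ 0 →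
      ∀ F ∈ homogeneousSubmodule (Fin 2) K 5, ∃ v ∈ V,
        ∃ h ∈ homogeneousSubmodule (Fin 2) K 3, F = v + e * h)
    (hV : V ≤ S K 5) (l : Module.Dual K (S K 5)) (hl : ∀ v : S K 5, v.1 ∈ V → l v = 0) (hl0 : l ≠ 0)
    (b : S K 2) (hb : b ≠ 0) : ∃ a : S K 3, l (mulS 3 2 5 rfl a b) ≠ 0 := by
  by_contra hcon
  push Not at hcon
  apply hl0
  ext F
  obtain ⟨v, hv, h, hh, hF⟩ := hsep b.1 b.2 (fun h0 => hb (Subtype.ext h0)) F.1 F.2
  have : F = ⟨v, hV hv⟩ + mulS 3 2 5 rfl ⟨h, hh⟩ b := by
    apply Subtype.ext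
    rw [hF]
    simp [mul_comm]
  rw [this, map_add, hl _ hv, hcon, zero_add, LinearMap.zero_apply]

/-- Over an algebraically closed field a nonzero cubic form has a linear factor. -/
theorem exists_factor [IsAlgClosed K] (g : MvPolynomial (Fin 2) K) (hg : g ∈ S K 3) :
    ∃ L ∈ S K 1, ∃ q ∈ S K 2, g = L * q := by
  have hgh : g.IsHomogeneous 3 := (mem_homogeneousSubmodule _ _).1 hg
  have hnu : ¬ IsUnit g := by
    intro hu
    have h1 := hu.map (constantCoeff (σ := Fin 2) (R := K))
    rw [constantCoeff_eq, hgh.coeff_eq_zero (by simp)] at h1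
    exact not_isUnit_zero h1
  obtain ⟨a, ha, hga⟩ := K915.BinaryForms.exists_zero_of_not_isUnit g hnu
  obtain ⟨i, hi⟩ : ∃ i, a i ≠ 0 := by
    by_contra h
    push Not at h
    exact ha (funext h)
  obtain ⟨j, hj, hij⟩ : ∃ j : Fin 2, j ≠ i ∧ ∀ l : Fin 2, l = i ∨ l = j := by
    fin_cases i
    · exact ⟨1, by decide, by decide⟩
    · exact ⟨0, by decide, by decide⟩
  have hL : (X j - C (a j / a i) * X i : MvPolynomial (Fin 2) K).IsHomogeneous 1 := by
    apply IsHomogeneous.sub (isHomogeneous_X _ _)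
    exact (isHomogeneous_X _ _).C_mul _
  have hdvd : (X j - C (a j / a i) * X i : MvPolynomial (Fin 2) K) ∣ g := by
    have h1 := K915.BinaryForms.mem_span_line a i hgh hga
    rw [← Ideal.mem_span_singleton]
    refine (Ideal.span_le.mpr ?_ : Ideal.span _ ≤ _) h1
    rintro _ ⟨l, rfl⟩
    rcases hij l with rfl | rfl
    · have : (X l - C (a l / a l) * X l : MvPolynomial (Fin 2) K) = 0 := by
        rw [div_self hi, C_1, one_mul, sub_self]
      change (X l - C (a l / a l) * X l : MvPolynomial (Fin 2) K) ∈ _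
      rw [this]
      exact Ideal.zero_mem _
    · exact Ideal.subset_span rfl
  obtain ⟨q, hq⟩ := hdvd
  refine ⟨_, (mem_homogeneousSubmodule _ _).2 hL, homogeneousComponent 2 q,
    (mem_homogeneousSubmodule _ _).2 (homogeneousComponent_isHomogeneous 2 q), ?_⟩
  rw [← K581.HomDim.homogeneousComponent_mul _ _ hL, ← hq, homogeneousComponent_of_mem hg]
  simp

end K888.BinForm
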