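import Groth.Agent.RatCurv.K888.P1Map
import Groth.Agent.RatCurv.K888.CurvePt
import Groth.Agent.AbVar.K528.Irr
import Groth.Agent.S1535
import Groth.Agent.S2821
import Groth.Agent.FBase.K106.Dim
import Groth.Agent.Ega3B.ProjProper

set_option autoImplicit false
set_option backward.isDefEq.respectTransparency.types false

/-!
# Points of indeterminacy of a rational map from a product of smooth curves to a projective variety
-/

universe u

open CategoryTheory AlgebraicGeometry Limits MonoidalCategory CartesianMonoidalCategory IsLocalRing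

namespace K888.BadPt

open K888.ExtCrit K888.PPt K888.PSMain K888.PSLocal K888.Diag K888.RangePt K888.CurvePt K888.LocGeo2

variable {k : Type u} [Field k]

instance smooth_tensor (X Y : Over (Spec (CommRingCat.of k))) [Smooth X.hom] [Smooth Y.hom] : Smooth (X ⊗ Y).hom := by
  change Smooth (pullback.fst X.hom Y.hom ≫ X.hom)
  infer_instance

theorem ringKrullDim_stalk_le (X : Scheme.{u}) (x : X) :
    ringKrullDim (X.presheaf.stalk x) ≤ topologicalKrullDim X := by
  obtain ⟨V, hV, hx, -⟩ := exists_isAffineOpen_mem_and_subset (X := X) (x := x) (U := ⊤) trivial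
  let := TopCat.Presheaf.algebra_section_stalk X.presheaf (⟨x, hx⟩ : V)
  have hloc : IsLocalization.AtPrime (X.presheaf.stalk x) (hV.primeIdealOf ⟨x, hx⟩).asIdeal :=
    hV.isLocalization_stalk ⟨x, hx⟩
  rw [IsLocalization.AtPrime.ringKrullDim_eq_height (hV.primeIdealOf ⟨x, hx⟩).asIdeal]
  refine (Ideal.height_le_ringKrullDim_of_ne_top (hV.primeIdealOf ⟨x, hx⟩).2.ne_top).trans ?_
  have h1 : topologicalKrullDim V = ringKrullDim Γ(X, V) := by
    have h2 := PrimeSpectrum.topologicalKrullDim_eq_ringKrullDim (R := Γ(X, V))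
    rw [← h2]
    exact IsHomeomorph.topologicalKrullDim_eq _ (hV.isoSpec.hom.homeomorph).isHomeomorph
  rw [← h1]
  exact topologicalKrullDim_subspace_le _ _

variable [IsAlgClosed k] {n : ℕ} (X C B : Over (Spec (CommRingCat.of k))) [IsIntegral C.left] [Smooth C.hom]
  [IsIntegral B.left] [Smooth B.hom]

/-- the structure of an algebra on the local rings of a scheme over a field -/
noncomputable def strHom {S : Scheme.{u}} (pS : S ⟶ Spec (CommRingCat.of k)) (x : S) : k →+* S.presheaf.stalk x :=
  (Spec.preimage (S.fromSpecStalk x ≫ pS)).hom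

omit [IsAlgClosed k] in
theorem map_strHom {S : Scheme.{u}} (pS : S ⟶ Spec (CommRingCat.of k)) (x : S) :
    Spec.map (CommRingCat.ofHom (strHom pS x)) = S.fromSpecStalk x ≫ pS := Spec.map_preimage _

omit [IsAlgClosed k] in
theorem comp_strHom' {S : Scheme.{u}} (pS : S ⟶ Spec (CommRingCat.of k)) {R : CommRingCat.{u}} [IsLocalRing R]
    (a : CommRingCat.of k ⟶ R) (Γ : Spec R ⟶ S) (hΓ : Γ ≫ pS = Spec.map a) :
    CommRingCat.ofHom (strHom pS (Γ (closedPoint R))) ≫ Scheme.stalkClosedPointTo Γ = a := by
  apply Spec.map_injective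
  rw [Spec.map_comp]
  refine (congrArg (fun g => Spec.map (Scheme.stalkClosedPointTo Γ) ≫ g) (map_strHom pS (Γ (closedPoint R)))).trans ?_
  rw [Scheme.Spec_stalkClosedPointTo_fromSpecStalk_assoc, hΓ]

omit [IsAlgClosed k] in
theorem comp_strHom {S : Scheme.{u}} (pS : S ⟶ Spec (CommRingCat.of k)) {R : Type u} [CommRing R] [IsLocalRing R]
    [Algebra k R] (Γ : Spec (CommRingCat.of R) ⟶ S) (hΓ : Γ ≫ pS = Spec.map (CommRingCat.ofHom (algebraMap k R))) (z : k) :
    (Scheme.stalkClosedPointTo Γ).hom (strHom pS _ z) = algebraMap k R z := by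
  have h := comp_strHom' pS (R := CommRingCat.of R) (CommRingCat.ofHom (algebraMap k R)) Γ hΓ
  exact congrArg (fun g => g.hom z) h

/-- the expansion at a rational point of the coordinates of a rational map not defined there -/
theorem exists_coords_at (hC : topologicalKrullDim C.left = 1) (hB : topologicalKrullDim B.left = 1)
    (ι : X.left ⟶ CohB1.ProjSpace n k) [IsClosedImmersion ι] (hι : ι ≫ CohB1.ProjSpace.toSpec n k = X.hom)
    [IsIntegral (C ⊗ B).left] (φ : Spec (C ⊗ B).left.functionField ⟶ X.left)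
    (hφ : φ ≫ X.hom = (C ⊗ B).left.fromSpecStalk (genericPoint (C ⊗ B).left) ≫ (C ⊗ B).hom)
    (Γ : Spec (CommRingCat.of (R2 k)) ⟶ (C ⊗ B).left)
    (hΓ : Γ ≫ (C ⊗ B).hom = Spec.map (CommRingCat.ofHom (algebraMap k (R2 k))))
    (hX : InRange Γ (PowerSeries.X : R2 k)) (hY : InRange Γ (PowerSeries.C PowerSeries.X : R2 k))
    (hno : ¬ ∃ l : Spec ((C ⊗ B).left.presheaf.stalk (Γ (closedPoint (R2 k)))) ⟶ X.left,
      Spec.map (CommRingCat.ofHom (algebraMap ((C ⊗ B).left.presheaf.stalk (Γ (closedPoint (R2 k))))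
        (C ⊗ B).left.functionField)) ≫ l = φ) :
    ∃ h : Fin (n + 1) → Polynomial k, NC h ∧ ∀ i, h i ≠ 0 → ∀ (A : Type u) [CommRing A] [Algebra (Polynomial k) A]
      [Algebra k A] [IsScalarTower k (Polynomial k) A] (hu : IsUnit (algebraMap (Polynomial k) A (h i))),
      ∃ l : Spec (CommRingCat.of A) ⟶ X.left, l ≫ ι = pt (k := k) (fun j => algebraMap (Polynomial k) A (h j)) i hu := by
  let S := (C ⊗ B).left
  let pS := (C ⊗ B).hom
  let O := S.presheaf.stalk (Γ (closedPoint (R2 k)))
  let _ : S.Over (Spec (CommRingCat.of k)) := ⟨pS⟩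
  have hsm : Smooth (S ↘ Spec (CommRingCat.of k)) := smooth_tensor C B
  have hreg : IsRegularLocalRing O := Groth.Agent.S1535.result k S (Γ (closedPoint (R2 k)))
  have hufd : UniqueFactorizationMonoid O := (Groth.Agent.S2821.result O).2
  have hN : IsLocallyNoetherian S := LocallyOfFiniteType.isLocallyNoetherian pS
  have hNO : IsNoetherianRing O := inferInstance
  have hdim : ringKrullDim O ≤ 2 := by
    refine (ringKrullDim_stalk_le S _).trans ?_
    have h1 : topologicalKrullDim S = topologicalKrullDim C.left + topologicalKrullDim B.left :=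
      K106.Dim.topologicalKrullDim_pullback_eq_add C.hom B.hom
    rw [h1, hC, hB]
    exact le_of_eq (by norm_num)
  let _ : Algebra k O := (strHom pS _).toAlgebra
  let _ : Algebra k S.functionField := ((algebraMap O S.functionField).comp (strHom pS _)).toAlgebra
  have htow : IsScalarTower k O S.functionField := IsScalarTower.of_algebraMap_eq (fun _ => rfl)
  have hφ' : φ ≫ ι ≫ CohB1.ProjSpace.toSpec n k = Spec.map (CommRingCat.ofHom (algebraMap k S.functionField)) := by
    have h1 : Spec.map (CommRingCat.ofHom (algebraMap k S.functionField)) =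
        Spec.map (CommRingCat.ofHom (algebraMap O S.functionField)) ≫ Spec.map (CommRingCat.ofHom (strHom pS _)) := by
      rw [← Spec.map_comp]
      rfl
    rw [hι, hφ, h1, map_strHom, ← Category.assoc]
    congr 1
    exact (Scheme.SpecMap_stalkSpecializes_fromSpecStalk (genericPoint_specializes _)).symm
  let κ : O →ₐ[k] R2 k :=
    { (Scheme.stalkClosedPointTo Γ).hom with commutes' := fun z => comp_strHom pS Γ hΓ z }
  have hκloc : IsLocalHom (κ : O →+* R2 k) := Scheme.isLocalHom_stalkClosedPointTo' Γ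
  have hmem : ∀ z : O, z ∈ maximalIdeal O ↔ ev0 (κ z) = 0 := by
    intro z
    rw [mem_maximalIdeal, mem_nonunits_iff]
    constructor
    · intro h
      by_contra hne
      exact h (isUnit_of_map_unit (κ : O →+* R2 k) z (isUnit_of_ev0 _ hne))
    · intro h hu
      have h1 := (hu.map κ).map (ev0 (k := k))
      rw [h] at h1
      exact not_isUnit_zero h1
  obtain ⟨x, hx⟩ := hX
  obtain ⟨y, hy⟩ := hY
  have hκx : κ x = PowerSeries.X := hx
  have hκy : κ y = PowerSeries.C PowerSeries.X := hy
  exact exists_poly ι hdim φ hφ' hno κ (fun z hz => (hmem z).mp hz) x y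
    ((hmem x).mpr (by rw [hκx, ev0_apply, PowerSeries.constantCoeff_X, map_zero]))
    ((hmem y).mpr (by rw [hκy, ev0_apply, PowerSeries.constantCoeff_C, PowerSeries.constantCoeff_X])) hκx hκy

end K888.BadPt
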