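import Groth.Agent.Ega2.NormalCompl
import Groth.Agent.CurvesA.CurveDvr
import Groth.Agent.VarietyA.SmoothReg
import Groth.Agent.VarietyB.DimSch
import Groth.Agent.S1535
import Groth.Agent.S2821

set_option autoImplicit false
set_option backward.isDefEq.respectTransparency.types false

/-!
# A curve over an algebraically closed field is birational to a smooth proper curve
-/

universe u

open CategoryTheory AlgebraicGeometry Limits

namespace K888.Compl

variable {k : Type u} [Field k] [IsAlgClosed k]

theorem smooth_smoothLocus {X S : Scheme.{u}} (f : X ⟶ S) [LocallyOfFinitePresentation f] :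
    Smooth (f.smoothLocus.ι ≫ f) := by
  rw [← Scheme.Hom.smoothLocus_eq_top_iff, ← Scheme.Hom.preimage_smoothLocus_eq, Scheme.Opens.ι_preimage_self]

/-- A curve over an algebraically closed field has a nonempty open subscheme which is an open subscheme of a smooth
proper curve. -/
theorem exists_compl (B : Over (Spec (CommRingCat.of k))) [IsIntegral B.left] [IsSeparated B.hom]
    [LocallyOfFiniteType B.hom] [QuasiCompact B.hom] (hB : topologicalKrullDim B.left = 1) :
    ∃ (B' P : Over (Spec (CommRingCat.of k))) (i : B' ⟶ B) (j : B' ⟶ P), IsOpenImmersion i.left ∧ IsOpenImmersion j.left ∧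
      IsIntegral B'.left ∧ IsIntegral P.left ∧ IsProper P.hom ∧ Smooth P.hom ∧ topologicalKrullDim P.left = 1 := by
  have hfp : LocallyOfFinitePresentation B.hom := inferInstance
  let V : B.left.Opens := B.hom.smoothLocus
  have hVne : (V : Set B.left).Nonempty :=
    (Scheme.Hom.dense_smoothLocus_of_perfectField B.hom).nonempty
  have hVsm : Smooth (V.ι ≫ B.hom) := smooth_smoothLocus B.hom
  have hVne' : Nonempty (V : Scheme.{u}) := hVne.to_subtype
  have hVint : IsIntegral (V : Scheme.{u}) := inferInstance
  let _ : B.left.Over (Spec (CommRingCat.of k)) := ⟨B.hom⟩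
  have : LocallyOfFiniteType (B.left ↘ (Spec (CommRingCat.of k))) := ‹LocallyOfFiniteType B.hom›
  have hVdim : topologicalKrullDim (V : Scheme.{u}) = 1 := by
    refine (Groth.Agent.VarietyB.DimSch.topologicalKrullDim_opens_eq_trd k V hVne).trans ?_
    rw [← Groth.Agent.VarietyB.DimSch.topologicalKrullDim_eq_trd k, hB]
  have hVlft : LocallyOfFiniteType (V.ι ≫ B.hom) := inferInstance
  have hVsep : IsSeparated (V.ι ≫ B.hom) := inferInstance
  have hBN : IsLocallyNoetherian B.left := LocallyOfFiniteType.isLocallyNoetherian B.hom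
  have hVqc : QuasiCompact (V.ι ≫ B.hom) := inferInstance
  obtain ⟨Q, q, j, hQi, hjq, hq, hj, -, -, -, hreg, hdim⟩ :=
    Groth.Agent.Ega2.NormalCompl.exists_normal_completion k (V.ι ≫ B.hom)
    (fun x hx => by
      have h1 := (Groth.Agent.CurvesA.CurveDvr.isClosed_singleton_iff hVdim x).mp hx
      have h2 := Groth.Agent.CurvesA.CurveDvr.isDiscreteValuationRing_stalk (V.ι ≫ B.hom) hVdim.le x h1
      exact IsDiscreteValuationRing.ringKrullDim_eq_one _)
    (fun x => by
      let _ : (V : Scheme.{u}).Over (Spec (CommRingCat.of k)) := ⟨V.ι ≫ B.hom⟩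
      have hsm : Smooth ((V : Scheme.{u}) ↘ Spec (CommRingCat.of k)) := hVsm
      have hreg : IsRegularLocalRing ((V : Scheme.{u}).presheaf.stalk x) := Groth.Agent.S1535.result k _ x
      have hufd := (Groth.Agent.S2821.result ((V : Scheme.{u}).presheaf.stalk x)).2
      exact ⟨inferInstance, inferInstance⟩)
  have hqs : Smooth q := by
    rw [← Scheme.Hom.smoothLocus_eq_top_iff]
    apply TopologicalSpace.Opens.ext
    refine Set.eq_univ_of_forall fun x => ?_
    exact (Groth.Agent.VarietyA.SmoothReg.mem_smoothLocus_iff_of_perfectField q x).mpr (hreg x)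
  let _ : Q.Over (Spec (CommRingCat.of k)) := ⟨q⟩
  have : LocallyOfFiniteType (Q ↘ (Spec (CommRingCat.of k))) := inferInstanceAs (LocallyOfFiniteType q)
  have hQdim : topologicalKrullDim Q = 1 := by
    have h1 := Groth.Agent.VarietyB.DimSch.topologicalKrullDim_opens_eq_trd k j.opensRange
      ⟨j hVne'.some, ⟨_, rfl⟩⟩
    rw [Groth.Agent.VarietyB.DimSch.topologicalKrullDim_eq_trd k, ← h1, ← hVdim]
    exact (IsHomeomorph.topologicalKrullDim_eq _ (j.isoOpensRange.hom.homeomorph).isHomeomorph).symm
  refine ⟨Over.mk (V.ι ≫ B.hom), Over.mk q, Over.homMk V.ι rfl, Over.homMk j hjq, ?_, hj, hVint, hQi, hq, hqs, hQdim⟩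
  exact inferInstanceAs (IsOpenImmersion V.ι)

end K888.Compl
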