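import Mathlib.RingTheory.Ideal.Maps
import Mathlib.RingTheory.Ideal.Quotient.Operations
import Mathlib.LinearAlgebra.FiniteDimensional.Lemmas
import Mathlib.RingTheory.Finiteness.Quotient
import Mathlib.LinearAlgebra.Dimension.Finite
import Mathlib.Tactic.Ring
import Mathlib.Tactic.LinearCombination

set_option autoImplicit false

/-!
# The colength drops under a quadratic transformation
-/

open Module

namespace K888.Drop

variable {k R R' : Type*} [Field k] [CommRing R] [Algebra k R] [CommRing R'] [Algebra k R'] [IsDomain R']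

theorem drop (σ : R →ₐ[k] R') (W : Submodule k R) (hW1 : (1 : R) ∉ W) (I : Ideal R)
    (hIW : ∀ f ∈ I, f ∈ W) [FiniteDimensional k (R ⧸ I)] (E : R') (hE : E ≠ 0) (I' : Ideal R')
    (hI' : ∀ f ∈ I, ∃ g ∈ I', σ f = E * g)
    (hsurj : ∀ z : R', ∃ w ∈ W, ∃ g ∈ I', E * z = σ w + E * g) :
    FiniteDimensional k (R' ⧸ I') ∧ finrank k (R' ⧸ I') < finrank k (R ⧸ I) := by
  let J : Ideal R' := Ideal.span {E} * I'
  have hJ : ∀ z, z ∈ J ↔ ∃ g ∈ I', z = E * g := by
    intro z
    rw [Ideal.mem_span_singleton_mul]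
    exact ⟨fun ⟨g, hg, h⟩ => ⟨g, hg, h.symm⟩, fun ⟨g, hg, h⟩ => ⟨g, hg, h.symm⟩⟩
  -- the map R / I → R' / J
  let φ : R ⧸ I →ₗ[k] R' ⧸ J := (Ideal.quotientMapₐ J σ (fun f hf => (hJ _).mpr (hI' f hf))).toLinearMap
  have hφ : ∀ f : R, φ (Submodule.Quotient.mk f) = Submodule.Quotient.mk (σ f) := fun f => rfl
  -- multiplication by E
  let μ : R' ⧸ I' →ₗ[k] R' ⧸ J := (Submodule.mapQ I' J (LinearMap.mulLeft R' E)
    (fun f hf => (hJ _).mpr ⟨f, hf, rfl⟩)).restrictScalars k
  have hμ : ∀ f : R', μ (Submodule.Quotient.mk f) = Submodule.Quotient.mk (E * f) := fun f => rfl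
  have hμi : Function.Injective μ := by
    rw [← LinearMap.ker_eq_bot, LinearMap.ker_eq_bot']
    intro z hz
    induction z using Submodule.Quotient.induction_on with
    | _ z =>
      rw [hμ] at hz
      have hz' : E * z ∈ J := (Submodule.Quotient.mk_eq_zero J).mp hz
      obtain ⟨g, hg, h⟩ := (hJ _).mp hz'
      rw [mul_left_cancel₀ hE h]
      exact (Submodule.Quotient.mk_eq_zero I').mpr hg
  let V : Submodule k (R ⧸ I) := W.map (Ideal.Quotient.mkₐ k I).toLinearMap
  have hle : LinearMap.range μ ≤ V.map φ := by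
    rintro _ ⟨z, rfl⟩
    induction z using Submodule.Quotient.induction_on with
    | _ z =>
      obtain ⟨w, hw, g, hg, h⟩ := hsurj z
      refine ⟨Submodule.Quotient.mk w, ⟨w, hw, rfl⟩, ?_⟩
      rw [hφ, hμ, h]
      symm
      rw [← sub_eq_zero]
      have : (Submodule.Quotient.mk (σ w + E * g) - Submodule.Quotient.mk (σ w) : R' ⧸ J) =
        Submodule.Quotient.mk (σ w + E * g - σ w) := rfl
      rw [this, add_sub_cancel_left]
      exact (Submodule.Quotient.mk_eq_zero J).mpr ((hJ _).mpr ⟨g, hg, rfl⟩)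
  have hV : V ≠ ⊤ := by
    intro hV
    have h1 : (Submodule.Quotient.mk 1 : R ⧸ I) ∈ V := by rw [hV]; trivial
    obtain ⟨w, hw, h⟩ := h1
    have h2 : w - 1 ∈ I := (Submodule.Quotient.eq I).mp h
    apply hW1
    have h3 := W.sub_mem hw (hIW _ h2)
    rwa [sub_sub_cancel] at h3
  have hfinV : FiniteDimensional k V := inferInstance
  have hfinm : FiniteDimensional k (V.map φ) := inferInstance
  have hfinr : FiniteDimensional k (LinearMap.range μ) := Submodule.finiteDimensional_of_le hle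
  have e : (R' ⧸ I') ≃ₗ[k] LinearMap.range μ := LinearEquiv.ofInjective μ hμi
  have hfin : FiniteDimensional k (R' ⧸ I') := e.symm.finiteDimensional
  refine ⟨hfin, ?_⟩
  calc finrank k (R' ⧸ I') = finrank k (LinearMap.range μ) := e.finrank_eq
    _ ≤ finrank k (V.map φ) := Submodule.finrank_mono hle
    _ ≤ finrank k V := Submodule.finrank_map_le φ V
    _ < finrank k (R ⧸ I) := Submodule.finrank_lt hV

/-- surjectivity modulo the transformed ideal -/
theorem surj {P : Type*} [CommRing P] [Algebra k P] (σ : R →ₐ[k] R') (x y e₀ : R) (u v : R')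
    (hx : σ x = σ e₀ * u) (hy : σ y = σ e₀ * v) (π : R' →ₐ[k] P) (hπ : ∀ w, π w = 0 → σ e₀ ∣ w) (r : ℕ)
    (I' : Ideal R') (g₀ : R') (hg₀ : g₀ ∈ I')
    (H : ∀ w : R', ∃ (b : ℕ → k) (q : R'), π w = π (∑ j ∈ Finset.range (r + 1), algebraMap k R' (b j) * u ^ j * v ^ (r - j)) +
      π (q * g₀)) (M : ℕ) (hM : σ e₀ ^ M ∈ I') (z : R') :
    ∃ w ∈ (Ideal.span {x, y} : Ideal R) ^ r, ∃ g ∈ I', σ e₀ ^ r * z = σ w + σ e₀ ^ r * g := by
  have key : ∀ a ≤ M, ∀ z : R', ∃ w ∈ (Ideal.span {x, y} : Ideal R) ^ r, ∃ g ∈ I',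
      σ e₀ ^ r * (σ e₀ ^ (M - a) * z) = σ w + σ e₀ ^ r * g := by
    intro a
    induction a with
    | zero =>
      intro _ z
      exact ⟨0, zero_mem _, σ e₀ ^ M * z, I'.mul_mem_right _ hM, by rw [map_zero, zero_add, Nat.sub_zero]⟩
    | succ a ih =>
      intro ha z
      obtain ⟨b, q, hbq⟩ := H z
      set S : R' := ∑ j ∈ Finset.range (r + 1), algebraMap k R' (b j) * u ^ j * v ^ (r - j) with hS
      have h1 : π (z - S - q * g₀) = 0 := by
        rw [map_sub, map_sub, hbq]
        ring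
      obtain ⟨z', hz'⟩ := hπ _ h1
      obtain ⟨w, hw, g, hg, h⟩ := ih (by omega) z'
      have hMa : M - a = (M - (a + 1)) + 1 := by omega
      rw [hMa] at h
      have hSσ : σ e₀ ^ r * S = σ (∑ j ∈ Finset.range (r + 1), algebraMap k R (b j) * x ^ j * y ^ (r - j)) := by
        rw [map_sum, hS, Finset.mul_sum]
        refine Finset.sum_congr rfl fun j hj => ?_
        have hjr : j + (r - j) = r := by
          rw [Finset.mem_range] at hj; omega
        rw [map_mul, map_mul, map_pow, map_pow, hx, hy, AlgHom.commutes, mul_pow, mul_pow]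
        conv_lhs => rw [← hjr, pow_add]
        rw [hjr]
        ring
      refine ⟨e₀ ^ (M - (a + 1)) * (∑ j ∈ Finset.range (r + 1), algebraMap k R (b j) * x ^ j * y ^ (r - j)) + w, ?_,
        σ e₀ ^ (M - (a + 1)) * q * g₀ + g, ?_, ?_⟩
      · refine add_mem (Ideal.mul_mem_left _ _ (sum_mem fun j hj => ?_)) hw
        rw [mul_assoc]
        refine Ideal.mul_mem_left _ _ ?_
        have hjr : j + (r - j) = r := by
          rw [Finset.mem_range] at hj; omega
        have h2 : (Ideal.span {x, y} : Ideal R) ^ r = Ideal.span {x, y} ^ j * Ideal.span {x, y} ^ (r - j) := by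
          rw [← pow_add, hjr]
        rw [h2]
        exact Ideal.mul_mem_mul (Ideal.pow_mem_pow (Ideal.subset_span (by simp)) _)
          (Ideal.pow_mem_pow (Ideal.subset_span (by simp)) _)
      · exact add_mem (I'.mul_mem_left _ hg₀) hg
      · have hz : z = S + q * g₀ + σ e₀ * z' := by
          rw [← hz']; ring
        rw [map_add, map_mul, ← hSσ, map_pow]
        calc σ e₀ ^ r * (σ e₀ ^ (M - (a + 1)) * z)
            = σ e₀ ^ (M - (a + 1)) * (σ e₀ ^ r * S) + σ e₀ ^ r * (σ e₀ ^ (M - (a + 1)) * q * g₀) +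
              σ e₀ ^ r * (σ e₀ ^ (M - (a + 1) + 1) * z') := by
                rw [hz, pow_succ]; ring
          _ = _ := by rw [h]; ring
  obtain ⟨w, hw, g, hg, h⟩ := key M le_rfl z
  exact ⟨w, hw, g, hg, by rwa [Nat.sub_self, pow_zero, one_mul] at h⟩

/-- members of the `r`-th power of a two-generated ideal -/
theorem mem_pow_iff {A : Type*} [CommRing A] (x y : A) (r : ℕ) (f : A) (hf : f ∈ (Ideal.span {x, y} : Ideal A) ^ r) :
    ∃ a : ℕ → A, f = ∑ j ∈ Finset.range (r + 1), a j * x ^ j * y ^ (r - j) := by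
  induction r generalizing f with
  | zero => exact ⟨fun _ => f, by simp⟩
  | succ r ih =>
    rw [pow_succ] at hf
    refine Submodule.mul_induction_on hf ?_ ?_
    · intro m hm n hn
      obtain ⟨a, ha⟩ := ih m hm
      obtain ⟨p, q, hpq⟩ := Ideal.mem_span_pair.mp hn
      refine ⟨fun j => (if j = 0 then 0 else a (j - 1) * p) + (if j = r + 1 then 0 else a j * q), ?_⟩
      rw [← hpq, ha, Finset.sum_mul]
      simp only [add_mul, Finset.sum_add_distrib]
      rw [Finset.sum_range_succ' (fun j => (if j = 0 then 0 else a (j - 1) * p) * x ^ j * y ^ (r + 1 - j)),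
        Finset.sum_range_succ (fun j => (if j = r + 1 then 0 else a j * q) * x ^ j * y ^ (r + 1 - j))]
      simp only [if_true, zero_mul, add_zero, mul_add, Finset.sum_add_distrib]
      congr 1
      · refine Finset.sum_congr rfl fun j hj => ?_
        rw [if_neg (Nat.succ_ne_zero j), Nat.add_sub_cancel, Nat.add_sub_add_right]
        ring
      · refine Finset.sum_congr rfl fun j hj => ?_
        have hj' : j < r + 1 := Finset.mem_range.mp hj
        rw [if_neg (by omega), show r + 1 - j = (r - j) + 1 by omega]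
        ring
    · rintro f g ⟨a, ha⟩ ⟨b, hb⟩
      refine ⟨fun j => a j + b j, ?_⟩
      rw [ha, hb, ← Finset.sum_add_distrib]
      refine Finset.sum_congr rfl fun j _ => ?_
      ring

end K888.Drop
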