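import Groth.Agent.S2283
import Mathlib.AlgebraicGeometry.Morphisms.FiniteType
import Mathlib.AlgebraicGeometry.AlgClosed.Basic

set_option autoImplicit false

/-!
# Extension of a morphism from an open subset: it suffices to extend to the local rings of closed points
-/

universe u

open CategoryTheory AlgebraicGeometry Limits

namespace K888.ExtCrit

variable {k : Type u} [Field k] {S : Scheme.{u}} (pS : S ⟶ Spec (CommRingCat.of k)) [LocallyOfFiniteType pS] [IsIntegral S]
  {Y : Scheme.{u}} (pY : Y ⟶ Spec (CommRingCat.of k)) [IsSeparated pY] [LocallyOfFiniteType pY]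
  (U : S.Opens) (hU : (U : Set S).Nonempty) (f : (U : Scheme.{u}) ⟶ Y)

/-- the partial map of a morphism from a nonempty open subset -/
def pm : S.PartialMap Y := ⟨U, U.2.dense hU, f⟩

/-- the generic value of a morphism from a nonempty open subset -/
noncomputable def gen : Spec S.functionField ⟶ Y := (pm U hU f).fromFunctionField

omit [LocallyOfFiniteType pS] [IsSeparated pY] [LocallyOfFiniteType pY] in
theorem gen_comp (hf : f ≫ pY = U.ι ≫ pS) : gen U hU f ≫ pY = S.fromSpecStalk (genericPoint S) ≫ pS := by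
  rw [gen, Scheme.PartialMap.fromFunctionField, Scheme.PartialMap.fromSpecStalkOfMem, Category.assoc]
  have h : (pm U hU f).hom ≫ pY = (pm U hU f).domain.ι ≫ pS := hf
  rw [h, Scheme.Opens.fromSpecStalkOfMem_ι_assoc]

theorem exists_ext (hf : f ≫ pY = U.ι ≫ pS)
    (h : ∀ x : S, IsClosed ({x} : Set S) → ∃ l : Spec (S.presheaf.stalk x) ⟶ Y,
      Spec.map (CommRingCat.ofHom (algebraMap (S.presheaf.stalk x) S.functionField)) ≫ l = gen U hU f) :
    ∃ g : S ⟶ Y, g ≫ pY = pS ∧ U.ι ≫ g = f := by
  let _ : S.Over (Spec (CommRingCat.of k)) := ⟨pS⟩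
  let _ : Y.Over (Spec (CommRingCat.of k)) := ⟨pY⟩
  have hY1 : IsSeparated (Y ↘ Spec (CommRingCat.of k)) := ‹IsSeparated pY›
  have hY2 : LocallyOfFiniteType (Y ↘ Spec (CommRingCat.of k)) := ‹LocallyOfFiniteType pY›
  have hYs : Y.IsSeparated := by
    constructor
    rw [← terminal.comp_from pY]
    infer_instance
  let f₀ : S.PartialMap Y := pm U hU f
  have hf₀ : f₀.IsOver (Spec (CommRingCat.of k)) := by
    rw [Scheme.PartialMap.isOver_iff]
    exact hf
  let r : S ⤏ Y := f₀.toRationalMap
  have hr : r.IsOver (Spec (CommRingCat.of k)) := inferInstance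
  let f₁ := r.toPartialMap
  have hf₁ : f₁.IsOver (Spec (CommRingCat.of k)) := inferInstance
  have hf₁' : f₁.hom ≫ pY = f₁.domain.ι ≫ pS := by
    rw [Scheme.PartialMap.isOver_iff] at hf₁
    exact hf₁
  have : JacobsonSpace S := LocallyOfFiniteType.jacobsonSpace pS
  have hmem : ∀ x : S, IsClosed ({x} : Set S) → x ∈ f₁.domain := by
    intro x hx
    obtain ⟨l, hl⟩ := h x hx
    have hover : l ≫ pY = S.fromSpecStalk x ≫ pS := by
      have h1 : Spec.map (CommRingCat.ofHom (algebraMap (S.presheaf.stalk x) S.functionField)) ≫ (l ≫ pY) =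
          Spec.map (CommRingCat.ofHom (algebraMap (S.presheaf.stalk x) S.functionField)) ≫ (S.fromSpecStalk x ≫ pS) := by
        rw [← Category.assoc, hl, gen_comp pS pY U hU f hf, ← Category.assoc]
        congr 1
        exact (Scheme.SpecMap_stalkSpecializes_fromSpecStalk (genericPoint_specializes x)).symm
      obtain ⟨a, ha⟩ : ∃ a : CommRingCat.of k ⟶ S.presheaf.stalk x, l ≫ pY = Spec.map a := ⟨_, (Spec.map_preimage _).symm⟩
      obtain ⟨b, hb⟩ : ∃ b : CommRingCat.of k ⟶ S.presheaf.stalk x, S.fromSpecStalk x ≫ pS = Spec.map b :=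
        ⟨_, (Spec.map_preimage _).symm⟩
      rw [ha, hb] at h1 ⊢
      rw [← Spec.map_comp, ← Spec.map_comp] at h1
      have h2 := Spec.map_injective h1
      congr 1
      apply CommRingCat.hom_ext
      apply RingHom.ext
      intro z
      apply IsFractionRing.injective (S.presheaf.stalk x) S.functionField
      exact congrArg (fun g => g.hom z) h2
    obtain ⟨g, hg, hgf, hx'⟩ := (Groth.Agent.S2283.result (Spec (CommRingCat.of k)) S Y r x).mpr ⟨l, hover, by
      rw [Scheme.RationalMap.fromFunctionField_toRationalMap]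
      exact hl⟩
    change x ∈ r.domain
    rw [← hgf]
    exact g.le_domain_toRationalMap hx'
  have htop : f₁.domain = ⊤ := by
    by_contra hne
    have h1 : ((f₁.domain : Set S)ᶜ).Nonempty := by
      rw [Set.nonempty_compl]
      intro h2
      exact hne (TopologicalSpace.Opens.ext h2)
    obtain ⟨x, hx1, hx2⟩ := nonempty_inter_closedPoints h1 f₁.domain.2.isClosed_compl.isLocallyClosed
    exact hx1 (hmem x hx2)
  have hle : U ≤ f₁.domain := f₀.le_domain_toRationalMap
  have h1 := Scheme.PartialMap.toPartialMap_toRationalMap_restrict f₀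
  have h2 : S.homOfLE hle ≫ f₁.hom = f := h1
  refine ⟨(Scheme.topIso S).inv ≫ (S.isoOfEq htop).inv ≫ f₁.hom, ?_, ?_⟩
  · rw [Category.assoc, Category.assoc, hf₁', ← Category.assoc (S.isoOfEq htop).inv, Scheme.isoOfEq_inv_ι,
      ← Category.assoc]
    have h3 : (Scheme.topIso S).inv ≫ (⊤ : S.Opens).ι = 𝟙 S := by
      rw [← Scheme.topIso_hom, Iso.inv_hom_id]
    rw [h3, Category.id_comp]
  · rw [← h2, ← Category.assoc, ← Category.assoc]
    congr 1
    rw [← cancel_mono f₁.domain.ι, Category.assoc, Category.assoc, Scheme.isoOfEq_inv_ι, Scheme.homOfLE_ι]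
    have h3 : (Scheme.topIso S).inv ≫ (⊤ : S.Opens).ι = 𝟙 S := by
      rw [← Scheme.topIso_hom, Iso.inv_hom_id]
    rw [h3, Category.comp_id]

end K888.ExtCrit
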