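import Groth.Agent.RatCurv.K888.PSLocal
import Mathlib.Algebra.Polynomial.Degree.Lemmas

set_option autoImplicit false

/-!
# Rational curves from the base points of a rational map in two variables: the two charts and the induction
-/

open PowerSeries Module K888.Diag K888.PSLocal

namespace K888.PSMain

variable {k : Type*} [Field k]

/-- the chart `A` as an algebra map -/
noncomputable def sAa : R2 k →ₐ[k] R2 k :=
  { sA with
    commutes' := fun a => by
      change sA (algebraMap k (R2 k) a) = algebraMap k (R2 k) a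
      rw [PSLocal.algebraMap_eq, sA_C] }

theorem sAa_apply (f : R2 k) : sAa f = sA f := rfl

/-- the chart `B` as an algebra map -/
noncomputable def sBa (c : k) : R2 k →ₐ[k] R2 k :=
  { sB c with
    commutes' := fun a => by
      change sB c (algebraMap k (R2 k) a) = algebraMap k (R2 k) a
      rw [PSLocal.algebraMap_eq, sB_C, iB_C] }

theorem sBa_apply (c : k) (f : R2 k) : sBa c f = sB c f := rfl

/-- restriction to `t = 0` as an algebra map -/
noncomputable def piAa : R2 k →ₐ[k] k⟦X⟧ :=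
  { piA with
    commutes' := fun a => by
      change piA (algebraMap k (R2 k) a) = algebraMap k (k⟦X⟧) a
      rw [PSLocal.algebraMap_eq, piA, map_C, constantCoeff_C]
      rfl }

theorem piAa_apply (f : R2 k) : piAa f = piA f := rfl

/-- restriction to `s = 0` as an algebra map -/
noncomputable def piBa : R2 k →ₐ[k] k⟦X⟧ :=
  { (constantCoeff : R2 k →+* k⟦X⟧) with
    commutes' := fun a => by
      change constantCoeff (algebraMap k (R2 k) a) = algebraMap k (k⟦X⟧) a
      rw [PSLocal.algebraMap_eq, constantCoeff_C]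
      rfl }

theorem piBa_apply (f : R2 k) : piBa f = constantCoeff f := rfl

/-- polynomials in power series -/
noncomputable def toPS : Polynomial k →ₐ[k] k⟦X⟧ :=
  { (Polynomial.coeToPowerSeries.ringHom : Polynomial k →+* k⟦X⟧) with
    commutes' := fun a => by
      change ((Polynomial.C a : Polynomial k) : k⟦X⟧) = _
      rw [Polynomial.coe_C]
      rfl }

theorem toPS_apply (p : Polynomial k) : toPS p = (p : k⟦X⟧) := rfl

theorem toPS_injective : Function.Injective (toPS (k := k)) := Polynomial.coe_injective k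

theorem toPS_C (a : k) : toPS (Polynomial.C a) = C a := Polynomial.coe_C a

theorem toPS_X : toPS (Polynomial.X : Polynomial k) = X := Polynomial.coe_X

theorem sum_comp (s : Finset ℕ) (F : ℕ → Polynomial k) (q : Polynomial k) :
    (∑ j ∈ s, F j).comp q = ∑ j ∈ s, (F j).comp q := map_sum (Polynomial.compRingHom q) F s

section

variable {ι : Type*}

/-- the leading forms in the chart `A` -/
noncomputable def hA (r : ℕ) (a : ι → ℕ → R2 k) (i : ι) : Polynomial k :=
  ∑ j ∈ Finset.range (r + 1), Polynomial.C (ev0 (a i j)) * Polynomial.X ^ j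

theorem hA_coeff (r : ℕ) (a : ι → ℕ → R2 k) (i : ι) (j : ℕ) :
    (hA r a i).coeff j = if j < r + 1 then ev0 (a i j) else 0 := by
  rw [hA, Polynomial.finsetSum_coeff]
  simp only [Polynomial.coeff_C_mul_X_pow]
  split_ifs with h
  · rw [Finset.sum_eq_single j]
    · rw [if_pos rfl]
    · intro l _ hl
      rw [if_neg (Ne.symm hl)]
    · intro h'
      exact absurd (Finset.mem_range.mpr h) h'
  · refine Finset.sum_eq_zero fun l hl => ?_
    rw [if_neg]
    rintro rfl
    exact h (Finset.mem_range.mp hl)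

theorem hA_natDegree (r : ℕ) (a : ι → ℕ → R2 k) (i : ι) : (hA r a i).natDegree ≤ r := by
  rw [Polynomial.natDegree_le_iff_coeff_eq_zero]
  intro j hj
  rw [hA_coeff, if_neg (by omega)]

/-- the leading forms in the chart `B` -/
noncomputable def hB (c : k) (r : ℕ) (a : ι → ℕ → R2 k) (i : ι) : Polynomial k :=
  ∑ j ∈ Finset.range (r + 1), Polynomial.C (ev0 (a i j)) * (Polynomial.X + Polynomial.C c) ^ (r - j)

theorem hB_natDegree (c : k) (r : ℕ) (a : ι → ℕ → R2 k) (i : ι) : (hB c r a i).natDegree ≤ r := by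
  refine Polynomial.natDegree_sum_le_of_forall_le _ _ fun j _ => ?_
  refine Polynomial.natDegree_C_mul_le _ _ |>.trans ?_
  rw [Polynomial.natDegree_pow, Polynomial.natDegree_X_add_C, mul_one]
  exact Nat.sub_le _ _

theorem hB_ne_zero (c : k) (r : ℕ) (a : ι → ℕ → R2 k) (i : ι) (j : ℕ) (hj : j ∈ Finset.range (r + 1))
    (h : ev0 (a i j) ≠ 0) : hB c r a i ≠ 0 := by
  have h1 : hB c r a i = (∑ j ∈ Finset.range (r + 1), Polynomial.C (ev0 (a i j)) * Polynomial.X ^ (r - j)).comp
      (Polynomial.X + Polynomial.C c) := by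
    rw [hB, sum_comp]
    simp
  rw [h1, Polynomial.comp_X_add_C_ne_zero_iff]
  intro h0
  apply h
  have h2 := congrArg (fun p => Polynomial.coeff p (r - j)) h0
  simp only [Polynomial.finsetSum_coeff, Polynomial.coeff_C_mul_X_pow, Polynomial.coeff_zero] at h2
  rw [Finset.sum_eq_single j] at h2
  · rwa [if_pos rfl] at h2
  · intro l hl hlj
    rw [if_neg]
    rw [Finset.mem_range] at hl hj
    omega
  · intro h'
    exact absurd hj h'

theorem piA_tr (r : ℕ) (a : ι → ℕ → R2 k) (i : ι) : piAa (tr sA X 1 r a i) = toPS (hA r a i) := by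
  rw [tr, hA, map_sum, map_sum]
  refine Finset.sum_congr rfl fun j _ => ?_
  rw [map_mul, map_mul, map_pow, map_pow, map_mul, map_pow, piAa_apply, piA_sA, piAa_apply, piAa_apply, toPS_C, toPS_X,
    map_one, one_pow, mul_one, piA, map_X]

theorem piB_tr (c : k) (r : ℕ) (a : ι → ℕ → R2 k) (i : ι) :
    piBa (tr (sB c) 1 (C (X + C c)) r a i) = toPS (hB c r a i) := by
  rw [tr, hB, map_sum, map_sum]
  refine Finset.sum_congr rfl fun j _ => ?_
  rw [map_mul, map_mul, map_pow, map_pow, map_mul, map_pow, piBa_apply, constantCoeff_sB, piBa_apply,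
    piBa_apply, map_one, one_pow, mul_one, constantCoeff_C, toPS_C, map_add, toPS_X, toPS_C]

variable {f : ι → R2 k} {r : ℕ} {a : ι → ℕ → R2 k}

theorem dropA (hr : 1 ≤ r) (hf : ∀ i, f i = ∑ j ∈ Finset.range (r + 1), a i j * X ^ j * (C X) ^ (r - j))
    {i₀ : ι} {j₀ : ℕ} (hj₀ : j₀ ∈ Finset.range (r + 1)) (h0 : ev0 (a i₀ j₀) ≠ 0)
    [FiniteDimensional k (R2 k ⧸ Ideal.span (Set.range f))] :
    FiniteDimensional k (R2 k ⧸ Ideal.span (Set.range (tr sA X 1 r a))) ∧
      finrank k (R2 k ⧸ Ideal.span (Set.range (tr sA X 1 r a))) < finrank k (R2 k ⧸ Ideal.span (Set.range f)) := by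
  have he : sAa (C X : R2 k) = C X := sA_C X
  refine chart_drop (sAa (k := k)) (C X) X 1 ?_ ?_ ?_ ?_ piAa ?_ hr hf ⟨i₀, fun w => ?_⟩
  · rw [he]; exact sA_X
  · rw [mul_one]
  · rw [he]
    intro h
    have h1 : (X : k⟦X⟧) = 0 := by
      have := congrArg (constantCoeff (R := k⟦X⟧)) h
      rwa [constantCoeff_C, map_zero] at this
    exact X_ne_zero h1
  · rw [ev0_apply, constantCoeff_C, constantCoeff_X]
  · intro w hw
    rw [he]
    have h1 : ∀ n, ∃ z, coeff n w = X * z := by
      intro n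
      have h2 := congrArg (coeff n) hw
      rw [piAa_apply, piA, coeff_map, map_zero, ← X_dvd_iff] at h2
      exact h2
    choose z hz using h1
    refine ⟨PowerSeries.mk z, ?_⟩
    ext n : 1
    rw [coeff_C_mul, coeff_mk, hz]
  · have hne : hA r a i₀ ≠ 0 := by
      intro h
      apply h0
      have h1 := hA_coeff r a i₀ j₀
      rwa [h, Polynomial.coeff_zero, if_pos (Finset.mem_range.mp hj₀), eq_comm] at h1
    obtain ⟨β, q, hβ, hw⟩ := exists_div (hA r a i₀) hne r (hA_natDegree r a i₀) (piAa w)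
    refine ⟨β.coeff, PowerSeries.map C q, ?_⟩
    have hq : piAa (PowerSeries.map C q) = q := by
      rw [piAa_apply, piA]
      ext n
      rw [coeff_map, coeff_map, constantCoeff_C]
    have hβ' : piAa (∑ j ∈ Finset.range (r + 1), algebraMap k (R2 k) (β.coeff j) * X ^ j * 1 ^ (r - j)) = (β : k⟦X⟧) := by
      rw [← toPS_apply, map_sum]
      conv_rhs => rw [β.as_sum_range' (r + 1) (by omega), map_sum]
      refine Finset.sum_congr rfl fun j _ => ?_
      rw [map_mul, map_mul, map_pow, map_pow, map_one, one_pow, mul_one, AlgHom.commutes,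
        ← Polynomial.C_mul_X_pow_eq_monomial, map_mul, map_pow, toPS_X, toPS_C, piAa_apply, piA, map_X]
      rfl
    rw [hβ', map_mul, hq]
    have h3 : piAa (tr (fun z => sAa z) X 1 r a i₀) = toPS (hA r a i₀) := piA_tr r a i₀
    rw [h3, toPS_apply]
    exact hw

theorem dropB (c : k) (hr : 1 ≤ r) (hf : ∀ i, f i = ∑ j ∈ Finset.range (r + 1), a i j * X ^ j * (C X) ^ (r - j))
    {i₀ : ι} {j₀ : ℕ} (hj₀ : j₀ ∈ Finset.range (r + 1)) (h0 : ev0 (a i₀ j₀) ≠ 0)
    [FiniteDimensional k (R2 k ⧸ Ideal.span (Set.range f))] :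
    FiniteDimensional k (R2 k ⧸ Ideal.span (Set.range (tr (sB c) 1 (C (X + C c)) r a))) ∧
      finrank k (R2 k ⧸ Ideal.span (Set.range (tr (sB c) 1 (C (X + C c)) r a))) <
        finrank k (R2 k ⧸ Ideal.span (Set.range f)) := by
  have he : sBa c (X : R2 k) = X := sB_X c
  refine chart_drop (sBa c) X 1 (C (X + C c)) ?_ ?_ ?_ ?_ piBa ?_ hr hf ⟨i₀, fun w => ?_⟩
  · rw [mul_one]
  · rw [he, mul_comm, sBa_apply, sB_C, iB_X]
  · rw [he]
    exact X_ne_zero
  · rw [ev0_apply, constantCoeff_X, map_zero]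
  · intro w hw
    rw [he]
    exact X_dvd_iff.mpr hw
  · have hne : hB c r a i₀ ≠ 0 := hB_ne_zero c r a i₀ j₀ hj₀ h0
    obtain ⟨β, q, hβ, hw⟩ := exists_div (hB c r a i₀) hne r (hB_natDegree c r a i₀) (piBa w)
    set β' := β.comp (Polynomial.X - Polynomial.C c) with hβ'
    have hβd : β'.natDegree ≤ r := by
      rw [hβ', Polynomial.natDegree_comp, Polynomial.natDegree_X_sub_C, mul_one]
      exact hβ
    have hβc : β = β'.comp (Polynomial.X + Polynomial.C c) := by
      rw [hβ', Polynomial.comp_assoc]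
      simp
    refine ⟨fun j => β'.coeff (r - j), C q, ?_⟩
    have hq : piBa (C q) = q := constantCoeff_C q
    have hβ' : piBa (∑ j ∈ Finset.range (r + 1), algebraMap k (R2 k) (β'.coeff (r - j)) * 1 ^ j *
        (C (X + C c)) ^ (r - j)) = (β : k⟦X⟧) := by
      rw [← toPS_apply, map_sum]
      conv_rhs => rw [hβc, β'.as_sum_range' (r + 1) (by omega), sum_comp, map_sum,
        ← Finset.sum_range_reflect]
      refine Finset.sum_congr rfl fun j _ => ?_
      rw [map_mul, map_mul, map_pow, map_pow, map_one, one_pow, mul_one, AlgHom.commutes, show r + 1 - 1 - j = r - j by omega,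
        ← Polynomial.C_mul_X_pow_eq_monomial, Polynomial.mul_comp, Polynomial.C_comp, Polynomial.X_pow_comp, map_mul,
        map_pow, piBa_apply, constantCoeff_C, toPS_C, map_add, toPS_X, toPS_C]
      rfl
    rw [hβ', map_mul, hq]
    have h3 : piBa (tr (fun z => sBa c z) 1 (C (X + C c)) r a i₀) = toPS (hB c r a i₀) := piB_tr c r a i₀
    rw [h3, toPS_apply]
    exact hw

end

section Homogeneous

variable {ι : Type*} {A : Type*} [CommRing A] [Algebra k A]

theorem aeval_mul_of_homogeneous (E : A) (g : ι → A) (G : MvPolynomial ι k) {d : ℕ} (hG : G.IsHomogeneous d) :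
    MvPolynomial.aeval (fun i => E * g i) G = E ^ d * MvPolynomial.aeval g G := by
  rw [MvPolynomial.aeval_def, MvPolynomial.eval₂_eq, MvPolynomial.aeval_def, MvPolynomial.eval₂_eq, Finset.mul_sum]
  refine Finset.sum_congr rfl fun m hm => ?_
  have h1 : m.degree = d := by
    have := hG (MvPolynomial.mem_support_iff.mp hm)
    rw [Finsupp.degree_eq_weight_one]
    exact this
  have h2 : ∏ i ∈ m.support, (E * g i) ^ m i = E ^ d * ∏ i ∈ m.support, g i ^ m i := by
    simp only [mul_pow]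
    rw [Finset.prod_mul_distrib, Finset.prod_pow_eq_pow_sum, ← h1]
    rfl
  rw [h2]
  ring

theorem aeval_eq_zero_of_mul [IsDomain A] (E : A) (hE : E ≠ 0) (g : ι → A) (G : MvPolynomial ι k) {d : ℕ}
    (hG : G.IsHomogeneous d) (h : MvPolynomial.aeval (fun i => E * g i) G = 0) : MvPolynomial.aeval g G = 0 := by
  rw [aeval_mul_of_homogeneous E g G hG] at h
  exact (mul_eq_zero.mp h).resolve_left (pow_ne_zero d hE)

end Homogeneous

section Induction

variable {ι : Type*}

theorem exists_setup (f : ι → R2 k) (hf : ∀ i, ev0 (f i) = 0)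
    [FiniteDimensional k (R2 k ⧸ Ideal.span (Set.range f))] : ∃ (r : ℕ) (a : ι → ℕ → R2 k), 1 ≤ r ∧
      (∀ i, f i = ∑ j ∈ Finset.range (r + 1), a i j * X ^ j * (C X) ^ (r - j)) ∧
      ∃ i₀, ∃ j ∈ Finset.range (r + 1), ev0 (a i₀ j) ≠ 0 := by
  classical
  obtain ⟨N, hN⟩ := pow_mem (Ideal.span (Set.range f)) (C X) (by rw [ev0_apply, constantCoeff_C, constantCoeff_X])
  set m : Ideal (R2 k) := Ideal.span {X, C X} with hm
  have hQ : ∃ r, ∃ i, f i ∉ m ^ (r + 1) := by
    refine ⟨N, ?_⟩
    by_contra hcon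
    push Not at hcon
    have h1 : Ideal.span (Set.range f) ≤ m ^ (N + 1) := by
      rw [Ideal.span_le]
      rintro _ ⟨i, rfl⟩
      exact hcon i
    have h2 : (C X : R2 k) ^ N ∈ m ^ (N + 1) := h1 hN
    have h3 := Ideal.mem_map_of_mem (constantCoeff (R := k⟦X⟧)) h2
    rw [Ideal.map_pow, hm, Ideal.map_span, Set.image_pair, constantCoeff_X, constantCoeff_C, map_pow, constantCoeff_C,
      show ({0, X} : Set k⟦X⟧) = insert 0 {X} from rfl, Ideal.span_insert_zero, Ideal.span_singleton_pow, Ideal.mem_span_singleton, X_pow_dvd_iff] at h3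
    have h4 := h3 N (Nat.lt_succ_self N)
    rw [coeff_X_pow_self] at h4
    exact one_ne_zero h4
  let r := Nat.find hQ
  obtain ⟨i₀, hi₀⟩ := Nat.find_spec hQ
  have hmin : ∀ i, f i ∈ m ^ r := by
    intro i
    rcases Nat.eq_zero_or_pos r with h0 | h0
    · rw [h0, pow_zero, Ideal.one_eq_top]; trivial
    · have h1 := Nat.find_min hQ (m := r - 1) (Nat.sub_lt h0 Nat.one_pos)
      push Not at h1
      have h2 := h1 i
      rwa [Nat.sub_add_cancel h0] at h2
  have hr : 1 ≤ r := by
    rw [Nat.one_le_iff_ne_zero]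
    intro h0
    apply hi₀
    change f i₀ ∈ m ^ (r + 1)
    rw [h0, zero_add, pow_one]
    exact mem_m _ (hf i₀)
  choose a ha using fun i => Drop.mem_pow_iff X (C X) r (f i) (hmin i)
  refine ⟨r, a, hr, ha, i₀, ?_⟩
  by_contra hcon
  push Not at hcon
  apply hi₀
  change f i₀ ∈ m ^ (r + 1)
  rw [ha i₀]
  refine sum_mem fun j hj => ?_
  have hjr : j + (r - j) = r := by
    rw [Finset.mem_range] at hj; omega
  have h2 : m ^ (r + 1) = m * (m ^ j * m ^ (r - j)) := by
    rw [← pow_add, hjr, pow_succ, mul_comm]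
  rw [h2, mul_assoc]
  exact Ideal.mul_mem_mul (mem_m _ (hcon j hj)) (Ideal.mul_mem_mul (Ideal.pow_mem_pow (Ideal.subset_span (by simp)) _)
        (Ideal.pow_mem_pow (Ideal.subset_span (by simp)) _))

/-- a family of polynomials which is not proportional to a constant family -/
def NC (h : ι → Polynomial k) : Prop := ¬ ∃ (l : ι → k) (F : Polynomial k), ∀ i, h i = Polynomial.C (l i) * F

variable {f : ι → R2 k} {r : ℕ} {a : ι → ℕ → R2 k}

theorem sA_f (hf : ∀ i, f i = ∑ j ∈ Finset.range (r + 1), a i j * X ^ j * (C X) ^ (r - j)) (i : ι) :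
    sA (f i) = (C X) ^ r * tr sA X 1 r a i := by
  rw [hf i]
  exact map_eq_tr sA (C X) X 1 sA_X (by rw [mul_one, sA_C]) r a i

theorem sB_f (c : k) (hf : ∀ i, f i = ∑ j ∈ Finset.range (r + 1), a i j * X ^ j * (C X) ^ (r - j)) (i : ι) :
    sB c (f i) = X ^ r * tr (sB c) 1 (C (X + C c)) r a i := by
  rw [hf i]
  exact map_eq_tr (sB c) X 1 (C (X + C c)) (by rw [mul_one, sB_X]) (by rw [sB_C, iB_X, mul_comm]) r a i

theorem aeval_A (hf : ∀ i, f i = ∑ j ∈ Finset.range (r + 1), a i j * X ^ j * (C X) ^ (r - j))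
    (G : MvPolynomial ι k) (d : ℕ) (hG : G.IsHomogeneous d) (h : MvPolynomial.aeval f G = 0) :
    MvPolynomial.aeval (tr sA X 1 r a) G = 0 := by
  refine aeval_eq_zero_of_mul ((C X : R2 k) ^ r) (pow_ne_zero r ?_) _ G hG ?_
  · intro h
    have h1 : (X : k⟦X⟧) = 0 := by
      have := congrArg (constantCoeff (R := k⟦X⟧)) h
      rwa [constantCoeff_C, map_zero] at this
    exact X_ne_zero h1
  · have h1 := MvPolynomial.comp_aeval_apply f (sAa (k := k)) G
    rw [h, map_zero] at h1
    rw [h1]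
    congr 2
    funext i
    rw [← sA_f hf i]
    rfl

theorem aeval_B (c : k) (hf : ∀ i, f i = ∑ j ∈ Finset.range (r + 1), a i j * X ^ j * (C X) ^ (r - j))
    (G : MvPolynomial ι k) (d : ℕ) (hG : G.IsHomogeneous d) (h : MvPolynomial.aeval f G = 0) :
    MvPolynomial.aeval (tr (sB c) 1 (C (X + C c)) r a) G = 0 := by
  refine aeval_eq_zero_of_mul ((X : R2 k) ^ r) (pow_ne_zero r X_ne_zero) _ G hG ?_
  have h1 := MvPolynomial.comp_aeval_apply f (sBa c) G
  rw [h, map_zero] at h1
  rw [h1]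
  congr 2
  funext i
  rw [← sB_f c hf i]
  rfl

theorem aeval_hA (hf : ∀ i, f i = ∑ j ∈ Finset.range (r + 1), a i j * X ^ j * (C X) ^ (r - j))
    (G : MvPolynomial ι k) (d : ℕ) (hG : G.IsHomogeneous d) (h : MvPolynomial.aeval f G = 0) :
    MvPolynomial.aeval (hA r a) G = 0 := by
  apply toPS_injective
  rw [map_zero, MvPolynomial.comp_aeval_apply]
  have h1 := MvPolynomial.comp_aeval_apply (tr sA X 1 r a) (piAa (k := k)) G
  rw [aeval_A hf G d hG h, map_zero] at h1
  rw [h1]
  congr 2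
  funext i
  exact (piA_tr r a i).symm

theorem constantCoeff_f (hf : ∀ i, f i = ∑ j ∈ Finset.range (r + 1), a i j * X ^ j * (C X) ^ (r - j)) (i : ι) :
    constantCoeff (f i) = constantCoeff (a i 0) * X ^ r := by
  rw [hf i, map_sum, Finset.sum_eq_single 0]
  · rw [pow_zero, mul_one, Nat.sub_zero, map_mul, map_pow, constantCoeff_C]
  · intro j _ hj
    rw [map_mul, map_mul, map_pow, constantCoeff_X, zero_pow hj, mul_zero, zero_mul]
  · intro h
    exact absurd (Finset.mem_range.mpr (Nat.succ_pos r)) h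

theorem constantCoeff_trA (i : ι) : constantCoeff (tr sA X 1 r a i) = constantCoeff (a i 0) := by
  rw [tr, map_sum, Finset.sum_eq_single 0]
  · rw [pow_zero, mul_one, one_pow, mul_one, constantCoeff_sA]
  · intro j _ hj
    rw [map_mul, map_mul, map_pow, constantCoeff_X, zero_pow hj, mul_zero, zero_mul]
  · intro h
    exact absurd (Finset.mem_range.mpr (Nat.succ_pos r)) h

theorem ev0_trA (i : ι) : ev0 (tr sA X 1 r a i) = ev0 (a i 0) := by
  rw [ev0_apply, constantCoeff_trA, ev0_apply]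

/-- a root of the reversed polynomial -/
theorem exists_root [IsAlgClosed k] (hr : 1 ≤ r) (φ : ℕ → k) (h0 : φ 0 ≠ 0) :
    ∃ c : k, ∑ j ∈ Finset.range (r + 1), φ j * c ^ (r - j) = 0 := by
  let Φ : Polynomial k := ∑ j ∈ Finset.range (r + 1), Polynomial.C (φ j) * Polynomial.X ^ (r - j)
  have hc : Φ.coeff r = φ 0 := by
    rw [Polynomial.finsetSum_coeff, Finset.sum_eq_single 0]
    · rw [Nat.sub_zero, Polynomial.coeff_C_mul_X_pow, if_pos rfl]
    · intro j hj hj0
      rw [Polynomial.coeff_C_mul_X_pow, if_neg]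
      rw [Finset.mem_range] at hj
      omega
    · intro h
      exact absurd (Finset.mem_range.mpr (Nat.succ_pos r)) h
  have hdeg : Φ.degree ≠ 0 := by
    intro h
    have h1 : r ≤ Φ.natDegree := Polynomial.le_natDegree_of_ne_zero (by rw [hc]; exact h0)
    have h2 : Φ.natDegree = 0 := Polynomial.natDegree_eq_of_degree_eq_some h
    omega
  obtain ⟨c, hc⟩ := IsAlgClosed.exists_root Φ hdeg
  refine ⟨c, ?_⟩
  rw [Polynomial.IsRoot.def, Polynomial.eval_finsetSum] at hc
  simpa using hc

theorem constantCoeff_trB (c : k) (l : ι → k) (F : ℕ → k) (h : ∀ i, ∀ j ∈ Finset.range (r + 1), ev0 (a i j) = l i * F j)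
    (i : ι) : constantCoeff (tr (sB c) 1 (C (X + C c)) r a i) =
      C (l i) * ∑ j ∈ Finset.range (r + 1), C (F j) * (X + C c) ^ (r - j) := by
  rw [tr, map_sum, Finset.mul_sum]
  refine Finset.sum_congr rfl fun j hj => ?_
  rw [map_mul, map_mul, map_pow, map_pow, map_one, one_pow, mul_one, constantCoeff_sB, constantCoeff_C, h i j hj, map_mul,
    mul_assoc]

theorem ev0_trB (c : k) (l : ι → k) (F : ℕ → k) (h : ∀ i, ∀ j ∈ Finset.range (r + 1), ev0 (a i j) = l i * F j)
    (hc : ∑ j ∈ Finset.range (r + 1), F j * c ^ (r - j) = 0) (i : ι) : ev0 (tr (sB c) 1 (C (X + C c)) r a i) = 0 := by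
  rw [ev0_apply, constantCoeff_trB c l F h i, map_mul, map_sum]
  have h1 : ∑ j ∈ Finset.range (r + 1), constantCoeff (C (F j) * (X + C c) ^ (r - j)) =
      ∑ j ∈ Finset.range (r + 1), F j * c ^ (r - j) := by
    refine Finset.sum_congr rfl fun j _ => ?_
    simp
  rw [h1, hc, mul_zero]

/-- a rational curve from a base point of a rational map in two variables -/
theorem exists_curve [IsAlgClosed k] (n : ℕ) : ∀ (f : ι → R2 k), (∀ i, ev0 (f i) = 0) →
    FiniteDimensional k (R2 k ⧸ Ideal.span (Set.range f)) → finrank k (R2 k ⧸ Ideal.span (Set.range f)) = n →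
    ∃ h : ι → Polynomial k, (∀ (G : MvPolynomial ι k) (d : ℕ), G.IsHomogeneous d → MvPolynomial.aeval f G = 0 →
      MvPolynomial.aeval h G = 0) ∧ NC h := by
  induction n using Nat.strong_induction_on with
  | _ n ih =>
    intro f hf0 hfin hn
    obtain ⟨r, a, hr, hf, i₀, j₀, hj₀, hne⟩ := exists_setup f hf0
    by_cases hNC : NC (hA r a)
    · exact ⟨hA r a, aeval_hA hf, hNC⟩
    · rw [NC, not_not] at hNC
      obtain ⟨l, F, hF⟩ := hNC
      have hc : ∀ i, ∀ j ∈ Finset.range (r + 1), ev0 (a i j) = l i * F.coeff j := by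
        intro i j hj
        have h1 := hA_coeff r a i j
        rw [if_pos (Finset.mem_range.mp hj), hF i, Polynomial.coeff_C_mul] at h1
        exact h1.symm
      by_cases h0 : F.coeff 0 = 0
      · obtain ⟨hfin', hlt⟩ := dropA hr hf hj₀ hne
        obtain ⟨h, hG, hh⟩ := ih _ (hn ▸ hlt) (tr sA X 1 r a) (fun i => by
          rw [ev0_trA, hc i 0 (Finset.mem_range.mpr (Nat.succ_pos r)), h0, mul_zero]) hfin' rfl
        exact ⟨h, fun G d hGd hG0 => hG G d hGd (aeval_A hf G d hGd hG0), hh⟩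
      · obtain ⟨c, hroot⟩ := exists_root hr F.coeff h0
        obtain ⟨hfin', hlt⟩ := dropB c hr hf hj₀ hne
        obtain ⟨h, hG, hh⟩ := ih _ (hn ▸ hlt) (tr (sB c) 1 (C (X + C c)) r a)
          (ev0_trB c l F.coeff hc hroot) hfin' rfl
        exact ⟨h, fun G d hGd hG0 => hG G d hGd (aeval_B c hf G d hGd hG0), hh⟩

/-- a rational curve through the image of the line `s = 0` -/
theorem exists_curve_through [IsAlgClosed k] (n : ℕ) : ∀ (f : ι → R2 k), (∀ i, ev0 (f i) = 0) →
    FiniteDimensional k (R2 k ⧸ Ideal.span (Set.range f)) → finrank k (R2 k ⧸ Ideal.span (Set.range f)) = n →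
    ∀ (p : ι → k), p ≠ 0 → ∀ g : k⟦X⟧, (∀ i, constantCoeff (f i) = C (p i) * g) →
    ∃ h : ι → Polynomial k, (∀ (G : MvPolynomial ι k) (d : ℕ), G.IsHomogeneous d → MvPolynomial.aeval f G = 0 →
      MvPolynomial.aeval h G = 0) ∧ NC h ∧ ∃ u : k, u ≠ 0 ∧ ∀ i, (h i).eval 0 = u * p i := by
  induction n using Nat.strong_induction_on with
  | _ n ih =>
    intro f hf0 hfin hn p hp g hg
    obtain ⟨r, a, hr, hf, i₀, j₀, hj₀, hne⟩ := exists_setup f hf0
    have h0r : 0 ∈ Finset.range (r + 1) := Finset.mem_range.mpr (Nat.succ_pos r)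
    obtain ⟨i₁, hi₁⟩ : ∃ i, p i ≠ 0 := by
      by_contra hcon
      push Not at hcon
      exact hp (funext hcon)
    -- the restriction to `s = 0` is divisible by `t ^ r`
    obtain ⟨g', hg'⟩ : ∃ g' : k⟦X⟧, ∀ i, constantCoeff (a i 0) = C (p i) * g' := by
      refine ⟨C (p i₁)⁻¹ * constantCoeff (a i₁ 0), fun i => ?_⟩
      have hX : (X : k⟦X⟧) ^ r ≠ 0 := pow_ne_zero r X_ne_zero
      have h1 := constantCoeff_f hf i
      have h2 := constantCoeff_f hf i₁
      rw [hg i] at h1
      rw [hg i₁] at h2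
      have hCC : (C (p i₁)⁻¹ : k⟦X⟧) * C (p i₁) = 1 := by rw [← map_mul, inv_mul_cancel₀ hi₁, map_one]
      apply mul_right_cancel₀ hX
      rw [← h1, mul_assoc, mul_assoc, ← h2, ← mul_assoc (C (p i₁)⁻¹), hCC, one_mul]
    have hev : ∀ i, ev0 (a i 0) = p i * constantCoeff g' := by
      intro i
      rw [ev0_apply, hg' i, map_mul, constantCoeff_C]
    by_cases hg0 : constantCoeff g' = 0
    · obtain ⟨hfin', hlt⟩ := dropA hr hf hj₀ hne
      obtain ⟨h, hG, hh⟩ := ih _ (hn ▸ hlt) (tr sA X 1 r a) (fun i => by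
        rw [ev0_trA, hev i, hg0, mul_zero]) hfin' rfl p hp g' (fun i => by rw [constantCoeff_trA, hg' i])
      exact ⟨h, fun G d hGd hG0 => hG G d hGd (aeval_A hf G d hGd hG0), hh⟩
    · by_cases hNC : NC (hA r a)
      · refine ⟨hA r a, aeval_hA hf, hNC, constantCoeff g', hg0, fun i => ?_⟩
        rw [← Polynomial.coeff_zero_eq_eval_zero, hA_coeff, if_pos (Nat.succ_pos r), hev i, mul_comm]
      · rw [NC, not_not] at hNC
        obtain ⟨l, F, hF⟩ := hNC
        have hc : ∀ i, ∀ j ∈ Finset.range (r + 1), ev0 (a i j) = l i * F.coeff j := by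
          intro i j hj
          have h1 := hA_coeff r a i j
          rw [if_pos (Finset.mem_range.mp hj), hF i, Polynomial.coeff_C_mul] at h1
          exact h1.symm
        have hF0 : F.coeff 0 ≠ 0 := by
          intro h0
          have h1 := hc i₁ 0 h0r
          rw [h0, mul_zero, hev i₁] at h1
          exact (mul_ne_zero hi₁ hg0) h1
        have hl : ∀ i, l i = p i * (constantCoeff g' / F.coeff 0) := by
          intro i
          have h1 := hc i 0 h0r
          rw [hev i] at h1
          rw [mul_div_assoc', h1, mul_div_cancel_right₀ _ hF0]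
        set F' : ℕ → k := fun j => constantCoeff g' / F.coeff 0 * F.coeff j with hF'
        have hc' : ∀ i, ∀ j ∈ Finset.range (r + 1), ev0 (a i j) = p i * F' j := by
          intro i j hj
          rw [hc i j hj, hl i, hF', mul_assoc]
        have hF'0 : F' 0 ≠ 0 := mul_ne_zero (div_ne_zero hg0 hF0) hF0
        obtain ⟨c, hroot⟩ := exists_root hr F' hF'0
        obtain ⟨hfin', hlt⟩ := dropB c hr hf hj₀ hne
        obtain ⟨h, hG, hh⟩ := ih _ (hn ▸ hlt) (tr (sB c) 1 (C (X + C c)) r a)
          (ev0_trB c p F' hc' hroot) hfin' rfl p hp _ (constantCoeff_trB c p F' hc')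
        exact ⟨h, fun G d hGd hG0 => hG G d hGd (aeval_B c hf G d hGd hG0), hh⟩

end Induction

end K888.PSMain
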