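import Groth.Agent.RatCurv.K888.PPt
import Groth.Agent.RatCurv.K888.PSMain
import Mathlib.RingTheory.Localization.Integer
import Mathlib.RingTheory.UniqueFactorizationDomain.GCDMonoid
import Mathlib.RingTheory.UniqueFactorizationDomain.Ideal
import Mathlib.Algebra.GCDMonoid.Finset
import Mathlib.RingTheory.KrullDimension.Basic

set_option autoImplicit false

/-!
# Rational maps from a two-dimensional regular local ring to a closed subscheme of projective space
-/

universe u

open CategoryTheory AlgebraicGeometry HomogeneousLocalization Limits IsLocalRing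
open Groth.Agent.Sga5.ProjChart Groth.Agent.Sga7.H132.ProjPts

namespace K888.LocGeo

open K888.PPt K888.Diag K888.PSMain K888.PSLocal

/-- elements without common factor in a factorial local ring of dimension two -/
theorem exists_primary (O : Type*) [CommRing O] [IsDomain O] [IsNoetherianRing O] [IsLocalRing O]
    [UniqueFactorizationMonoid O] (hdim : ringKrullDim O ≤ 2) {ι : Type*} (f : ι → O)
    (hf : ∀ d, (∀ i, d ∣ f i) → IsUnit d) : ∃ N, maximalIdeal O ^ N ≤ Ideal.span (Set.range f) := by
  apply Ideal.exists_pow_le_of_le_radical_of_fg _ (IsNoetherian.noetherian _)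
  rw [Ideal.radical_eq_sInf]
  refine le_sInf fun P ⟨hP, hPp⟩ => ?_
  by_contra hle
  have hlt : P < maximalIdeal O := lt_of_le_of_ne (le_maximalIdeal hPp.ne_top) (fun h => hle h.ge)
  have hbot : P ≠ ⊥ := by
    intro h
    have h0 : ∀ i, f i = 0 := by
      intro i
      have h1 : f i ∈ P := hP (Ideal.subset_span ⟨i, rfl⟩)
      rwa [h] at h1
    exact not_isUnit_zero (hf 0 (fun i => by rw [h0 i]))
  obtain ⟨q, hq, hqp⟩ := hPp.exists_mem_prime_of_ne_bot hbot
  have hq1 : Ideal.span {q} ≤ P := (Ideal.span_singleton_le_iff_mem P).mpr hq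
  have hq2 : (Ideal.span {q}).IsPrime := (Ideal.span_singleton_prime hqp.ne_zero).mpr hqp
  have hq3 : Ideal.span {q} ≠ P := by
    intro h
    apply hqp.not_isUnit
    refine hf q fun i => ?_
    have h1 : f i ∈ P := hP (Ideal.subset_span ⟨i, rfl⟩)
    rwa [← h, Ideal.mem_span_singleton] at h1
  have hq4 : (⊥ : Ideal O) < Ideal.span {q} := by
    rw [bot_lt_iff_ne_bot, Ne, Ideal.span_singleton_eq_bot]
    exact hqp.ne_zero
  let c : Fin 4 → PrimeSpectrum O := ![⟨⊥, Ideal.isPrime_bot⟩, ⟨_, hq2⟩, ⟨P, hPp⟩, ⟨maximalIdeal O, inferInstance⟩]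
  have hc : StrictMono c := by
    rw [Fin.strictMono_iff_lt_succ]
    intro i
    fin_cases i
    · exact hq4
    · exact lt_of_le_of_ne hq1 (fun h => hq3 (congrArg PrimeSpectrum.asIdeal h))
    · exact hlt
  have h4 : ((3 : ℕ) : WithBot ℕ∞) ≤ ringKrullDim O :=
    Order.LTSeries.length_le_krullDim (LTSeries.mk 3 c hc)
  have h5 := h4.trans hdim
  have h6 : (3 : ℕ) ≤ 2 := by exact_mod_cast h5
  omega

/-- homogeneous coordinates without common factor -/
theorem exists_coprime (O K : Type*) [CommRing O] [IsDomain O] [UniqueFactorizationMonoid O] [Field K] [Algebra O K]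
    [IsFractionRing O K] {n : ℕ} (a : Fin (n + 1) → K) (i : Fin (n + 1)) (hi : a i ≠ 0) :
    ∃ (c : K) (f : Fin (n + 1) → O), c ≠ 0 ∧ (∀ j, algebraMap O K (f j) = c * a j) ∧
      ∀ d, (∀ i, d ∣ f i) → IsUnit d := by
  classical
  have : Nontrivial O := inferInstance
  let _ : StrongNormalizationMonoid O := UniqueFactorizationMonoid.strongNormalizationMonoid
  let _ : NormalizedGCDMonoid O := UniqueFactorizationMonoid.toNormalizedGCDMonoid O
  obtain ⟨b, hb⟩ := IsLocalization.exist_integer_multiples_of_finite (nonZeroDivisors O) a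
  choose g hg using hb
  obtain ⟨f, hf, hf1⟩ := Finset.extract_gcd g (Finset.univ_nonempty (α := Fin (n + 1)))
  set e := Finset.univ.gcd g with he
  have hb0 : (b : O) ≠ 0 := nonZeroDivisors.ne_zero b.2
  have hbK : algebraMap O K b ≠ 0 := by
    rw [Ne, map_eq_zero_iff _ (IsFractionRing.injective O K)]
    exact hb0
  have hgi : g i ≠ 0 := by
    intro h
    have h1 := hg i
    rw [h, map_zero, Algebra.smul_def] at h1
    exact mul_ne_zero hbK hi h1.symm
  have he0 : e ≠ 0 := by
    intro h
    have h1 := hf i (Finset.mem_univ i)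
    rw [h, zero_mul] at h1
    exact hgi h1
  have heK : algebraMap O K e ≠ 0 := by
    rw [Ne, map_eq_zero_iff _ (IsFractionRing.injective O K)]
    exact he0
  refine ⟨algebraMap O K b / algebraMap O K e, f, div_ne_zero hbK heK, fun j => ?_, fun d hd => ?_⟩
  · have h1 := hg j
    rw [hf j (Finset.mem_univ j), map_mul, Algebra.smul_def] at h1
    rw [div_mul_eq_mul_div, ← h1, mul_div_cancel_left₀ _ heK]
  · have h1 : d ∣ Finset.univ.gcd f := Finset.dvd_gcd fun j _ => hd j
    rw [hf1] at h1
    exact isUnit_of_dvd_one h1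

theorem trunc_eq {A : Type*} [CommRing A] (g : PowerSeries A) (N : ℕ) :
    ((PowerSeries.trunc N g : Polynomial A) : PowerSeries A) =
      ∑ j : Fin N, PowerSeries.C (PowerSeries.coeff (j : ℕ) g) * PowerSeries.X ^ (j : ℕ) := by
  ext m
  rw [Polynomial.coeff_coe, PowerSeries.coeff_trunc,
    Fin.sum_univ_eq_sum_range (fun j => PowerSeries.C (PowerSeries.coeff j g) * (PowerSeries.X : PowerSeries A) ^ j) N,
    map_sum]
  simp only [PowerSeries.coeff_C_mul, PowerSeries.coeff_X_pow, mul_ite, mul_one, mul_zero]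
  split_ifs with h
  · rw [Finset.sum_ite_eq, if_pos (Finset.mem_range.mpr h)]
  · rw [Finset.sum_ite_eq, if_neg (fun h' => h (Finset.mem_range.mp h'))]

section

variable {k : Type*} [Field k]

/-- an ideal of the power series ring containing powers of the variables has finite codimension -/
theorem finite_of_pow_mem (I : Ideal (R2 k)) (N : ℕ) (hx : (PowerSeries.X : R2 k) ^ N ∈ I)
    (hy : (PowerSeries.C PowerSeries.X : R2 k) ^ N ∈ I) : FiniteDimensional k (R2 k ⧸ I) := by
  let T : (Fin N → Fin N → k) →ₗ[k] R2 k ⧸ I := (Ideal.Quotient.mkₐ k I).toLinearMap ∘ₗ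
    ∑ i : Fin N, ∑ j : Fin N, (LinearMap.mulRight k ((PowerSeries.X : R2 k) ^ (i : ℕ) *
      (PowerSeries.C PowerSeries.X : R2 k) ^ (j : ℕ))) ∘ₗ (Algebra.linearMap k (R2 k)) ∘ₗ LinearMap.proj j ∘ₗ
      LinearMap.proj (φ := fun _ : Fin N => (Fin N → k)) i
  have hT : ∀ b, T b = Ideal.Quotient.mk I (∑ i : Fin N, ∑ j : Fin N, algebraMap k (R2 k) (b i j) *
      ((PowerSeries.X : R2 k) ^ (i : ℕ) * (PowerSeries.C PowerSeries.X : R2 k) ^ (j : ℕ))) := by
    intro b
    simp only [T, LinearMap.comp_apply, LinearMap.sum_apply]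
    rfl
  have hsurj : Function.Surjective T := by
    intro z
    obtain ⟨f, rfl⟩ := Ideal.Quotient.mk_surjective z
    refine ⟨fun i j => PowerSeries.coeff (j : ℕ) (PowerSeries.coeff (i : ℕ) f), ?_⟩
    rw [hT, Ideal.Quotient.mk_eq_mk_iff_sub_mem]
    -- one variable
    have hone : ∀ g : PowerSeries k, PowerSeries.C g - ∑ j : Fin N, algebraMap k (R2 k) (PowerSeries.coeff (j : ℕ) g) *
        (PowerSeries.C PowerSeries.X : R2 k) ^ (j : ℕ) ∈ I := by
      intro g
      have h1 := PowerSeries.eq_X_pow_mul_shift_add_trunc N g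
      have h2 := trunc_eq g N
      have h3 : PowerSeries.C g - ∑ j : Fin N, algebraMap k (R2 k) (PowerSeries.coeff (j : ℕ) g) *
        (PowerSeries.C PowerSeries.X : R2 k) ^ (j : ℕ) = (PowerSeries.C PowerSeries.X : R2 k) ^ N *
          PowerSeries.C (PowerSeries.mk fun i => PowerSeries.coeff (i + N) g) := by
        conv_lhs => rw [h1]
        rw [map_add, h2, map_mul, map_pow, map_sum]
        have h4 : ∀ j : Fin N, PowerSeries.C (PowerSeries.C (PowerSeries.coeff (j : ℕ) g) * PowerSeries.X ^ (j : ℕ)) =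
            algebraMap k (R2 k) (PowerSeries.coeff (j : ℕ) g) * (PowerSeries.C PowerSeries.X : R2 k) ^ (j : ℕ) := by
          intro j
          rw [map_mul, map_pow, PSLocal.algebraMap_eq]
        simp only [h4]
        rw [← h2, ← h1]
        ring
      rw [h3]
      exact I.mul_mem_right _ hy
    have h1 := PowerSeries.eq_X_pow_mul_shift_add_trunc N f
    have h2 := trunc_eq f N
    rw [← Ideal.neg_mem_iff, neg_sub]
    have h5 : ∀ z : R2 k, f - z = (PowerSeries.X ^ N * PowerSeries.mk fun i => PowerSeries.coeff (i + N) f) +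
        ((PowerSeries.trunc N f : Polynomial (PowerSeries k)) : R2 k) - z := fun z => congrArg (fun w => w - z) h1
    rw [h5, h2, add_sub_assoc]
    refine add_mem (I.mul_mem_right _ hx) ?_
    rw [← Finset.sum_sub_distrib]
    refine sum_mem fun i _ => ?_
    have h3 : PowerSeries.C (PowerSeries.coeff (i : ℕ) f) * PowerSeries.X ^ (i : ℕ) - ∑ j : Fin N,
        algebraMap k (R2 k) (PowerSeries.coeff (j : ℕ) (PowerSeries.coeff (i : ℕ) f)) *
        ((PowerSeries.X : R2 k) ^ (i : ℕ) * (PowerSeries.C PowerSeries.X : R2 k) ^ (j : ℕ)) =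
        (PowerSeries.C (PowerSeries.coeff (i : ℕ) f) - ∑ j : Fin N,
          algebraMap k (R2 k) (PowerSeries.coeff (j : ℕ) (PowerSeries.coeff (i : ℕ) f)) *
            (PowerSeries.C PowerSeries.X : R2 k) ^ (j : ℕ)) * (PowerSeries.X : R2 k) ^ (i : ℕ) := by
      rw [sub_mul, Finset.sum_mul]
      congr 1
      refine Finset.sum_congr rfl fun j _ => ?_
      ring
    rw [h3]
    exact I.mul_mem_right _ (hone _)
  exact Module.Finite.of_surjective T hsurj

end

end K888.LocGeo
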