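import Groth.Agent.RatCurv.K888.LocGeo

set_option autoImplicit false

/-!
# Rational maps from a two-dimensional regular local ring to a closed subscheme of projective space, II
-/

universe u

open CategoryTheory AlgebraicGeometry HomogeneousLocalization Limits IsLocalRing
open Groth.Agent.Sga5.ProjChart Groth.Agent.Sga7.H132.ProjPts

namespace K888.LocGeo2

open K888.PPt K888.Diag K888.PSMain K888.PSLocal K888.LocGeo

variable {n : ℕ} {k : Type u} [Field k] {X : Scheme.{u}} (ι : X ⟶ CohB1.ProjSpace n k)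
  (O K : Type u) [CommRing O] [IsDomain O] [Field K] [Algebra O K] [IsFractionRing O K] [Algebra k O] [Algebra k K]
  [IsScalarTower k O K]

/-- `f` is a system of homogeneous coordinates for the rational map `φ` -/
def IsCoord (φ : Spec (CommRingCat.of K) ⟶ X) (f : Fin (n + 1) → O) : Prop :=
  ∀ i (hi : IsUnit (algebraMap O K (f i))), φ ≫ ι = pt (k := k) (fun j => algebraMap O K (f j)) i hi

variable {O K}

/-- coordinates of a rational map without common factor -/
theorem exists_coords [UniqueFactorizationMonoid O] (φ : Spec (CommRingCat.of K) ⟶ X)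
    (hφ : φ ≫ ι ≫ CohB1.ProjSpace.toSpec n k = Spec.map (CommRingCat.ofHom (algebraMap k K))) :
    ∃ f : Fin (n + 1) → O, (∀ d, (∀ i, d ∣ f i) → IsUnit d) ∧ (∃ i, f i ≠ 0) ∧ IsCoord ι O K φ f := by
  obtain ⟨i, a, hi, h⟩ := exists_eq_pt (φ ≫ ι) (by rw [Category.assoc]; exact hφ)
  obtain ⟨c, f, hc, hf, hd⟩ := exists_coprime O K a i hi.ne_zero
  refine ⟨f, hd, ?_, ?_⟩
  · by_contra hcon
    push Not at hcon
    have h1 := hf i
    rw [hcon i, map_zero] at h1
    exact mul_ne_zero hc hi.ne_zero h1.symm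
  · intro j hj
    have hj' : IsUnit (a j) := by
      have h1 : algebraMap O K (f j) ≠ 0 := hj.ne_zero
      rw [hf j] at h1
      exact isUnit_iff_ne_zero.mpr (right_ne_zero_of_mul h1)
    rw [h, pt_eq_pt a i j hi hj']
    exact (pt_smul a j hj' c (isUnit_iff_ne_zero.mpr hc) _ hf hj).symm

variable [IsClosedImmersion ι]

/-- transfer of the homogeneous equations -/
theorem exists_lift_of_homogeneous (φ : Spec (CommRingCat.of K) ⟶ X) (f : Fin (n + 1) → O) (hf : IsCoord (k := k) ι O K φ f)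
    {A : Type u} [CommRing A] [Algebra k A] (h : Fin (n + 1) → A)
    (hG : ∀ (G : MvPolynomial (Fin (n + 1)) k) (d : ℕ), G.IsHomogeneous d → MvPolynomial.aeval f G = 0 →
      MvPolynomial.aeval h G = 0) (i : Fin (n + 1)) (hfi : f i ≠ 0) (hi : IsUnit (h i)) :
    ∃ l : Spec (CommRingCat.of A) ⟶ X, l ≫ ι = pt (k := k) h i hi := by
  obtain ⟨J, hJ⟩ := exists_ideal ι i
  rw [pt, hJ]
  have hu : IsUnit (algebraMap O K (f i)) := by
    rw [isUnit_iff_ne_zero, Ne, map_eq_zero_iff _ (IsFractionRing.injective O K)]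
    exact hfi
  have h1 : ∀ z ∈ J, cpt (k := k) (fun j => algebraMap O K (f j)) i hu z = 0 :=
    (hJ K _).mp ⟨φ, hf i hu⟩
  intro z hz
  obtain ⟨d, G, hGd, rfl⟩ := HomogeneousLocalization.Away.mk_surjective _ (X_mem n k i) z
  have hGd' : G.IsHomogeneous d := by simpa using hGd
  have h2 := cpt_mk (k := k) (fun j => algebraMap O K (f j)) i hu d G hGd
  rw [h1 _ hz, zero_mul] at h2
  have h3 : MvPolynomial.aeval f G = 0 := by
    apply IsFractionRing.injective O K
    rw [map_zero, h2]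
    have := MvPolynomial.comp_aeval_apply (R := k) f (IsScalarTower.toAlgHom k O K) G
    exact this
  have h4 := hG G d hGd' h3
  have h5 := cpt_mk (k := k) h i hi d G hGd
  rw [h4] at h5
  exact (hi.pow d).mul_left_eq_zero.mp h5

theorem exists_lift_of_unit (φ : Spec (CommRingCat.of K) ⟶ X) (f : Fin (n + 1) → O) (hf : IsCoord (k := k) ι O K φ f)
    (i : Fin (n + 1)) (hi : IsUnit (f i)) :
    ∃ l : Spec (CommRingCat.of O) ⟶ X, Spec.map (CommRingCat.ofHom (algebraMap O K)) ≫ l = φ := by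
  obtain ⟨l, hl⟩ := exists_lift_of_homogeneous ι φ f hf f (fun _ _ _ h => h) i hi.ne_zero hi
  refine ⟨l, ?_⟩
  rw [← cancel_mono ι, Category.assoc, hl, hf i (hi.map _)]
  exact map_pt (k := k) f i hi (IsScalarTower.toAlgHom k O K) (fun j => algebraMap O K (f j)) (fun j => rfl) (hi.map _)

section Poly

variable [UniqueFactorizationMonoid O] [IsNoetherianRing O] [IsLocalRing O]

/-- the coordinates of a rational map not defined at the closed point -/
theorem exists_series (hdim : ringKrullDim O ≤ 2) (φ : Spec (CommRingCat.of K) ⟶ X)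
    (hφ : φ ≫ ι ≫ CohB1.ProjSpace.toSpec n k = Spec.map (CommRingCat.ofHom (algebraMap k K)))
    (hno : ¬ ∃ l : Spec (CommRingCat.of O) ⟶ X, Spec.map (CommRingCat.ofHom (algebraMap O K)) ≫ l = φ)
    (κ : O →ₐ[k] R2 k) (hκ : ∀ z ∈ maximalIdeal O, ev0 (κ z) = 0) (x y : O) (hx : x ∈ maximalIdeal O)
    (hy : y ∈ maximalIdeal O) (hκx : κ x = PowerSeries.X) (hκy : κ y = PowerSeries.C PowerSeries.X) :
    ∃ f : Fin (n + 1) → O, IsCoord (k := k) ι O K φ f ∧ (∀ i, ev0 (κ (f i)) = 0) ∧
      (∃ N, maximalIdeal O ^ N ≤ Ideal.span (Set.range f)) ∧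
      FiniteDimensional k (R2 k ⧸ Ideal.span (Set.range fun i => κ (f i))) := by
  obtain ⟨f, hd, hne, hf⟩ := exists_coords ι φ hφ (O := O)
  have hnu : ∀ i, f i ∈ maximalIdeal O := by
    intro i
    rw [mem_maximalIdeal, mem_nonunits_iff]
    intro hi
    exact hno (exists_lift_of_unit ι φ f hf i hi)
  obtain ⟨N, hN⟩ := exists_primary O hdim f hd
  refine ⟨f, hf, fun i => hκ _ (hnu i), ⟨N, hN⟩, ?_⟩
  have hmap : ∀ z ∈ Ideal.span (Set.range f), κ z ∈ Ideal.span (Set.range fun i => κ (f i)) := by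
    intro z hz
    have h1 := Ideal.mem_map_of_mem (κ : O →+* R2 k) hz
    rw [Ideal.map_span, ← Set.range_comp] at h1
    exact h1
  refine finite_of_pow_mem _ N ?_ ?_
  · rw [← hκx, ← map_pow]
    exact hmap _ (hN (Ideal.pow_mem_pow hx N))
  · rw [← hκy, ← map_pow]
    exact hmap _ (hN (Ideal.pow_mem_pow hy N))

variable [IsAlgClosed k]

/-- polynomial curves satisfying the equations -/
theorem exists_poly (hdim : ringKrullDim O ≤ 2) (φ : Spec (CommRingCat.of K) ⟶ X)
    (hφ : φ ≫ ι ≫ CohB1.ProjSpace.toSpec n k = Spec.map (CommRingCat.ofHom (algebraMap k K)))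
    (hno : ¬ ∃ l : Spec (CommRingCat.of O) ⟶ X, Spec.map (CommRingCat.ofHom (algebraMap O K)) ≫ l = φ)
    (κ : O →ₐ[k] R2 k) (hκ : ∀ z ∈ maximalIdeal O, ev0 (κ z) = 0) (x y : O) (hx : x ∈ maximalIdeal O)
    (hy : y ∈ maximalIdeal O) (hκx : κ x = PowerSeries.X) (hκy : κ y = PowerSeries.C PowerSeries.X) :
    ∃ h : Fin (n + 1) → Polynomial k, NC h ∧ ∀ i, h i ≠ 0 → ∀ (A : Type u) [CommRing A] [Algebra (Polynomial k) A]
      [Algebra k A] [IsScalarTower k (Polynomial k) A] (hu : IsUnit (algebraMap (Polynomial k) A (h i))),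
      ∃ l : Spec (CommRingCat.of A) ⟶ X, l ≫ ι = pt (k := k) (fun j => algebraMap (Polynomial k) A (h j)) i hu := by
  obtain ⟨f, hf, hev, -, hfin⟩ := exists_series ι hdim φ hφ hno κ hκ x y hx hy hκx hκy
  obtain ⟨h, hG, hNC⟩ := exists_curve _ (fun i => κ (f i)) hev hfin rfl
  have hG' : ∀ (G : MvPolynomial (Fin (n + 1)) k) (d : ℕ), G.IsHomogeneous d → MvPolynomial.aeval f G = 0 →
      MvPolynomial.aeval h G = 0 := by
    intro G d hGd h0
    refine hG G d hGd ?_
    have h1 := MvPolynomial.comp_aeval_apply (R := k) f κ G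
    rw [h0, map_zero] at h1
    exact h1.symm
  refine ⟨h, hNC, fun i hi A _ _ _ _ hu => ?_⟩
  refine exists_lift_of_homogeneous ι φ f hf (fun j => algebraMap (Polynomial k) A (h j)) (fun G d hGd h0 => ?_) i ?_ hu
  · have h1 := MvPolynomial.comp_aeval_apply (R := k) h (IsScalarTower.toAlgHom k (Polynomial k) A) G
    rw [hG' G d hGd h0, map_zero] at h1
    exact h1.symm
  · intro h0
    apply hi
    have := hG' (MvPolynomial.X i) 1 (MvPolynomial.isHomogeneous_X k i) (by rw [MvPolynomial.aeval_X, h0])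
    rwa [MvPolynomial.aeval_X] at this

end Poly

end K888.LocGeo2
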