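import Groth.Agent.RatCurv.K888.ExtCrit
import Groth.Agent.RatCurv.K888.LocGeo2
import Groth.Agent.CurvesA.CurveDvr
import Groth.Agent.IntTh.K711.ProjDim
import Groth.Agent.Sga5.ProjSmooth
import Mathlib.AlgebraicGeometry.ValuativeCriterion

set_option autoImplicit false

/-!
# Morphisms from the projective line to a projective variety from polynomial homogeneous coordinates
-/

universe u

open CategoryTheory AlgebraicGeometry Limits MonoidalCategory CartesianMonoidalCategory

namespace K888.P1Map

open K888.ExtCrit K888.PPt K888.PSMain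

/-- extension of a morphism from an open subset to a proper scheme, the closed points having valuation rings as local rings -/
theorem exists_ext_of_valuationRing {k : Type u} [Field k] {S : Scheme.{u}} (pS : S ⟶ Spec (CommRingCat.of k))
    [LocallyOfFiniteType pS] [IsIntegral S] {Y : Scheme.{u}} (pY : Y ⟶ Spec (CommRingCat.of k)) [IsProper pY]
    (U : S.Opens) (hU : (U : Set S).Nonempty) (f : (U : Scheme.{u}) ⟶ Y) (hf : f ≫ pY = U.ι ≫ pS)
    (h : ∀ x : S, IsClosed ({x} : Set S) → ValuationRing (S.presheaf.stalk x)) :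
    ∃ g : S ⟶ Y, g ≫ pY = pS ∧ U.ι ≫ g = f := by
  refine exists_ext pS pY U hU f hf fun x hx => ?_
  have hvr := h x hx
  have hval : ValuativeCriterion.Existence pY := by
    have h : IsProper pY := inferInstance
    rw [IsProper.eq_valuativeCriterion] at h
    exact h.1.1.1.existence
  have hcomm : CommSq (gen U hU f) (Spec.map (CommRingCat.ofHom
      (algebraMap (S.presheaf.stalk x) S.functionField))) pY (S.fromSpecStalk x ≫ pS) := by
    constructor
    rw [gen_comp pS pY U hU f hf, ← Category.assoc]
    congr 1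
    exact (Scheme.SpecMap_stalkSpecializes_fromSpecStalk (genericPoint_specializes x)).symm
  have : IsFractionRing (S.presheaf.stalk x) S.functionField := inferInstance
  obtain ⟨⟨l⟩⟩ := hval
    { R := S.presheaf.stalk x
      commRing := inferInstance
      domain := inferInstance
      valuationRing := inferInstance
      K := S.functionField
      field := inferInstance
      algebra := inferInstance
      isFractionRing := inferInstance
      i₁ := gen U hU f
      i₂ := S.fromSpecStalk x ≫ pS
      commSq := hcomm }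
  exact ⟨l.l, l.fac_left⟩

variable {k : Type u} [Field k]

/-- extension of a morphism from a nonempty open subset of the projective line -/
theorem exists_ext_P1 {Y : Scheme.{u}} (pY : Y ⟶ Spec (CommRingCat.of k)) [IsProper pY]
    (U : (CohB1.ProjSpace 1 k).Opens) (hU : (U : Set (CohB1.ProjSpace 1 k)).Nonempty) (f : (U : Scheme.{u}) ⟶ Y)
    (hf : f ≫ pY = U.ι ≫ CohB1.ProjSpace.toSpec 1 k) :
    ∃ g : CohB1.ProjSpace 1 k ⟶ Y, g ≫ pY = CohB1.ProjSpace.toSpec 1 k ∧ U.ι ≫ g = f := by
  have hint : IsIntegral (CohB1.ProjSpace 1 k) := K711.ProjDim.isIntegral_projSpace 1 k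
  have hdim : topologicalKrullDim (CohB1.ProjSpace 1 k) ≤ 1 :=
    (K711.ProjDim.topologicalKrullDim_projSpace 1 k).le
  have hsm : Smooth (CohB1.ProjSpace.toSpec 1 k) := by
    have := Groth.Agent.Sga5.ProjSmooth.smooth_toSpec 1 k
    exact SmoothOfRelativeDimension.smooth 1 _
  exact exists_ext_of_valuationRing (CohB1.ProjSpace.toSpec 1 k) pY U hU f hf fun x _ =>
    Groth.Agent.Picfga.CurvePts.valuationRing_stalk (CohB1.ProjSpace.toSpec 1 k) hdim x

/-- polynomials in one variable -/
noncomputable def poly1 : MvPolynomial (Fin 1) k ≃ₐ[k] Polynomial k :=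
  MvPolynomial.uniqueAlgEquiv k (Fin 1)

/-- the affine line in the projective line -/
noncomputable def jz : Spec (CommRingCat.of (Polynomial k)) ⟶ CohB1.ProjSpace 1 k :=
  Spec.map (CommRingCat.ofHom ((poly1 (k := k)).toRingEquiv : MvPolynomial (Fin 1) k →+* Polynomial k)) ≫
    Groth.Agent.Sga5.ProjSmooth.chart 1 k 0

instance isOpenImmersion_jz : IsOpenImmersion (jz (k := k)) := by
  have h1 : IsIso (CommRingCat.ofHom ((poly1 (k := k)).toRingEquiv : MvPolynomial (Fin 1) k →+* Polynomial k)) :=
    (ConcreteCategory.isIso_iff_bijective _).mpr (poly1 (k := k)).bijective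
  rw [jz]
  exact MorphismProperty.comp_mem (W := @IsOpenImmersion) _ _ inferInstance inferInstance

theorem jz_toSpec : jz (k := k) ≫ CohB1.ProjSpace.toSpec 1 k =
    Spec.map (CommRingCat.ofHom (algebraMap k (Polynomial k))) := by
  rw [jz, Category.assoc, Groth.Agent.Sga5.ProjSmooth.chart_toSpec, ← Spec.map_comp]
  congr 1
  apply CommRingCat.hom_ext
  apply RingHom.ext
  intro z
  exact (poly1 (k := k)).commutes z

section Curve

variable [IsAlgClosed k] {n : ℕ} (X : Over (Spec (CommRingCat.of k))) [IsProper X.hom] (ι : X.left ⟶ CohB1.ProjSpace n k)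
  [IsClosedImmersion ι] (hι : ι ≫ CohB1.ProjSpace.toSpec n k = X.hom) (h : Fin (n + 1) → Polynomial k) (hNC : NC h)
  (i : Fin (n + 1)) (hi : h i ≠ 0)
  (l : Spec (CommRingCat.of (Localization.Away (h i))) ⟶ X.left)
  (hu : IsUnit (algebraMap (Polynomial k) (Localization.Away (h i)) (h i)))
  (hl : l ≫ ι = pt (k := k) (fun j => algebraMap (Polynomial k) (Localization.Away (h i)) (h j)) i hu)

/-- evaluation at a point -/
noncomputable def evA (z : k) (hz : (h i).eval z ≠ 0) : Localization.Away (h i) →ₐ[k] k :=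
  { (IsLocalization.Away.lift (S := Localization.Away (h i)) (h i) (g := Polynomial.evalRingHom z)
      (isUnit_iff_ne_zero.mpr hz) : Localization.Away (h i) →+* k) with
    commutes' := fun a => by
      change IsLocalization.Away.lift (S := Localization.Away (h i)) (h i) (g := Polynomial.evalRingHom z)
        (isUnit_iff_ne_zero.mpr hz) (algebraMap k (Localization.Away (h i)) a) = a
      rw [IsScalarTower.algebraMap_apply k (Polynomial k) (Localization.Away (h i)), IsLocalization.Away.lift_eq]
      simp }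

theorem evA_algebraMap (z : k) (hz : (h i).eval z ≠ 0) (p : Polynomial k) :
    evA h i z hz (algebraMap (Polynomial k) (Localization.Away (h i)) p) = p.eval z := by
  change IsLocalization.Away.lift (S := Localization.Away (h i)) (h i) (g := Polynomial.evalRingHom z)
        (isUnit_iff_ne_zero.mpr hz) (algebraMap (Polynomial k) (Localization.Away (h i)) p) = p.eval z
  rw [IsLocalization.Away.lift_eq]
  rfl

include hι hNC hi hl

/-- the rational curve with given polynomial coordinates -/
theorem exists_curve_of_lift :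
    ∃ g : Over.mk (CohB1.ProjSpace.toSpec 1 k) ⟶ X, (¬ ∃ x : X.left, Set.range g.left.base ⊆ {x}) ∧
      ∀ z : k, ∀ hz : (h i).eval z ≠ 0, ∃ t : 𝟙_ (Over (Spec (CommRingCat.of k))) ⟶ Over.mk (CohB1.ProjSpace.toSpec 1 k),
        (t ≫ g).left ≫ ι = pt (k := k) (fun j => (h j).eval z) i (isUnit_iff_ne_zero.mpr hz) := by
  let A := Localization.Away (h i)
  let j : Spec (CommRingCat.of A) ⟶ CohB1.ProjSpace 1 k :=
    Spec.map (CommRingCat.ofHom (algebraMap (Polynomial k) A)) ≫ jz
  have hj : j ≫ CohB1.ProjSpace.toSpec 1 k = Spec.map (CommRingCat.ofHom (algebraMap k A)) := by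
    rw [Category.assoc, jz_toSpec, ← Spec.map_comp, ← CommRingCat.ofHom_comp, ← IsScalarTower.algebraMap_eq]
  have hjo : IsOpenImmersion j := by
    have h1 : IsOpenImmersion (Spec.map (CommRingCat.ofHom (algebraMap (Polynomial k) A))) := inferInstance
    exact MorphismProperty.comp_mem (W := @IsOpenImmersion) _ _ h1 inferInstance
  have hne : Nonempty (Spec (CommRingCat.of A)) := by
    have : Nontrivial A := by
      have hle : Submonoid.powers (h i) ≤ nonZeroDivisors (Polynomial k) := powers_le_nonZeroDivisors_of_noZeroDivisors hi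
      have : IsDomain A := IsLocalization.isDomain_of_le_nonZeroDivisors A hle
      infer_instance
    exact inferInstanceAs (Nonempty (PrimeSpectrum A))
  have hlX : l ≫ X.hom = j ≫ CohB1.ProjSpace.toSpec 1 k := by
    rw [← hι, ← Category.assoc, hl, pt_toSpec, hj]
  obtain ⟨g, hg1, hg2⟩ := exists_ext_P1 X.hom j.opensRange (by
    obtain ⟨x⟩ := hne
    exact ⟨j x, ⟨x, rfl⟩⟩) (j.isoOpensRange.inv ≫ l) (by
    rw [Category.assoc, hlX, ← Category.assoc, Scheme.Hom.isoOpensRange_inv_comp])
  have hjg : j ≫ g = l := by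
    rw [← Scheme.Hom.isoOpensRange_hom_ι j, Category.assoc, hg2, Iso.hom_inv_id_assoc]
  let G : Over.mk (CohB1.ProjSpace.toSpec 1 k) ⟶ X := Over.homMk g hg1
  have hpt : ∀ z : k, ∀ hz : (h i).eval z ≠ 0, ∃ t : Spec (CommRingCat.of k) ⟶ CohB1.ProjSpace 1 k,
      t ≫ CohB1.ProjSpace.toSpec 1 k = 𝟙 _ ∧
      (t ≫ g) ≫ ι = pt (k := k) (fun j => (h j).eval z) i (isUnit_iff_ne_zero.mpr hz) := by
    intro z hz
    refine ⟨Spec.map (CommRingCat.ofHom (evA h i z hz : A →+* k)) ≫ j, ?_, ?_⟩
    · rw [Category.assoc, hj, ← Spec.map_comp, ← CommRingCat.ofHom_comp]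
      have h1 : (evA h i z hz : A →+* k).comp (algebraMap k A) = RingHom.id k := by
        ext a
        exact (evA h i z hz).commutes a
      rw [h1, CommRingCat.ofHom_id, Spec.map_id]
    · rw [Category.assoc, Category.assoc, ← Category.assoc j, hjg, hl]
      exact map_pt (k := k) _ i hu (evA h i z hz) (fun j => (h j).eval z)
        (fun j => (evA_algebraMap h i z hz (h j)).symm) (isUnit_iff_ne_zero.mpr hz)
  refine ⟨G, ?_, fun z hz => ?_⟩
  · rintro ⟨x, hx⟩
    have : Infinite k := IsAlgClosed.instInfinite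
    obtain ⟨z₀, hz₀⟩ : ∃ z, (h i).eval z ≠ 0 := by
      by_contra hcon
      push Not at hcon
      exact hi (Polynomial.funext (fun z => by rw [hcon z, Polynomial.eval_zero]))
    obtain ⟨t₀, ht₀, ht₀'⟩ := hpt z₀ hz₀
    have hall : ∀ z, (h i).eval z ≠ 0 → ∀ j, (h j).eval z * (h i).eval z₀ = (h j).eval z₀ * (h i).eval z := by
      intro z hz j'
      obtain ⟨t, ht, ht'⟩ := hpt z hz
      have h1 : t ≫ g = t₀ ≫ g := by
        refine ext_of_apply_closedPoint_eq X.hom ?_ ?_ ?_
        · rw [Category.assoc, hg1, ht]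
        · rw [Category.assoc, hg1, ht₀]
        · have h2 : ∀ y, g y = x := fun y => hx ⟨y, rfl⟩
          exact ((Scheme.Hom.comp_apply t g _).trans (h2 _)).trans ((Scheme.Hom.comp_apply t₀ g _).trans (h2 _)).symm
      have h2 : pt (k := k) (fun j => (h j).eval z) i (isUnit_iff_ne_zero.mpr hz) =
          pt (k := k) (fun j => (h j).eval z₀) i (isUnit_iff_ne_zero.mpr hz₀) := by
        rw [← ht', ← ht₀', h1]
      rw [pt, pt, cancel_mono] at h2
      have h3 := Spec.map_injective h2
      have h4 : cpt (k := k) (fun j => (h j).eval z) i (isUnit_iff_ne_zero.mpr hz)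
          (Groth.Agent.Sga5.ProjChart.coord n k i j') =
          cpt (k := k) (fun j => (h j).eval z₀) i (isUnit_iff_ne_zero.mpr hz₀)
          (Groth.Agent.Sga5.ProjChart.coord n k i j') :=
        congrArg (fun g => g.hom (Groth.Agent.Sga5.ProjChart.coord n k i j')) h3
      have h5 := cpt_coord (k := k) (fun j => (h j).eval z) i (isUnit_iff_ne_zero.mpr hz) j'
      have h6 := cpt_coord (k := k) (fun j => (h j).eval z₀) i (isUnit_iff_ne_zero.mpr hz₀) j'
      rw [← h5, ← h6, h4]
      ring
    apply hNC
    refine ⟨fun j => (h j).eval z₀ / (h i).eval z₀, h i, fun j => ?_⟩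
    have h7 : (h j * Polynomial.C ((h i).eval z₀) - Polynomial.C ((h j).eval z₀) * h i) * h i = 0 := by
      refine Polynomial.funext fun z => ?_
      rw [Polynomial.eval_mul, Polynomial.eval_zero]
      by_cases hz : (h i).eval z = 0
      · rw [hz, mul_zero]
      · rw [Polynomial.eval_sub, Polynomial.eval_mul, Polynomial.eval_mul, Polynomial.eval_C, Polynomial.eval_C,
          hall z hz j, sub_self, zero_mul]
    have h8 := (mul_eq_zero.mp h7).resolve_right hi
    rw [sub_eq_zero] at h8
    have h9 : (Polynomial.C ((h i).eval z₀) : Polynomial k) * Polynomial.C ((h i).eval z₀)⁻¹ = 1 := by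
      rw [← map_mul, mul_inv_cancel₀ hz₀, map_one]
    calc h j = h j * (Polynomial.C ((h i).eval z₀) * Polynomial.C ((h i).eval z₀)⁻¹) := by rw [h9, mul_one]
      _ = (h j * Polynomial.C ((h i).eval z₀)) * Polynomial.C ((h i).eval z₀)⁻¹ := by ring
      _ = _ := by
        rw [h8]
        simp only [div_eq_mul_inv, map_mul]
        ring
  · obtain ⟨t, ht, ht'⟩ := hpt z hz
    exact ⟨Over.homMk t ht, ht'⟩

end Curve

end K888.P1Map
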