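import Groth.Agent.RatCurv.K888.Diag
import Groth.Agent.RatCurv.K888.Drop
import Mathlib.RingTheory.Artinian.Ring
import Mathlib.RingTheory.Jacobson.Ideal
import Mathlib.RingTheory.MvPolynomial.Homogeneous
import Mathlib.FieldTheory.IsAlgClosed.Basic
import Mathlib.Algebra.Polynomial.Taylor

set_option autoImplicit false

/-!
# Rational curves from the base points of a rational map in two variables
-/

open PowerSeries Module K888.Diag

namespace K888.PSLocal

variable {k : Type*} [Field k]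

/-- division of a power series by a nonzero polynomial -/
theorem exists_div (p : Polynomial k) (hp : p ≠ 0) (r : ℕ) (hr : p.natDegree ≤ r) (w : k⟦X⟧) :
    ∃ (β : Polynomial k) (q : k⟦X⟧), β.natDegree ≤ r ∧ w = (β : k⟦X⟧) + q * (p : k⟦X⟧) := by
  have hp' : (p : k⟦X⟧) ≠ 0 := by
    intro h
    exact hp (by exact_mod_cast h)
  set m := (p : k⟦X⟧).order.toNat with hm
  have h1 : coeff m (p : k⟦X⟧) ≠ 0 := coeff_order hp'
  have hmr : m ≤ r := by
    rw [Polynomial.coeff_coe] at h1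
    exact (Polynomial.le_natDegree_of_ne_zero h1).trans hr
  obtain ⟨u, hu⟩ : (X : k⟦X⟧) ^ m ∣ (p : k⟦X⟧) := X_pow_order_dvd
  have hu' : constantCoeff u ≠ 0 := by
    rw [hu] at h1
    have h2 : coeff m (X ^ m * u) = constantCoeff u := by
      have := coeff_X_pow_mul u m 0
      rwa [zero_add, coeff_zero_eq_constantCoeff_apply] at this
    rwa [h2] at h1
  refine ⟨trunc m w, (PowerSeries.mk fun i => coeff (i + m) w) * u⁻¹, ?_, ?_⟩
  · rcases Nat.eq_zero_or_pos m with h0 | h0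
    · rw [h0, trunc_zero', Polynomial.natDegree_zero]
      exact Nat.zero_le _
    · have := natDegree_trunc_lt w (m - 1)
      rw [show m - 1 + 1 = m by omega] at this
      omega
  · have h3 := eq_X_pow_mul_shift_add_trunc m w
    rw [hu]
    have h4 : u⁻¹ * u = 1 := PowerSeries.inv_mul_cancel u hu'
    calc w = X ^ m * (PowerSeries.mk fun i => coeff (i + m) w) + (trunc m w : k⟦X⟧) := h3
      _ = (trunc m w : k⟦X⟧) + (PowerSeries.mk fun i => coeff (i + m) w) * X ^ m * (u⁻¹ * u) := by rw [h4]; ring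
      _ = _ := by ring

theorem algebraMap_eq (a : k) : algebraMap k (R2 k) a = C (C a) := by
  rw [PowerSeries.algebraMap_apply, PowerSeries.algebraMap_apply]
  rfl

/-- elements vanishing at the origin -/
theorem mem_m (f : R2 k) (hf : ev0 f = 0) : f ∈ (Ideal.span {X, C X} : Ideal (R2 k)) := by
  rw [Ideal.mem_span_pair]
  have h1 := eq_X_mul_shift_add_const f
  have h2 := eq_X_mul_shift_add_const (constantCoeff f)
  rw [ev0_apply] at hf
  rw [hf, map_zero, add_zero] at h2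
  refine ⟨PowerSeries.mk fun i => coeff (i + 1) f, C (PowerSeries.mk fun i => coeff (i + 1) (constantCoeff f)), ?_⟩
  rw [← map_mul, mul_comm (PowerSeries.mk fun i => coeff (i + 1) (constantCoeff f)) X, ← h2, mul_comm]
  exact h1.symm

theorem ev0_of_mem (f : R2 k) (hf : f ∈ (Ideal.span {X, C X} : Ideal (R2 k))) : ev0 f = 0 := by
  obtain ⟨a, b, rfl⟩ := Ideal.mem_span_pair.mp hf
  simp

theorem isUnit_of_ev0 (f : R2 k) (hf : ev0 f ≠ 0) : IsUnit f := by
  rw [isUnit_iff_constantCoeff, isUnit_iff_constantCoeff]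
  exact isUnit_iff_ne_zero.mpr hf

theorem pow_mem (I : Ideal (R2 k)) [FiniteDimensional k (R2 k ⧸ I)] (z : R2 k) (hz : ev0 z = 0) : ∃ N, z ^ N ∈ I := by
  have hart : IsArtinianRing (R2 k ⧸ I) := IsArtinianRing.of_finite k (R2 k ⧸ I)
  have h1 : Ideal.Quotient.mk I z ∈ Ideal.jacobson (⊥ : Ideal (R2 k ⧸ I)) := by
    rw [Ideal.mem_jacobson_bot]
    intro y
    obtain ⟨y, rfl⟩ := Ideal.Quotient.mk_surjective y
    rw [← map_mul, ← map_one (Ideal.Quotient.mk I), ← map_add]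
    refine (isUnit_of_ev0 _ ?_).map _
    rw [map_add, map_mul, hz, zero_mul, zero_add, map_one]
    exact one_ne_zero
  obtain ⟨N, hN⟩ := IsArtinianRing.isNilpotent_jacobson_bot (R := R2 k ⧸ I)
  refine ⟨N, ?_⟩
  rw [← Ideal.Quotient.eq_zero_iff_mem, map_pow]
  have := Ideal.pow_mem_pow h1 N
  rw [hN] at this
  exact this

section Transform

variable {ι : Type*}

/-- the transform of a family of forms -/
noncomputable def tr (σ : R2 k → R2 k) (u v : R2 k) (r : ℕ) (a : ι → ℕ → R2 k) (i : ι) : R2 k :=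
  ∑ j ∈ Finset.range (r + 1), σ (a i j) * u ^ j * v ^ (r - j)

theorem map_eq_tr (σ : R2 k →+* R2 k) (e u v : R2 k) (hx : σ X = e * u) (hy : σ (C X) = e * v) (r : ℕ) (a : ι → ℕ → R2 k)
    (i : ι) : σ (∑ j ∈ Finset.range (r + 1), a i j * X ^ j * (C X) ^ (r - j)) = e ^ r * tr σ u v r a i := by
  rw [map_sum, tr, Finset.mul_sum]
  refine Finset.sum_congr rfl fun j hj => ?_
  have hjr : j + (r - j) = r := by
    rw [Finset.mem_range] at hj; omega
  rw [map_mul, map_mul, map_pow, map_pow, hx, hy, mul_pow, mul_pow]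
  conv_rhs => rw [← hjr, pow_add]
  rw [hjr]
  ring

theorem exists_of_mem_span (σ : R2 k →+* R2 k) (E : R2 k) (f g : ι → R2 k) (h : ∀ i, σ (f i) = E * g i) (z : R2 k)
    (hz : z ∈ Ideal.span (Set.range f)) : ∃ w ∈ Ideal.span (Set.range g), σ z = E * w := by
  induction hz using Submodule.span_induction with
  | mem z hz =>
    obtain ⟨i, rfl⟩ := hz
    exact ⟨g i, Ideal.subset_span ⟨i, rfl⟩, h i⟩
  | zero => exact ⟨0, zero_mem _, by simp⟩
  | add x y _ _ hx hy =>
    obtain ⟨w, hw, h1⟩ := hx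
    obtain ⟨w', hw', h1'⟩ := hy
    exact ⟨w + w', add_mem hw hw', by rw [map_add, h1, h1', mul_add]⟩
  | smul a x _ hx =>
    obtain ⟨w, hw, h1⟩ := hx
    exact ⟨σ a * w, Ideal.mul_mem_left _ _ hw, by rw [smul_eq_mul, map_mul, h1]; ring⟩

theorem chart_drop {P : Type*} [CommRing P] [Algebra k P] (σ : R2 k →ₐ[k] R2 k) (e₀ u v : R2 k) (hx : σ X = σ e₀ * u)
    (hy : σ (C X) = σ e₀ * v) (hE : σ e₀ ≠ 0) (he₀ : ev0 e₀ = 0) (π : R2 k →ₐ[k] P) (hπ : ∀ w, π w = 0 → σ e₀ ∣ w)
    {f : ι → R2 k} {r : ℕ} (hr : 1 ≤ r) {a : ι → ℕ → R2 k}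
    (hf : ∀ i, f i = ∑ j ∈ Finset.range (r + 1), a i j * X ^ j * (C X) ^ (r - j))
    (H : ∃ i₀, ∀ w : R2 k, ∃ (b : ℕ → k) (q : R2 k), π w =
      π (∑ j ∈ Finset.range (r + 1), algebraMap k (R2 k) (b j) * u ^ j * v ^ (r - j)) + π (q * tr σ u v r a i₀))
    [FiniteDimensional k (R2 k ⧸ Ideal.span (Set.range f))] :
    FiniteDimensional k (R2 k ⧸ Ideal.span (Set.range (tr σ u v r a))) ∧
      finrank k (R2 k ⧸ Ideal.span (Set.range (tr σ u v r a))) < finrank k (R2 k ⧸ Ideal.span (Set.range f)) := by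
  have hgen : ∀ i, (σ : R2 k →+* R2 k) (f i) = σ e₀ ^ r * tr σ u v r a i := by
    intro i
    rw [hf i]
    exact map_eq_tr (σ : R2 k →+* R2 k) (σ e₀) u v hx hy r a i
  have hI' := exists_of_mem_span (σ : R2 k →+* R2 k) (σ e₀ ^ r) f (tr σ u v r a) hgen
  obtain ⟨i₀, H⟩ := H
  obtain ⟨N, hN⟩ := pow_mem (Ideal.span (Set.range f)) e₀ he₀
  have hN' : e₀ ^ (N + r) ∈ Ideal.span (Set.range f) := by
    rw [pow_add]; exact Ideal.mul_mem_right _ _ hN
  obtain ⟨w, hw, hw'⟩ := hI' _ hN'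
  have hM : σ e₀ ^ N ∈ Ideal.span (Set.range (tr σ u v r a)) := by
    have h1 : σ e₀ ^ r * w = σ e₀ ^ r * σ e₀ ^ N := by
      rw [← hw', ← pow_add, add_comm r N]
      exact map_pow _ _ _
    rwa [mul_left_cancel₀ (pow_ne_zero r hE) h1] at hw
  refine Drop.drop σ (((Ideal.span {X, C X} : Ideal (R2 k)) ^ r).restrictScalars k) ?_ (Ideal.span (Set.range f)) ?_
    (σ e₀ ^ r) (pow_ne_zero r hE) _ hI' ?_
  · intro h1
    have h2 : (1 : R2 k) ∈ (Ideal.span {X, C X} : Ideal (R2 k)) := Ideal.pow_le_self (by omega) h1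
    have h3 := ev0_of_mem _ h2
    rw [map_one] at h3
    exact one_ne_zero h3
  · have h1 : Ideal.span (Set.range f) ≤ (Ideal.span {X, C X} : Ideal (R2 k)) ^ r := by
      rw [Ideal.span_le]
      rintro _ ⟨i, rfl⟩
      rw [hf i]
      refine sum_mem fun j hj => ?_
      have hjr : j + (r - j) = r := by
        rw [Finset.mem_range] at hj; omega
      have h2 : (Ideal.span {X, C X} : Ideal (R2 k)) ^ r = Ideal.span {X, C X} ^ j * Ideal.span {X, C X} ^ (r - j) := by
        rw [← pow_add, hjr]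
      rw [mul_assoc]
      refine Ideal.mul_mem_left _ _ ?_
      rw [h2]
      exact Ideal.mul_mem_mul (Ideal.pow_mem_pow (Ideal.subset_span (by simp)) _)
        (Ideal.pow_mem_pow (Ideal.subset_span (by simp)) _)
    exact fun f hf => h1 hf
  · intro z
    exact Drop.surj σ X (C X) e₀ u v hx hy π hπ r (Ideal.span (Set.range (tr σ u v r a))) (tr σ u v r a i₀)
      (Ideal.subset_span ⟨i₀, rfl⟩) H N hM z

end Transform

end K888.PSLocal
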