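import Groth.Agent.RatCurv.K888.LocGeo2

set_option autoImplicit false

/-!
# Comparison of homogeneous coordinates of points of projective space
-/

universe u

open CategoryTheory AlgebraicGeometry HomogeneousLocalization Limits IsLocalRing MvPolynomial
open Groth.Agent.Sga5.ProjChart Groth.Agent.Sga7.H132.ProjPts

namespace K888.PtCmp

open K888.PPt K888.LocGeo2

variable {n : ℕ} {k : Type u} [Field k]

section Field

variable {L : Type u} [Field L] [Algebra k L]

theorem ne_zero_of_mem (a : Fin (n + 1) → L) (i j : Fin (n + 1)) (hi : IsUnit (a i))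
    (h : pt (k := k) a i hi (closedPoint L) ∈ Set.range (chart n k j)) : a j ≠ 0 := by
  have h0 := Proj.opensRange_awayι (CohB1.polyGrading n k) (X j) (X_mem n k j) zero_lt_one
  have h1 : pt (k := k) a i hi (closedPoint L) ∈ (Proj.awayι (CohB1.polyGrading n k) (X j) (X_mem n k j) zero_lt_one).opensRange := h
  rw [h0] at h1
  have h2 := Proj.awayι_preimage_basicOpen (CohB1.polyGrading n k) (X_mem n k i) zero_lt_one (X_mem n k j) zero_lt_one
  have h3 : (Spec.map (CommRingCat.ofHom (cpt (k := k) a i hi))) (closedPoint L) ∈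
      PrimeSpectrum.basicOpen (Away.isLocalizationElem (X_mem n k i) (X_mem n k j)) := by
    rw [← h2]
    exact h1
  have helem : Away.isLocalizationElem (X_mem n k i) (X_mem n k j) = coord n k i j := by
    apply HomogeneousLocalization.val_injective
    rw [coord, Away.val_mk, Away.val_mk, pow_one]
  rw [helem] at h3
  have h4 : cpt (k := k) a i hi (coord n k i j) ≠ 0 := by
    intro h0
    apply h3
    change cpt (k := k) a i hi (coord n k i j) ∈ (closedPoint L).asIdeal
    rw [h0]
    exact Ideal.zero_mem _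
  rw [← cpt_coord (k := k) a i hi j]
  exact mul_ne_zero h4 hi.ne_zero

theorem mul_eq_mul (a b : Fin (n + 1) → L) (i j : Fin (n + 1)) (hi : IsUnit (a i)) (hj : IsUnit (b j))
    (h : pt (k := k) a i hi = pt b j hj) (l m : Fin (n + 1)) : a l * b m = a m * b l := by
  have hj' : IsUnit (a j) := by
    rw [isUnit_iff_ne_zero]
    refine ne_zero_of_mem (k := k) a i j hi ?_
    rw [h]
    exact ⟨_, rfl⟩
  rw [pt_eq_pt a i j hi hj', pt, pt, cancel_mono] at h
  have h1 : cpt (k := k) a j hj' = cpt b j hj := congrArg CommRingCat.Hom.hom (Spec.map_injective h)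
  have h2 : ∀ m, a m * b j = b m * a j := by
    intro m
    have h3 := cpt_coord (k := k) a j hj' m
    have h4 := cpt_coord (k := k) b j hj m
    rw [← h3, ← h4, h1]
    ring
  apply hj.mul_right_cancel
  apply hj'.mul_right_cancel
  have h5 := h2 l
  have h6 := h2 m
  calc a l * b m * b j * a j = (a l * b j) * (b m * a j) := by ring
    _ = (b l * a j) * (a m * b j) := by rw [h5, ← h6]
    _ = a m * b l * b j * a j := by ring

end Field

section Local

variable {R : Type u} [CommRing R] [IsLocalRing R] [Algebra k R]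

theorem exists_eq_pt_of_mem (q : Spec (CommRingCat.of R) ⟶ CohB1.ProjSpace n k)
    (hq : q ≫ CohB1.ProjSpace.toSpec n k = Spec.map (CommRingCat.ofHom (algebraMap k R))) (i : Fin (n + 1))
    (h : q (closedPoint R) ∈ Set.range (chart n k i)) :
    ∃ (a : Fin (n + 1) → R) (hi : IsUnit (a i)), q = pt a i hi := by
  have hr : Set.range q ⊆ Set.range (chart n k i) := by
    have h1 : closedPoint R ∈ q ⁻¹ᵁ (chart n k i).opensRange := h
    have h2 : q ⁻¹ᵁ (chart n k i).opensRange = ⊤ := (closed_point_mem_iff (R := R)).mp h1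
    rintro _ ⟨y, rfl⟩
    have h3 : y ∈ q ⁻¹ᵁ (chart n k i).opensRange := by rw [h2]; trivial
    exact h3
  let χ : Chart n k i →+* R := (Spec.preimage (IsOpenImmersion.lift (chart n k i) q hr)).hom
  have hχ : Spec.map (CommRingCat.ofHom χ) ≫ chart n k i = q := by
    rw [CommRingCat.ofHom_hom, Spec.map_preimage, IsOpenImmersion.lift_fac]
  have h1 : χ (coord n k i i) = 1 := by rw [coord_self, map_one]
  have hi : IsUnit (χ (coord n k i i)) := by rw [h1]; exact isUnit_one
  have hC : ∀ r, χ (chartC n k i r) = algebraMap k R r := by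
    intro r
    have h2 : Spec.map (CommRingCat.ofHom χ) ≫ chart n k i ≫ CohB1.ProjSpace.toSpec n k =
        Spec.map (CommRingCat.ofHom (algebraMap k R)) := by rw [← Category.assoc, hχ, hq]
    rw [chart_toSpec, ← Spec.map_comp] at h2
    have h3 := Spec.map_injective h2
    exact congrArg (fun f => f.hom r) h3
  refine ⟨fun j => χ (coord n k i j), hi, ?_⟩
  rw [pt, ← eq_cpt (fun j => χ (coord n k i j)) i hi χ hC (fun j => by simp only [h1, mul_one]), hχ]

variable {K : Type u} [Field K] [Algebra R K] [IsFractionRing R K] [Algebra k K] [IsScalarTower k R K]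
  {L : Type u} [Field L] [Algebra k L]

/-- the values of homogeneous coordinates of a rational map at a point where the rational map is defined are proportional to
the coordinates of the value -/
theorem proportional (φ : Spec (CommRingCat.of K) ⟶ CohB1.ProjSpace n k) (q : Spec (CommRingCat.of R) ⟶ CohB1.ProjSpace n k)
    (hq : q ≫ CohB1.ProjSpace.toSpec n k = Spec.map (CommRingCat.ofHom (algebraMap k R)))
    (hqφ : Spec.map (CommRingCat.ofHom (algebraMap R K)) ≫ q = φ) (ε : R →ₐ[k] L) [IsLocalHom (ε : R →+* L)]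
    (p : Fin (n + 1) → L) (i : Fin (n + 1)) (hi : IsUnit (p i))
    (hp : Spec.map (CommRingCat.ofHom (ε : R →+* L)) ≫ q = pt (k := k) p i hi)
    (f : Fin (n + 1) → R) (hf : ∀ j (hj : IsUnit (algebraMap R K (f j))), φ = pt (k := k) (fun j => algebraMap R K (f j)) j hj)
    (m : Fin (n + 1)) : ε (f m) * p i = ε (f i) * p m := by
  have hcl : q (closedPoint R) ∈ Set.range (chart n k i) := by
    have h0 : IsLocalHom (CommRingCat.ofHom (ε : R →+* L)).hom := ‹_›
    have h1 : Spec.map (CommRingCat.ofHom (ε : R →+* L)) (closedPoint L) = closedPoint R :=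
      Spec_closedPoint (R := CommRingCat.of R) (S := CommRingCat.of L) (f := CommRingCat.ofHom (ε : R →+* L))
    rw [← h1]
    have h2 : (Spec.map (CommRingCat.ofHom (ε : R →+* L)) ≫ q) (closedPoint L) =
        q (Spec.map (CommRingCat.ofHom (ε : R →+* L)) (closedPoint L)) := rfl
    rw [← h2, hp]
    exact ⟨_, rfl⟩
  obtain ⟨a, ha, rfl⟩ := exists_eq_pt_of_mem q hq i hcl
  have hεa : IsUnit (ε (a i)) := ha.map ε
  rw [map_pt (k := k) a i ha ε (fun j => ε (a j)) (fun _ => rfl) hεa] at hp
  have h1 : ε (a m) * p i = ε (a i) * p m := mul_eq_mul (k := k) _ _ i i hεa hi hp m i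
  have h2 : f m * a i = a m * f i := by
    by_cases h0 : ∃ j, f j ≠ 0
    · obtain ⟨j, hj⟩ := h0
      have hj' : IsUnit (algebraMap R K (f j)) := by
        rw [isUnit_iff_ne_zero, Ne, map_eq_zero_iff _ (IsFractionRing.injective R K)]
        exact hj
      have haK : IsUnit (algebraMap R K (a i)) := ha.map _
      have h3 := hf j hj'
      rw [← hqφ] at h3
      have h4 := map_pt (k := k) a i ha (IsScalarTower.toAlgHom k R K) (fun j => algebraMap R K (a j)) (fun j => rfl) haK
      have h5 : pt (k := k) (fun j => algebraMap R K (a j)) i haK = pt (k := k) (fun j => algebraMap R K (f j)) j hj' := by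
        rw [← h4, ← h3]
        rfl
      have h6 := mul_eq_mul (k := k) _ _ i j haK hj' h5 i m
      apply IsFractionRing.injective R K
      rw [map_mul, map_mul, ← h6]
      ring
    · push Not at h0
      rw [h0 m, h0 i]
      ring
  have h3 := congrArg ε h2
  rw [map_mul, map_mul] at h3
  apply hεa.mul_right_cancel
  calc ε (f m) * p i * ε (a i) = (ε (f m) * ε (a i)) * p i := by ring
    _ = (ε (a m) * p i) * ε (f i) := by rw [h3]; ring
    _ = ε (f i) * p m * ε (a i) := by rw [h1]; ring

end Local

end K888.PtCmp
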