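import Groth.Agent.RatCurv.K888.BinForm

set_option autoImplicit false

/-!
# Trisecant lines of rational quintics in P^3 through binary forms
-/

open MvPolynomial K888.BinForm

namespace K888.Quintic

universe u

variable {K : Type u} [Field K]

theorem exists_two_of_finrank_eq_two {X : Type*} [AddCommGroup X] [Module K X] (W : Submodule K X)
    (h : Module.finrank K W = 2) : ∃ a ∈ W, ∃ b ∈ W, (∀ s t : K, s • a + t • b = 0 → s = 0 ∧ t = 0) ∧
      ∀ w ∈ W, ∃ s t : K, w = s • a + t • b := by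
  have : Module.Finite K W := Module.finite_of_finrank_pos (by omega)
  let e := Module.finBasisOfFinrankEq K W h
  refine ⟨(e 0).1, (e 0).2, (e 1).1, (e 1).2, fun s t hst => ?_, fun w hw => ?_⟩
  · have h1 : ∑ i, ![s, t] i • e i = 0 := by
      rw [Fin.sum_univ_two]
      exact Subtype.ext hst
    have h2 := Fintype.linearIndependent_iff.mp e.linearIndependent ![s, t] h1
    exact ⟨h2 0, h2 1⟩
  · have h1 := e.sum_repr ⟨w, hw⟩
    rw [Fin.sum_univ_two] at h1
    exact ⟨_, _, (congrArg Subtype.val h1).symm⟩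

theorem finrank_map_mul (g : MvPolynomial (Fin 2) K) (hg : g ≠ 0) (n : ℕ) :
    Module.finrank K ((S K n).map (LinearMap.mulLeft K g)) = n + 1 := by
  have hinj : Function.Injective (LinearMap.mulLeft K g) := by
    intro a b hab
    exact mul_left_cancel₀ hg hab
  rw [← finrank_S (K := K) n]
  exact (Submodule.equivMapOfInjective _ hinj _).symm.finrank_eq

instance finite_map (g : MvPolynomial (Fin 2) K) (n : ℕ) :
    Module.Finite K ((S K n).map (LinearMap.mulLeft K g)) :=
  Module.Finite.map _ _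

variable (V : Submodule K (MvPolynomial (Fin 2) K))

theorem not_forall_mul_mem [IsAlgClosed K] (hV : V ≤ S K 5) (hdim : Module.finrank K V = 4)
    (hsep : ∀ e ∈ homogeneousSubmodule (Fin 2) K 2, e ≠ 0 →
      ∀ F ∈ homogeneousSubmodule (Fin 2) K 5, ∃ v ∈ V,
        ∃ h ∈ homogeneousSubmodule (Fin 2) K 3, F = v + e * h)
    (g : MvPolynomial (Fin 2) K) (hg : g ∈ S K 3) (hg0 : g ≠ 0) : ¬ ∀ h ∈ S K 2, g * h ∈ V := by
  intro hall
  obtain ⟨L, hL, q, hq, rfl⟩ := exists_factor g hg
  have hL0 : L ≠ 0 := left_ne_zero_of_mul hg0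
  have hq0 : q ≠ 0 := right_ne_zero_of_mul hg0
  have hVfin : Module.Finite K V := Module.finite_of_finrank_pos (by omega)
  let A : Submodule K (MvPolynomial (Fin 2) K) := (S K 3).map (LinearMap.mulLeft K q)
  have hAle : A ≤ S K 5 := by
    rintro _ ⟨h, hh, rfl⟩
    exact ((mem_homogeneousSubmodule _ _).1 hq).mul ((mem_homogeneousSubmodule _ _).1 hh)
  have hsup : V ⊔ A = S K 5 := by
    apply le_antisymm (sup_le hV hAle)
    intro F hF
    obtain ⟨v, hv, h, hh, rfl⟩ := hsep q hq hq0 F hF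
    exact Submodule.add_mem_sup hv ⟨h, hh, rfl⟩
  have h1 := Submodule.finrank_sup_add_finrank_inf_eq V A
  rw [hsup, finrank_S, hdim, finrank_map_mul q hq0] at h1
  have hB : (S K 2).map (LinearMap.mulLeft K (L * q)) ≤ V ⊓ A := by
    rintro _ ⟨h, hh, rfl⟩
    refine ⟨hall h hh, L * h, ?_, ?_⟩
    · exact ((mem_homogeneousSubmodule _ _).1 hL).mul ((mem_homogeneousSubmodule _ _).1 hh)
    · simp only [LinearMap.mulLeft_apply]
      ring
  have hfin : Module.Finite K ↥(V ⊓ A) := Submodule.finiteDimensional_inf_left _ _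
  have h2 := Submodule.finrank_mono hB
  rw [finrank_map_mul _ hg0] at h2
  omega

/-- The core statement: infinitely many trisecant lines. -/
theorem exists_cubic [IsAlgClosed K] (hV : V ≤ S K 5) (hdim : Module.finrank K V = 4)
    (hsep : ∀ e ∈ homogeneousSubmodule (Fin 2) K 2, e ≠ 0 →
      ∀ F ∈ homogeneousSubmodule (Fin 2) K 5, ∃ v ∈ V,
        ∃ h ∈ homogeneousSubmodule (Fin 2) K 3, F = v + e * h)
    (F : Finset (MvPolynomial (Fin 2) K)) :
    ∃ g ∈ S K 3, g ≠ 0 ∧ 2 ≤ Module.finrank K ↥(V ⊓ (S K 2).map (LinearMap.mulLeft K g)) ∧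
      ∀ g' ∈ F, ∀ c : K, g ≠ c • g' := by
  let V' : Submodule K (S K 5) := V.submoduleOf (S K 5)
  have hV' : Module.finrank K V' = 4 := by rw [(Submodule.submoduleOfEquivOfLe hV).finrank_eq, hdim]
  have hann : Module.finrank K V'.dualAnnihilator = 2 := by
    have := Subspace.finrank_add_finrank_dualAnnihilator_eq V'
    rw [hV', finrank_S] at this
    omega
  obtain ⟨l₀, h₀, l₁, h₁, hind, hspan⟩ := exists_two_of_finrank_eq_two _ hann
  have hlV : ∀ s t : K, ∀ v : S K 5, v.1 ∈ V → (s • l₀ + t • l₁) v = 0 := fun s t v hv =>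
    (Submodule.mem_dualAnnihilator _).mp
      (Submodule.add_mem _ (Submodule.smul_mem _ s h₀) (Submodule.smul_mem _ t h₁)) v hv
  have hcommon : ∀ v : S K 5, l₀ v = 0 → l₁ v = 0 → v.1 ∈ V := by
    intro v hv0 hv1
    have : v ∈ V'.dualAnnihilator.dualCoannihilator := by
      rw [Submodule.mem_dualCoannihilator]
      intro l hl
      obtain ⟨s, t, rfl⟩ := hspan l hl
      simp [hv0, hv1]
    rw [Subspace.dualAnnihilator_dualCoannihilator_eq] at this
    exact this
  -- the cubic attached to a parameter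
  have hgt : ∀ t : K, ∃ g : S K 3, g ≠ 0 ∧ ∀ h : S K 2, (l₀ + t • l₁) (mulS 3 2 5 rfl g h) = 0 := by
    intro t
    have hne : (l₀ + t • l₁) ≠ 0 := by
      intro h0
      have := (hind 1 t (by rw [one_smul]; exact h0)).1
      exact one_ne_zero this
    have h1 := finrank_ker_cat 3 2 5 rfl (l₀ + t • l₁) (fun b hb => exists_ne_zero_of_sep V hsep hV _
      (fun v hv => by simpa using hlV 1 t v hv) hne b hb)
    obtain ⟨g, hg, hg0⟩ := exists_ne_zero_of_finrank_eq _ 0 (show Module.finrank K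
      (LinearMap.ker (cat 3 2 5 rfl (l₀ + t • l₁))) = 0 + 1 by omega)
    exact ⟨g, hg0, fun h => LinearMap.congr_fun (LinearMap.mem_ker.mp hg) h⟩
  choose g hg0 hg using hgt
  have hrank : ∀ t : K, 2 ≤ Module.finrank K ↥(V ⊓ (S K 2).map (LinearMap.mulLeft K (g t).1)) := by
    intro t
    have hVfin : Module.Finite K V := Module.finite_of_finrank_pos (by omega)
    have hne : (l₀ + t • l₁) ≠ 0 := by
      intro h0
      have := (hind 1 t (by rw [one_smul]; exact h0)).1
      exact one_ne_zero this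
    let H : Submodule K (MvPolynomial (Fin 2) K) := (LinearMap.ker (l₀ + t • l₁)).map (S K 5).subtype
    have hH : Module.finrank K H = 5 := by
      have e1 : Module.finrank K H = Module.finrank K (LinearMap.ker (l₀ + t • l₁)) :=
        (Submodule.equivMapOfInjective _ (Submodule.injective_subtype _) _).symm.finrank_eq
      have h1 := LinearMap.finrank_range_add_finrank_ker (l₀ + t • l₁)
      rw [LinearMap.range_eq_top.mpr (LinearMap.surjective hne), finrank_top, Module.finrank_self, finrank_S] at h1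
      omega
    have hHfin : Module.Finite K H := Module.finite_of_finrank_pos (by omega)
    have hsup : V ⊔ (S K 2).map (LinearMap.mulLeft K (g t).1) ≤ H := by
      apply sup_le
      · intro v hv
        exact ⟨⟨v, hV hv⟩, by simpa using hlV 1 t ⟨v, hV hv⟩ hv, rfl⟩
      · rintro _ ⟨h, hh, rfl⟩
        exact ⟨mulS 3 2 5 rfl (g t) ⟨h, hh⟩, hg t ⟨h, hh⟩, rfl⟩
    have h1 := Submodule.finrank_sup_add_finrank_inf_eq V ((S K 2).map (LinearMap.mulLeft K (g t).1))
    rw [hdim, finrank_map_mul _ (fun h => hg0 t (Subtype.ext h))] at h1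
    have h2 := Submodule.finrank_mono hsup
    omega
  by_contra hcon
  push Not at hcon
  have hF : ∀ t : K, ∃ g' : F, ∃ c : K, (g t).1 = c • g'.1 := by
    intro t
    obtain ⟨g', hg', c, hc⟩ := hcon (g t).1 (g t).2 (fun h => hg0 t (Subtype.ext h)) (hrank t)
    exact ⟨⟨g', hg'⟩, c, hc⟩
  choose G c hc using hF
  have : Infinite K := IsAlgClosed.instInfinite
  obtain ⟨t, t', htt', hG⟩ := Finite.exists_ne_map_eq_of_infinite G
  -- `g t` is killed by both forms
  have hct : c t ≠ 0 := by
    intro h0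
    have := hc t
    rw [h0, zero_smul] at this
    exact hg0 t (Subtype.ext this)
  have hct' : c t' ≠ 0 := by
    intro h0
    have := hc t'
    rw [h0, zero_smul] at this
    exact hg0 t' (Subtype.ext this)
  have hprop : g t' = (c t' * (c t)⁻¹) • g t := by
    apply Subtype.ext
    rw [Submodule.coe_smul, hc t, hc t', ← hG, smul_smul, mul_assoc, inv_mul_cancel₀ hct, mul_one]
  have hk1 : ∀ h : S K 2, (l₀ + t' • l₁) (mulS 3 2 5 rfl (g t) h) = 0 := by
    intro h
    have h1 := hg t' h
    rw [hprop, map_smul, LinearMap.smul_apply, map_smul, smul_eq_mul] at h1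
    rcases mul_eq_zero.mp h1 with h2 | h2
    · exact absurd h2 (mul_ne_zero hct' (inv_ne_zero hct))
    · exact h2
  apply not_forall_mul_mem V hV hdim hsep (g t).1 (g t).2 (fun h => hg0 t (Subtype.ext h))
  intro h hh
  have e1 := hg t ⟨h, hh⟩
  have e2 := hk1 ⟨h, hh⟩
  rw [LinearMap.add_apply, LinearMap.smul_apply, smul_eq_mul] at e1 e2
  have e3 : (t - t') * l₁ (mulS 3 2 5 rfl (g t) ⟨h, hh⟩) = 0 := by linear_combination e1 - e2
  have e4 : l₁ (mulS 3 2 5 rfl (g t) ⟨h, hh⟩) = 0 := by
    rcases mul_eq_zero.mp e3 with h5 | h5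
    · exact absurd (sub_eq_zero.mp h5) htt'
    · exact h5
  have e5 : l₀ (mulS 3 2 5 rfl (g t) ⟨h, hh⟩) = 0 := by
    rw [e4, mul_zero, add_zero] at e1
    exact e1
  exact hcommon _ e5 e4

end K888.Quintic
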