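import Mathlib.AlgebraicGeometry.Stalk
import Mathlib.AlgebraicGeometry.AlgClosed.Basic

set_option autoImplicit false

/-!
# Elements in the range of the map of local rings given by a morphism from the spectrum of a local ring
-/

universe u

open CategoryTheory AlgebraicGeometry IsLocalRing

namespace K888.RangePt

/-- `r` is in the image of the local ring at the image of the closed point -/
def InRange {X : Scheme.{u}} {R : CommRingCat.{u}} [IsLocalRing R] (f : Spec R ⟶ X) (r : R) : Prop :=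
  ∃ t : X.presheaf.stalk (f (closedPoint R)), (Scheme.stalkClosedPointTo f).hom t = r

theorem inRange_fromSpecStalk {X : Scheme.{u}} {R : CommRingCat.{u}} [IsLocalRing R] {x : X}
    (φ : X.presheaf.stalk x ⟶ R) [IsLocalHom φ.hom] (t : X.presheaf.stalk x) :
    InRange (Spec.map φ ≫ X.fromSpecStalk x) (φ.hom t) := by
  obtain ⟨U, hU, s, rfl⟩ := TopCat.Presheaf.exists_germ_eq X.presheaf t
  have hx : (Spec.map φ ≫ X.fromSpecStalk x) (closedPoint R) = x :=
    (Scheme.Hom.comp_apply (Spec.map φ) (X.fromSpecStalk x) (closedPoint R)).trans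
      ((congrArg (X.fromSpecStalk x) (Spec_closedPoint (f := φ))).trans (Scheme.fromSpecStalk_closedPoint (x := x)))
  have hU' : (Spec.map φ ≫ X.fromSpecStalk x) (closedPoint R) ∈ U := by rw [hx]; exact hU
  refine ⟨X.presheaf.germ U _ hU' s, ?_⟩
  exact congrArg (fun g => g.hom s) (Scheme.germ_stalkClosedPointTo_Spec_fromSpecStalk φ U hU')

theorem InRange.of_comp {X Y : Scheme.{u}} {R : CommRingCat.{u}} [IsLocalRing R] {f : Spec R ⟶ X} {g : X ⟶ Y} {r : R}
    (h : InRange (f ≫ g) r) : InRange f r := by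
  obtain ⟨t, ht⟩ := h
  refine ⟨(g.stalkMap _).hom t, ?_⟩
  rw [Scheme.stalkClosedPointTo_comp] at ht
  exact ht

theorem InRange.map {X : Scheme.{u}} {R R' : CommRingCat.{u}} [IsLocalRing R] [IsLocalRing R'] {f : Spec R ⟶ X} {r : R}
    (h : InRange f r) (ψ : R ⟶ R') [IsLocalHom ψ.hom] : InRange (Spec.map ψ ≫ f) (ψ.hom r) := by
  obtain ⟨t, rfl⟩ := h
  have h1 : Spec.map ψ ≫ f = Spec.map (Scheme.stalkClosedPointTo f ≫ ψ) ≫ X.fromSpecStalk _ := by
    rw [Spec.map_comp, Category.assoc, Scheme.Spec_stalkClosedPointTo_fromSpecStalk]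
  have h2 : IsLocalHom (Scheme.stalkClosedPointTo f ≫ ψ).hom := by
    rw [CommRingCat.hom_comp]
    infer_instance
  rw [h1]
  exact inRange_fromSpecStalk (Scheme.stalkClosedPointTo f ≫ ψ) t

end K888.RangePt
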