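import Groth.Prelude.Def_W4c3cyccovratcurvTree
import Mathlib.Combinatorics.SimpleGraph.Acyclic
import Mathlib.Combinatorics.SimpleGraph.Walk.Basic
import Mathlib.Data.Set.Card

set_option autoImplicit false

/-!
# Conic deformations connect all marked trees of the same size
-/

open W4c3cyccovratcurv

namespace K888.Tree

variable {n : ℕ} (G : SimpleGraph (Fin n)) (c w : Fin n)

/-- move all neighbours of `w` other than `c` to `c` -/
def move : SimpleGraph (Fin n) where
  Adj a b := a ≠ b ∧ ((a = w ∧ b = c) ∨ (a = c ∧ b = w) ∨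
    (a ≠ w ∧ b ≠ w ∧ (G.Adj a b ∨ (a = c ∧ G.Adj w b) ∨ (b = c ∧ G.Adj w a))))
  symm := ⟨by
    rintro a b ⟨hab, h⟩
    refine ⟨hab.symm, ?_⟩
    rcases h with ⟨h1, h2⟩ | ⟨h1, h2⟩ | ⟨h1, h2, h3 | h3 | h3⟩
    · exact Or.inr (Or.inl ⟨h2, h1⟩)
    · exact Or.inl ⟨h2, h1⟩
    · exact Or.inr (Or.inr ⟨h2, h1, Or.inl h3.symm⟩)
    · exact Or.inr (Or.inr ⟨h2, h1, Or.inr (Or.inr h3)⟩)
    · exact Or.inr (Or.inr ⟨h2, h1, Or.inr (Or.inl h3)⟩)⟩
  loopless := ⟨fun a h => h.1 rfl⟩

theorem contract_move (hcw : c ≠ w) : contract (move G c w) c w = contract G c w := by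
  ext ⟨a, ha⟩ ⟨b, hb⟩
  simp only [contract, SimpleGraph.fromRel_adj, move, ne_eq, Subtype.mk.injEq]
  constructor
  · rintro ⟨hab, h⟩
    refine ⟨hab, ?_⟩
    rcases h with (h | h) | (h | h)
    · rcases h.2 with ⟨h1, h2⟩ | ⟨h1, h2⟩ | ⟨h1, h2, h3 | h3 | h3⟩
      · exact absurd h1 ha
      · exact absurd h2 hb
      · exact Or.inl (Or.inl h3)
      · exact Or.inl (Or.inr h3)
      · exact Or.inr (Or.inr h3)
    · rcases h.2.2 with ⟨h1, h2⟩ | ⟨h1, h2⟩ | ⟨h1, h2, h3⟩
      · exact absurd (h.1.trans h2.symm) hab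
      · exact absurd h2 hb
      · exact absurd trivial h1
    · rcases h.2 with ⟨h1, h2⟩ | ⟨h1, h2⟩ | ⟨h1, h2, h3 | h3 | h3⟩
      · exact absurd h1 hb
      · exact absurd h2 ha
      · exact Or.inr (Or.inl h3)
      · exact Or.inr (Or.inr h3)
      · exact Or.inl (Or.inr h3)
    · rcases h.2.2 with ⟨h1, h2⟩ | ⟨h1, h2⟩ | ⟨h1, h2, h3⟩
      · exact absurd (h.1.trans h2.symm).symm hab
      · exact absurd h2 ha
      · exact absurd trivial h1
  · rintro ⟨hab, h⟩
    refine ⟨hab, ?_⟩
    rcases h with (h | h) | (h | h)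
    · exact Or.inl (Or.inl ⟨hab, Or.inr (Or.inr ⟨ha, hb, Or.inl h⟩)⟩)
    · exact Or.inl (Or.inl ⟨hab, Or.inr (Or.inr ⟨ha, hb, Or.inr (Or.inl h)⟩)⟩)
    · exact Or.inl (Or.inl ⟨hab, Or.inr (Or.inr ⟨ha, hb, Or.inl h.symm⟩)⟩)
    · exact Or.inl (Or.inl ⟨hab, Or.inr (Or.inr ⟨ha, hb, Or.inr (Or.inr h)⟩)⟩)

theorem move_adj_cw (hcw : c ≠ w) : (move G c w).Adj c w := ⟨hcw, Or.inr (Or.inl ⟨rfl, rfl⟩)⟩

theorem move_adj_of_adj {b : Fin n} (h : G.Adj c b) (hcw : c ≠ w) : (move G c w).Adj c b := by
  by_cases hb : b = w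
  · subst hb; exact move_adj_cw G c b hcw
  · exact ⟨h.ne, Or.inr (Or.inr ⟨hcw, hb, Or.inl h⟩)⟩

theorem move_adj_of_adj' {b : Fin n} (h : G.Adj w b) (hb : b ≠ c) (hcw : c ≠ w) : (move G c w).Adj c b :=
  ⟨hb.symm, Or.inr (Or.inr ⟨hcw, h.ne.symm, Or.inr (Or.inl ⟨rfl, h⟩)⟩)⟩

theorem connected_move (hG : G.Connected) (hcw : c ≠ w) : (move G c w).Connected := by
  classical
  have key : ∀ a b : Fin n, G.Reachable a b → (move G c w).Reachable (if a = w then c else a) (if b = w then c else b) := by
    rintro a b ⟨p⟩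
    induction p with
    | nil => exact SimpleGraph.Reachable.refl _
    | @cons a b d h p ih =>
      refine SimpleGraph.Reachable.trans ?_ ih
      by_cases ha : a = w
      · by_cases hb : b = w
        · rw [if_pos ha, if_pos hb]
        · rw [if_pos ha, if_neg hb]
          by_cases hbc : b = c
          · rw [hbc]
          · exact SimpleGraph.Adj.reachable (move_adj_of_adj' G c w (ha ▸ h) hbc hcw)
      · by_cases hb : b = w
        · rw [if_neg ha, if_pos hb]
          by_cases hac : a = c
          · rw [hac]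
          · exact SimpleGraph.Adj.reachable (move_adj_of_adj' G c w (hb ▸ h.symm) hac hcw).symm
        · rw [if_neg ha, if_neg hb]
          exact SimpleGraph.Adj.reachable ⟨h.ne, Or.inr (Or.inr ⟨ha, hb, Or.inl h⟩)⟩
  have hr : ∀ a, (move G c w).Reachable a c := by
    intro a
    by_cases ha : a = w
    · rw [ha]; exact (move_adj_cw G c w hcw).symm.reachable
    · have := key a c (hG.preconnected a c)
      rwa [if_neg ha, if_neg hcw] at this
  have : Nonempty (Fin n) := ⟨c⟩
  exact ⟨fun a b => (hr a).trans (hr b).symm⟩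

theorem isTree_move (hG : G.IsTree) (hadj : G.Adj c w) : (move G c w).IsTree := by
  classical
  have hcw := hadj.ne
  have hconn := connected_move G c w hG.connected hcw
  rw [SimpleGraph.isTree_iff_connected_and_card]
  refine ⟨hconn, le_antisymm ?_ hconn.card_vert_le_card_edgeSet_add_one⟩
  have h1 := (SimpleGraph.isTree_iff_connected_and_card.mp hG).2
  rw [← h1]
  refine Nat.add_le_add_right ?_ 1
  rw [Nat.card_coe_set_eq, Nat.card_coe_set_eq]
  let f : Fin n → Fin n := fun v => if v = w then c else v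
  let F : Sym2 (Fin n) → Sym2 (Fin n) := fun e => if e = s(c, w) then s(c, w) else Sym2.map f e
  have hsub : (move G c w).edgeSet ⊆ F '' G.edgeSet := by
    intro e
    induction e using Sym2.ind with
    | _ a b =>
      intro he
      rw [SimpleGraph.mem_edgeSet] at he
      obtain ⟨hab, h⟩ := he
      rcases h with ⟨h1, h2⟩ | ⟨h1, h2⟩ | ⟨h1, h2, h3 | h3 | h3⟩
      · refine ⟨s(c, w), hadj, ?_⟩
        simp only [F, if_true]
        rw [h1, h2]
        exact Sym2.eq_swap
      · refine ⟨s(c, w), hadj, ?_⟩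
        simp only [F, if_true]
        rw [h1, h2]
      · refine ⟨s(a, b), h3, ?_⟩
        have hne : s(a, b) ≠ s(c, w) := by
          intro h
          rw [Sym2.eq_iff] at h
          rcases h with ⟨_, h⟩ | ⟨h, _⟩
          · exact h2 h
          · exact h1 h
        simp only [F, if_neg hne, Sym2.map_mk, f, if_neg h1, if_neg h2]
      · refine ⟨s(w, b), h3.2, ?_⟩
        have hbc : b ≠ c := fun h => hab (h3.1.trans h.symm)
        have hne : s(w, b) ≠ s(c, w) := by
          intro h
          rw [Sym2.eq_iff] at h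
          rcases h with ⟨_, h⟩ | ⟨_, h⟩
          · exact h2 h
          · exact hbc h
        simp only [F, if_neg hne, Sym2.map_mk, f, if_true, if_neg h2]
        rw [h3.1]
      · refine ⟨s(a, w), h3.2.symm, ?_⟩
        have hac : a ≠ c := fun h => hab (h.trans h3.1.symm)
        have hne : s(a, w) ≠ s(c, w) := by
          intro h
          rw [Sym2.eq_iff] at h
          rcases h with ⟨h, _⟩ | ⟨h, _⟩
          · exact hac h
          · exact h1 h
        simp only [F, if_neg hne, Sym2.map_mk, f, if_true, if_neg h1]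
        rw [h3.1]
  exact (Set.ncard_le_ncard hsub (Set.toFinite _)).trans (Set.ncard_image_le (Set.toFinite _))

section Marked

variable {k : ℕ}

/-- the star with centre `c` -/
def star (c : Fin n) : SimpleGraph (Fin n) where
  Adj a b := a ≠ b ∧ (a = c ∨ b = c)
  symm := ⟨fun _ _ h => ⟨h.1.symm, h.2.symm⟩⟩
  loopless := ⟨fun _ h => h.1 rfl⟩

theorem connected_star (c : Fin n) : (star c).Connected := by
  have hr : ∀ a, (star c).Reachable a c := by
    intro a
    by_cases ha : a = c
    · rw [ha]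
    · exact SimpleGraph.Adj.reachable ⟨ha, Or.inr rfl⟩
  have : Nonempty (Fin n) := ⟨c⟩
  exact ⟨fun a b => (hr a).trans (hr b).symm⟩

theorem eq_star (hG : G.IsTree) (h : ∀ v, v ≠ c → G.Adj c v) : G = star c := by
  have hle : star c ≤ G := by
    rintro a b ⟨hab, h1 | h1⟩
    · subst h1; exact h b hab.symm
    · subst h1; exact (h a hab).symm
  exact le_antisymm ((SimpleGraph.isTree_iff_minimal_connected.mp hG).2 (connected_star c) hle) hle

theorem isTree_star (c : Fin n) (hT : ∃ G : SimpleGraph (Fin n), G.IsTree) : (star c).IsTree := by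
  classical
  rw [SimpleGraph.isTree_iff_minimal_connected]
  refine ⟨connected_star c, fun H hH hle => ?_⟩
  rintro a b ⟨hab, h⟩
  -- every vertex other than `c` is adjacent to `c` in `H`
  have key : ∀ v, v ≠ c → H.Adj c v := by
    intro v hv
    obtain ⟨p⟩ := hH.preconnected v c
    obtain ⟨d, -, hd1, hd2⟩ := p.exists_boundary_dart {v} rfl (by simpa using hv.symm)
    have h1 : d.fst = v := hd1
    have h2 := hle d.adj
    rcases h2.2 with h3 | h3
    · exact absurd (h1.symm.trans h3) hv
    · have := d.adj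
      rw [h1, h3] at this
      exact this.symm
  rcases h with h | h
  · subst h; exact key b hab.symm
  · subst h; exact (key a hab).symm

/-- the marked tree obtained by moving everything at `w` to `c` -/
def moveTree (T : MarkedTree k) (c w : Fin T.n) (h : T.graph.Adj c w) : MarkedTree k where
  n := T.n
  graph := move T.graph c w
  isTree := isTree_move T.graph c w T.isTree h
  mark i := if T.mark i = w then c else T.mark i

theorem conicAdj_moveTree (T : MarkedTree k) (c w : Fin T.n) (h : T.graph.Adj c w) :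
    ConicAdj T (moveTree T c w h) := by
  refine ⟨c, w, c, w, h, move_adj_cw T.graph c w h.ne, ?_, ?_, ?_⟩
  · exact
      { toEquiv := Equiv.refl _
        map_rel_iff' := by
          intro a b
          change (contract (move T.graph c w) c w).Adj a b ↔ _
          rw [contract_move T.graph c w h.ne] }
  · rfl
  · intro i
    change contractMark T.mark c w h.ne i = contractMark (fun i => if T.mark i = w then c else T.mark i) c w h.ne i
    by_cases hi : T.mark i = w
    · simp only [contractMark, hi, dif_pos, if_true, dif_neg h.ne]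
    · simp only [contractMark, hi, dif_neg, if_false, not_false_eq_true]

theorem conicAdj_symm {T₁ T₂ : MarkedTree k} (h : ConicAdj T₁ T₂) : ConicAdj T₂ T₁ := by
  obtain ⟨u₁, w₁, u₂, w₂, h₁, h₂, φ, hφ, hm⟩ := h
  refine ⟨u₂, w₂, u₁, w₁, h₂, h₁, φ.symm, ?_, ?_⟩
  · rw [← hφ]; exact φ.symm_apply_apply _
  · intro i
    rw [← hm]; exact φ.symm_apply_apply _

theorem rtg_symm {T₁ T₂ : MarkedTree k} (h : Relation.ReflTransGen ConicAdj T₁ T₂) :
    Relation.ReflTransGen ConicAdj T₂ T₁ := by
  induction h with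
  | refl => exact Relation.ReflTransGen.refl
  | tail _ h ih => exact Relation.ReflTransGen.head (conicAdj_symm h) ih

open Classical in
/-- the measure of the distance to the normal form -/
noncomputable def meas (G : SimpleGraph (Fin n)) (m : Fin k → Fin n) (c : Fin n) : ℕ :=
  (Finset.univ.filter fun v => v ≠ c ∧ ¬ G.Adj c v).card + (Finset.univ.filter fun i => m i ≠ c).card

theorem meas_lt (G : SimpleGraph (Fin n)) (m : Fin k → Fin n) (c w : Fin n) (h : G.Adj c w)
    (hx : (∃ x, G.Adj w x ∧ x ≠ c ∧ ¬ G.Adj c x) ∨ ∃ i, m i = w) :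
    meas (move G c w) (fun i => if m i = w then c else m i) c < meas G m c := by
  classical
  unfold meas
  have h1 : (Finset.univ.filter fun v => v ≠ c ∧ ¬ (move G c w).Adj c v) ⊆
      (Finset.univ.filter fun v => v ≠ c ∧ ¬ G.Adj c v) := by
    intro v
    simp only [Finset.mem_filter, Finset.mem_univ, true_and]
    rintro ⟨hv, hv'⟩
    exact ⟨hv, fun hcon => hv' (move_adj_of_adj G c w hcon h.ne)⟩
  have h2 : (Finset.univ.filter fun i => (fun i => if m i = w then c else m i) i ≠ c) ⊆
      (Finset.univ.filter fun i => m i ≠ c) := by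
    intro i
    simp only [Finset.mem_filter, Finset.mem_univ, true_and]
    intro hi
    split_ifs at hi with h'
    · exact absurd rfl hi
    · exact hi
  rcases hx with ⟨x, hx1, hx2, hx3⟩ | ⟨i, hi⟩
  · refine add_lt_add_of_lt_of_le (Finset.card_lt_card ?_) (Finset.card_le_card h2)
    rw [Finset.ssubset_iff_of_subset h1]
    refine ⟨x, by simp [hx2, hx3], ?_⟩
    simp only [Finset.mem_filter, Finset.mem_univ, true_and, not_and, not_not]
    intro _
    exact move_adj_of_adj' G c w hx1 hx2 h.ne
  · refine add_lt_add_of_le_of_lt (Finset.card_le_card h1) (Finset.card_lt_card ?_)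
    rw [Finset.ssubset_iff_of_subset h2]
    refine ⟨i, by simp [hi, h.ne.symm], ?_⟩
    simp [hi]

/-- the normal form -/
def normal (T : MarkedTree k) (c : Fin T.n) : MarkedTree k where
  n := T.n
  graph := star c
  isTree := isTree_star c ⟨T.graph, T.isTree⟩
  mark _ := c

theorem rtg_normal (N : ℕ) : ∀ (T : MarkedTree k) (c : Fin T.n), meas T.graph T.mark c = N →
    Relation.ReflTransGen ConicAdj T (normal T c) := by
  classical
  induction N using Nat.strong_induction_on with
  | _ N ih =>
    intro T c hN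
    by_cases hall : (∀ v, v ≠ c → T.graph.Adj c v) ∧ ∀ i, T.mark i = c
    · have hT : T = normal T c := by
        obtain ⟨n, G, hG, m⟩ := T
        have hG' : G = star c := eq_star G c hG hall.1
        have hm : m = fun _ => c := funext hall.2
        simp only [normal]
        congr
      rw [← hT]
    · -- find a vertex to contract
      have hx : ∃ w, T.graph.Adj c w ∧ ((∃ x, T.graph.Adj w x ∧ x ≠ c ∧ ¬ T.graph.Adj c x) ∨ ∃ i, T.mark i = w) := by
        by_cases h1 : ∀ v, v ≠ c → T.graph.Adj c v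
        · have h2 : ∃ i, T.mark i ≠ c := by
            by_contra hcon
            push Not at hcon
            exact hall ⟨h1, hcon⟩
          obtain ⟨i, hi⟩ := h2
          exact ⟨T.mark i, h1 _ hi, Or.inr ⟨i, rfl⟩⟩
        · push Not at h1
          obtain ⟨v, hv, hcv⟩ := h1
          obtain ⟨p⟩ := T.isTree.connected.preconnected c v
          obtain ⟨d, -, hd1, hd2⟩ := p.exists_boundary_dart {x | x = c ∨ T.graph.Adj c x} (Or.inl rfl)
            (by simp only [Set.mem_setOf_eq, not_or]; exact ⟨hv, hcv⟩)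
          simp only [Set.mem_setOf_eq, not_or] at hd1 hd2
          rcases hd1 with hd1 | hd1
          · have := d.adj
            rw [hd1] at this
            exact absurd this hd2.2
          · exact ⟨d.fst, hd1, Or.inl ⟨d.snd, d.adj, hd2.1, hd2.2⟩⟩
      obtain ⟨w, hw, hx⟩ := hx
      have hlt := meas_lt T.graph T.mark c w hw hx
      have h3 := ih _ (hN ▸ hlt) (moveTree T c w hw) c rfl
      exact Relation.ReflTransGen.head (conicAdj_moveTree T c w hw) h3

theorem reflTransGen (T₁ T₂ : MarkedTree k) (h : T₁.n = T₂.n) : Relation.ReflTransGen ConicAdj T₁ T₂ := by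
  obtain ⟨n₁, G₁, hG₁, m₁⟩ := T₁
  obtain ⟨n₂, G₂, hG₂, m₂⟩ := T₂
  simp only at h
  subst h
  have : Nonempty (Fin n₁) := hG₁.connected.nonempty
  obtain ⟨c⟩ := this
  have e1 := rtg_normal _ ⟨n₁, G₁, hG₁, m₁⟩ c rfl
  have e2 := rtg_normal _ ⟨n₁, G₂, hG₂, m₂⟩ c rfl
  exact e1.trans (rtg_symm e2)

end Marked

end K888.Tree
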